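import Cfsg.Agent.Lib.MinusFourSymFour.Four

/-!
An involutory automorphism of the alternating group of degree five fixing one involution of a four group
and exchanging the two others fixes an element of order three inverted by the fixed one.
-/

set_option autoImplicit false
set_option linter.unusedSectionVars false
set_option linter.style.haveILetI false
set_option synthInstance.maxSize 2000
set_option synthInstance.maxHeartbeats 100000

namespace CfsgLib.MinusFourSymFour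

local notation "A₅" => alternatingGroup (Fin 5)

theorem t3_exists : ∀ v : A₅, v * v = 1 → v ≠ 1 → ∃ u : A₅, u * u = 1 ∧ u ≠ 1 ∧ (v * u) ^ 3 = 1 ∧ v * u ≠ 1 := by
  decide +kernel

theorem t3_regular : ∀ v : A₅, v * v = 1 → v ≠ 1 → ∀ w : A₅, w * w = 1 → w ≠ 1 → w ≠ v → v * w = w * v →
    ∀ u : A₅, u * u = 1 → u ≠ 1 → (v * u) ^ 3 = 1 → v * u ≠ 1 →
    (w * u * w ≠ u ∧ v * w * u * (v * w) ≠ u ∧ v * u * v ≠ u) ∧
      ∀ u' : A₅, u' * u' = 1 → u' ≠ 1 → (v * u') ^ 3 = 1 → v * u' ≠ 1 →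
        u' = u ∨ u' = v * u * v ∨ u' = w * u * w ∨ u' = v * w * u * (v * w) := by
  decide +kernel

theorem fixed_three {X : Type*} [Group X] {B : Subgroup X} (e : B ≃* A₅) {s v w : X} (hs2 : s * s = 1)
    (hn : ∀ x ∈ B, s * x * s ∈ B) (hv : v ∈ B) (v2 : v * v = 1) (v1 : v ≠ 1) (hw : w ∈ B) (w2 : w * w = 1)
    (w1 : w ≠ 1) (hwv : w ≠ v) (hvw : v * w = w * v) (sv' : s * v * s = v) (sw : s * w * s = v * w) :
    ∃ u ∈ B, u * u = 1 ∧ u ≠ 1 ∧ (v * u) ^ 3 = 1 ∧ v * u ≠ 1 ∧ s * u * s = u := by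
  have inj : ∀ {a b : B}, e a = e b → a = b := fun h => e.injective h
  have ne' : ∀ {a b : B}, a ≠ b → e a ≠ e b := fun h h' => h (inj h')
  have ne1 : ∀ {a : B}, a ≠ 1 → e a ≠ 1 := fun h h' => h (inj (h'.trans (map_one e).symm))
  have v2' : e ⟨v, hv⟩ * e ⟨v, hv⟩ = 1 := by
    rw [← map_mul, show (⟨v, hv⟩ : B) * ⟨v, hv⟩ = 1 from Subtype.ext v2, map_one]
  have w2' : e ⟨w, hw⟩ * e ⟨w, hw⟩ = 1 := by
    rw [← map_mul, show (⟨w, hw⟩ : B) * ⟨w, hw⟩ = 1 from Subtype.ext w2, map_one]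
  have v1' : e ⟨v, hv⟩ ≠ 1 := ne1 fun h => v1 (congrArg Subtype.val h)
  have w1' : e ⟨w, hw⟩ ≠ 1 := ne1 fun h => w1 (congrArg Subtype.val h)
  obtain ⟨u0', h2, h1, h3, hne⟩ := t3_exists _ v2' v1'
  obtain ⟨⟨u0, hu0⟩, rfl⟩ := e.surjective u0'
  have T : ∀ {u : X} (hu : u ∈ B), u * u = 1 → u ≠ 1 → (v * u) ^ 3 = 1 → v * u ≠ 1 →
      (e ⟨u, hu⟩ * e ⟨u, hu⟩ = 1 ∧ e ⟨u, hu⟩ ≠ 1 ∧ (e ⟨v, hv⟩ * e ⟨u, hu⟩) ^ 3 = 1 ∧
        e ⟨v, hv⟩ * e ⟨u, hu⟩ ≠ 1) := by
    intro u hu a b c d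
    refine ⟨?_, ne1 fun h => b (congrArg Subtype.val h), ?_, ?_⟩
    · rw [← map_mul, show (⟨u, hu⟩ : B) * ⟨u, hu⟩ = 1 from Subtype.ext a, map_one]
    · rw [← map_mul, ← map_pow, show ((⟨v, hv⟩ : B) * ⟨u, hu⟩) ^ 3 = 1 from Subtype.ext c, map_one]
    · rw [← map_mul]
      exact ne1 fun h => d (congrArg Subtype.val h)
  have u02 : u0 * u0 = 1 := congrArg Subtype.val (inj (a := ⟨u0, hu0⟩ * ⟨u0, hu0⟩) (b := 1)
    (by rw [map_mul, h2, map_one]))
  have u01 : u0 ≠ 1 := fun h => h1 (by rw [show (⟨u0, hu0⟩ : B) = 1 from Subtype.ext h, map_one])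
  have u03 : (v * u0) ^ 3 = 1 := congrArg Subtype.val (inj (a := (⟨v, hv⟩ * ⟨u0, hu0⟩) ^ 3) (b := 1)
    (by rw [map_pow, map_mul, h3, map_one]))
  have u0ne : v * u0 ≠ 1 := fun h => hne (by
    rw [← map_mul, show (⟨v, hv⟩ : B) * ⟨u0, hu0⟩ = 1 from Subtype.ext h, map_one])
  obtain ⟨⟨hw0, hvw0, hv0⟩, hall⟩ := t3_regular _ v2' v1' _ w2' w1'
    (ne' fun h => hwv (congrArg Subtype.val h))
    (by rw [← map_mul, ← map_mul]; exact congrArg e (Subtype.ext hvw)) _ h2 h1 h3 hne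
  have hconj : ∀ x y : X, s * (x * y) * s = s * x * s * (s * y * s) := fun x y => by
    rw [show s * x * s * (s * y * s) = s * x * (s * s) * y * s by group, hs2]; group
  have hss : ∀ x : X, s * (s * x * s) * s = x := fun x => by
    rw [show s * (s * x * s) * s = s * s * x * (s * s) by group, hs2]; group
  set u1 := s * u0 * s with hu1
  have u11 : u1 ≠ 1 := fun h => u01 (by rw [← hss u0, ← hu1, h, mul_one, hs2])
  have u1ne : v * u1 ≠ 1 := fun h => u0ne (by
    have e1 : s * (v * u0) * s = v * u1 := by rw [hconj, sv', hu1]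
    calc v * u0 = s * (s * (v * u0) * s) * s := (hss _).symm
      _ = 1 := by rw [e1, h, mul_one, hs2])
  have u13 : (v * u1) ^ 3 = 1 := by
    have : v * u1 = s * (v * u0) * s⁻¹ := by
      rw [inv_eq_of_mul_eq_one_right hs2, hconj, sv']
    rw [this, conj_pow, u03]; group
  have u12 : u1 * u1 = 1 := by rw [hu1, ← hconj, u02, mul_one, hs2]
  obtain ⟨a, b, c, d⟩ := T (hn u0 hu0) u12 u11 u13 u1ne
  have back : ∀ {x y : B}, e x = e y → (x : X) = y := fun h => congrArg Subtype.val (inj h)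
  rcases hall _ a b c d with h | h | h | h
  · exact ⟨u0, hu0, u02, u01, u03, u0ne, back h⟩
  · -- move to the conjugate by `w`
    have h' : u1 = v * u0 * v := back (y := ⟨v, hv⟩ * ⟨u0, hu0⟩ * ⟨v, hv⟩) (h.trans (by rw [map_mul, map_mul]))
    have hvwv : v * w * v = w := by rw [hvw, mul_assoc, v2, mul_one]
    have vw2 : v * w * (v * w) = 1 := by rw [← mul_assoc, hvwv, w2]
    refine ⟨w * u0 * w, B.mul_mem (B.mul_mem hw hu0) hw, ?_, ?_, ?_, ?_, ?_⟩
    · rw [show w * u0 * w * (w * u0 * w) = w * u0 * (w * w) * u0 * w by group, w2, mul_one,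
        mul_assoc w u0 u0, u02, mul_one, w2]
    · intro h0
      apply u01
      calc u0 = w * w * u0 * (w * w) := by rw [w2]; group
        _ = w * (w * u0 * w) * w := by group
        _ = 1 := by rw [h0, mul_one, w2]
    · have : v * (w * u0 * w) = w * (v * u0) * w⁻¹ := by
        rw [inv_eq_of_mul_eq_one_right w2, ← mul_assoc, ← mul_assoc, hvw]; group
      rw [this, conj_pow, u03]; group
    · intro h0
      apply u0ne
      calc v * u0 = w * w * v * u0 * (w * w) := by rw [w2]; group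
        _ = w * (v * (w * u0 * w)) * w := by rw [mul_assoc w w v, ← hvw]; group
        _ = 1 := by rw [h0, mul_one, w2]
    · rw [hconj, hconj, sw, ← hu1, h',
        show v * w * (v * u0 * v) * (v * w) = v * w * v * u0 * (v * v) * w by group, v2, mul_one, hvwv]
  · exfalso
    have h' : u1 = w * u0 * w := back (y := ⟨w, hw⟩ * ⟨u0, hu0⟩ * ⟨w, hw⟩) (h.trans (by rw [map_mul, map_mul]))
    apply hv0
    have e' : u0 = v * u0 * v := by
      calc u0 = s * u1 * s := (hss u0).symm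
        _ = v * w * u1 * (v * w) := by rw [h', hconj, hconj, sw, ← hu1, h']
        _ = v * w * (w * u0 * w) * (w * v) := by rw [h', ← hvw]
        _ = v * (w * w) * u0 * (w * w) * v := by group
        _ = v * u0 * v := by rw [w2, mul_one, mul_one]
    rw [← map_mul, ← map_mul]
    exact congrArg e (Subtype.ext e'.symm)
  · exfalso
    have h' : u1 = v * w * u0 * (v * w) :=
      back (y := ⟨v, hv⟩ * ⟨w, hw⟩ * ⟨u0, hu0⟩ * (⟨v, hv⟩ * ⟨w, hw⟩))
        (h.trans (by simp only [map_mul]))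
    apply hv0
    have e' : u0 = v * u0 * v := by
      have hvwv : v * (v * w) = w := by rw [← mul_assoc, v2, one_mul]
      calc u0 = s * u1 * s := (hss u0).symm
        _ = w * u1 * w := by
          rw [h', hconj, hconj, hconj, sw, sv', ← hu1, h', hvwv]
        _ = w * (w * v) * u0 * (v * w) * w := by rw [h', ← hvw]; group
        _ = (w * w) * v * u0 * v * (w * w) := by group
        _ = v * u0 * v := by rw [w2, one_mul, mul_one]
    rw [← map_mul, ← map_mul]
    exact congrArg e (Subtype.ext e'.symm)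

end CfsgLib.MinusFourSymFour
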