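import Cfsg.Agent.Lib.MinusFourSymFour.Model

/-!
An extraspecial group of order thirty-two without elementary abelian subgroups of order eight, as the
distinguished normal subgroup of the centraliser of an involution: coordinates.
-/

set_option autoImplicit false
set_option linter.unusedSectionVars false

open scoped Classical

namespace CfsgLib.MinusFourSymFour

variable {G : Type*} [Group G]

/-- the centraliser of an element -/
abbrev Cz (z : G) : Subgroup G := Subgroup.centralizer ({z} : Set G)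

theorem mem_Cz {z h : G} : h ∈ Cz z ↔ h * z = z * h := Subgroup.mem_centralizer_singleton_iff

/-- a power of the central element -/
def zb (z : G) (b : Bool) : G := bif b then z else 1

/-- the commutation bit -/
noncomputable def cb (x y : G) : Bool := decide (x * y ≠ y * x)

/-- the basic hypotheses -/
structure Base (z : G) (E : Subgroup G) : Prop where
  z1 : z ≠ 1
  z2 : z * z = 1
  zE : z ∈ E
  ecz : ∀ x ∈ E, x ∈ Cz z
  enorm : ∀ h ∈ Cz z, ∀ x ∈ E, h * x * h⁻¹ ∈ E
  comm : ∀ x ∈ E, ∀ y ∈ E, x * y = y * x ∨ x * y = y * x * z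
  sq : ∀ x ∈ E, x * x = 1 ∨ x * x = z
  cen : ∀ x ∈ E, (∀ y ∈ E, x * y = y * x) → x = 1 ∨ x = z
  card : Nat.card E = 32
  noelem : ∀ A : Subgroup G, A ≤ E → Nat.card A = 8 → (∀ x ∈ A, x * x = 1) → False
  cE : ∀ h ∈ Cz z, (∀ x ∈ E, h * x = x * h) → h ∈ E
  cardH : Nat.card (Cz z) = 768

namespace Base

variable {z : G} {E : Subgroup G} (B : Base z E)
include B

theorem zinv : z⁻¹ = z := inv_eq_of_mul_eq_one_right B.z2

theorem zb_sq (b : Bool) : zb z b * zb z b = 1 := by cases b <;> simp [zb, B.z2]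

theorem zb_mem (b : Bool) : zb z b ∈ E := by
  cases b
  · exact E.one_mem
  · exact B.zE

theorem zb_xor (b c : Bool) : zb z (xor b c) = zb z b * zb z c := by
  cases b <;> cases c <;> simp [zb, B.z2]

theorem zb_inj {b c : Bool} (h : zb z b = zb z c) : b = c := by
  cases b <;> cases c <;> simp [zb, B.z1, B.z1.symm] at h ⊢

theorem zb_comm {x : G} (hx : x ∈ Cz z) (b : Bool) : x * zb z b = zb z b * x := by
  cases b
  · simp [zb]
  · exact mem_Cz.1 hx

theorem comm_cb {x y : G} (hx : x ∈ E) (hy : y ∈ E) : x * y = y * x * zb z (cb x y) := by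
  by_cases h : x * y = y * x
  · simp [cb, zb, h]
  · have e : cb x y = true := decide_eq_true h
    rw [e]
    exact (B.comm x hx y hy).resolve_left h

theorem cb_eq {x y : G} (b : Bool) (h : x * y = y * x * zb z b) : cb x y = b := by
  cases b
  · simp [cb, zb] at h ⊢
    exact h
  · simp only [cb, decide_eq_true_eq]
    intro e
    rw [e] at h
    exact B.z1 (mul_eq_left.1 h.symm)

theorem cb_symm (x y : G) : cb x y = cb y x := by simp [cb, eq_comm]

theorem cb_self (x : G) : cb x x = false := by simp [cb]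

theorem cb_one (x : G) : cb 1 x = false := by simp [cb]

theorem cb_z {x : G} (hx : x ∈ Cz z) : cb x z = false := by simp [cb, mem_Cz.1 hx]

theorem cb_mul {x y w : G} (hx : x ∈ E) (hy : y ∈ E) (hw : w ∈ E) :
    cb (x * y) w = xor (cb x w) (cb y w) := by
  refine B.cb_eq _ ?_
  rw [B.zb_xor, mul_assoc x y w, B.comm_cb hy hw, ← mul_assoc x, ← mul_assoc x w y, B.comm_cb hx hw,
    mul_assoc (w * x) (zb z (cb x w)) y, ← B.zb_comm (B.ecz y hy), ← mul_assoc]
  group

theorem sq_comm {x y : G} (hx : x ∈ E) (hy : y ∈ E) :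
    x * y * (x * y) = x * x * (y * y) * zb z (cb y x) := by
  calc x * y * (x * y) = x * (y * x) * y := by group
    _ = x * (x * y * zb z (cb y x)) * y := by rw [B.comm_cb hy hx]
    _ = x * x * y * (zb z (cb y x) * y) := by group
    _ = x * x * y * (y * zb z (cb y x)) := by rw [B.zb_comm (B.ecz y hy)]
    _ = x * x * (y * y) * zb z (cb y x) := by group

theorem kernel_two {x : G} (h : x = 1 ∨ x = z) : x ∈ E := by
  rcases h with rfl | rfl
  · exact E.one_mem
  · exact B.zE

theorem conj_anti {x y : G} (hx : x ∈ E) (hy : y ∈ E) (h : cb x y = true) : x * y * x⁻¹ = y * z := by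
  rw [B.comm_cb hx hy, h]
  show y * x * z * x⁻¹ = y * z
  rw [mul_assoc y x z, mem_Cz.1 (B.ecz x hx)]
  group

end Base

/-- the product with given bits -/
def uc (w : Fin 4 → G) (c : B4) : G :=
  (((bif c 0 then w 0 else 1) * (bif c 1 then w 1 else 1)) * (bif c 2 then w 2 else 1)) *
    (bif c 3 then w 3 else 1)

/-- A non-degenerate form -/
structure Form (bb : B4 → B4 → Bool) : Prop where
  symm : ∀ x y, bb x y = bb y x
  add : ∀ x y w, bb (ad x y) w = xor (bb x w) (bb y w)
  nondeg : ∀ x, (∀ i, bb x (un i) = false) → x = z4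
  surj : ∀ c : Fin 4 → Bool, ∃ x, ∀ i, bb x (un i) = c i

theorem b4_form : Form b4 := ⟨b4_facts.1, b4_facts.2.2.1, b4_facts.2.2.2.1, b4_facts.2.2.2.2⟩

theorem b0_form : Form b0 := by
  refine ⟨?_, ?_, ?_, ?_⟩ <;> decide +kernel

theorem Form.inj {bb : B4 → B4 → Bool} (F : Form bb) {x y : B4} (h : ∀ i, bb x (un i) = bb y (un i)) :
    x = y := by
  have hz := F.nondeg (ad x y) fun i => by rw [F.add, h i]; simp
  obtain ⟨h0, h1, h2⟩ := ad_facts
  calc x = ad x (ad y y) := by rw [(h0 y).2.2, (h0 x).1]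
    _ = ad (ad x y) y := by rw [h2]
    _ = y := by rw [hz, (h0 y).2.1]

/-- The coordinates given by four elements with a non-degenerate commutator pattern. -/
theorem Base.coords [Finite G] {z : G} {E : Subgroup G} (B : Base z E) {bb : B4 → B4 → Bool} (F : Form bb)
    {w : Fin 4 → G} (hw : ∀ i, w i ∈ E) (hc : ∀ i j, cb (w i) (w j) = bb (un i) (un j)) :
    ∃ v : G → B4, (∀ x ∈ E, ∀ y ∈ E, v (x * y) = ad (v x) (v y)) ∧ (∀ i, v (w i) = un i) ∧
      (∀ x ∈ E, v x = z4 → x = 1 ∨ x = z) ∧ (∀ c, uc w c ∈ E ∧ v (uc w c) = c) ∧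
      (∀ x ∈ E, ∀ y ∈ E, cb x y = bb (v x) (v y)) := by
  choose v hv using fun x : G => F.surj fun i => cb x (w i)
  have hvm : ∀ x ∈ E, ∀ y ∈ E, v (x * y) = ad (v x) (v y) := fun x hx y hy =>
    F.inj fun i => by rw [hv, F.add, hv, hv, B.cb_mul hx hy (hw i)]
  have hvw : ∀ i, v (w i) = un i := fun i => F.inj fun j => by rw [hv, hc]
  have hv1 : v 1 = z4 := F.nondeg _ fun i => by rw [hv]; simp [cb]
  have hbit : ∀ (b : Bool) i, (bif b then w i else 1) ∈ E ∧
      v (bif b then w i else 1) = bif b then un i else z4 := by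
    intro b i
    cases b
    · exact ⟨E.one_mem, hv1⟩
    · exact ⟨hw i, hvw i⟩
  have huc : ∀ c, uc w c ∈ E ∧ v (uc w c) = c := by
    intro c
    have h0 := hbit (c 0) 0
    have h1 := hbit (c 1) 1
    have h2 := hbit (c 2) 2
    have h3 := hbit (c 3) 3
    refine ⟨E.mul_mem (E.mul_mem (E.mul_mem h0.1 h1.1) h2.1) h3.1, ?_⟩
    rw [uc, hvm _ (E.mul_mem (E.mul_mem h0.1 h1.1) h2.1) _ h3.1, hvm _ (E.mul_mem h0.1 h1.1) _ h2.1,
      hvm _ h0.1 _ h1.1, h0.2, h1.2, h2.2, h3.2]
    exact (un_span c).symm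
  have hz0 : ∀ x ∈ E, v x = z4 → x = 1 ∨ x = z := by
    intro x hx h0
    by_contra hne
    push Not at hne
    obtain ⟨hne1, hnez⟩ := hne
    have hvz : v z = z4 := F.nondeg _ fun i => by rw [hv, B.cb_symm, B.cb_z (B.ecz _ (hw i))]
    let k : Fin 3 → G := ![1, z, x]
    have hk : ∀ i, k i ∈ E ∧ v (k i) = z4 := by
      intro i; fin_cases i
      exacts [⟨E.one_mem, hv1⟩, ⟨B.zE, hvz⟩, ⟨hx, h0⟩]
    have hki : Function.Injective k := by
      intro i j h
      fin_cases i <;> fin_cases j <;>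
        simp [k, B.z1, B.z1.symm, hne1, Ne.symm hne1, hnez, Ne.symm hnez] at h ⊢
    let f : Fin 3 × B4 → E := fun p => ⟨k p.1 * uc w p.2, E.mul_mem (hk p.1).1 (huc p.2).1⟩
    have hf : Function.Injective f := by
      rintro ⟨i, c⟩ ⟨j, d⟩ h
      have h' : k i * uc w c = k j * uc w d := congrArg Subtype.val h
      have e := congrArg v h'
      rw [hvm _ (hk i).1 _ (huc c).1, hvm _ (hk j).1 _ (huc d).1, (hk i).2, (hk j).2, (huc c).2, (huc d).2,
        (ad_facts.1 c).2.1, (ad_facts.1 d).2.1] at e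
      subst e
      rw [hki (mul_right_cancel h')]
    have := Nat.card_le_card_of_injective f hf
    rw [Nat.card_prod, B.card, Nat.card_fin, Nat.card_fun, Nat.card_fin] at this
    simp at this
  refine ⟨v, hvm, hvw, hz0, huc, fun x hx y hy => ?_⟩
  -- both sides are additive and agree on generators
  have hgen : ∀ c, cb x (uc w c) = bb (v x) c := by
    have hbb : ∀ u s t : B4, bb u (ad s t) = xor (bb u s) (bb u t) := fun u s t => by
      rw [F.symm, F.add, F.symm s, F.symm t]
    have hb0 : bb (v x) z4 = false := by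
      have := hbb (v x) z4 z4
      rw [(ad_facts.1 z4).1] at this
      simpa using this
    intro c
    have step : ∀ (b : Bool) i, cb x (bif b then w i else 1) = bb (v x) (bif b then un i else z4) := by
      intro b i
      cases b
      · simp [cb, hb0]
      · exact (hv x i).symm
    have cm : ∀ s t : G, s ∈ E → t ∈ E → cb x (s * t) = xor (cb x s) (cb x t) := fun s t hs ht => by
      rw [B.cb_symm, B.cb_mul hs ht hx, B.cb_symm s, B.cb_symm t]
    have h0 := (hbit (c 0) 0).1
    have h1 := (hbit (c 1) 1).1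
    have h2 := (hbit (c 2) 2).1
    have h3 := (hbit (c 3) 3).1
    rw [uc, cm _ _ (E.mul_mem (E.mul_mem h0 h1) h2) h3, cm _ _ (E.mul_mem h0 h1) h2, cm _ _ h0 h1, step,
      step, step, step, ← hbb, ← hbb, ← hbb, ← un_span]
  obtain ⟨hyu, hvu⟩ := huc (v y)
  have hy' : y * (uc w (v y))⁻¹ ∈ E := E.mul_mem hy (E.inv_mem hyu)
  have hk : v (y * (uc w (v y))⁻¹) = z4 := by
    have e := hvm _ hy' _ hyu
    rw [show y * (uc w (v y))⁻¹ * uc w (v y) = y by group, hvu] at e
    have h0 := ad_facts.1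
    calc v (y * (uc w (v y))⁻¹) = ad (v (y * (uc w (v y))⁻¹)) (ad (v y) (v y)) := by
          rw [(h0 (v y)).2.2, (h0 _).1]
      _ = ad (ad (v (y * (uc w (v y))⁻¹)) (v y)) (v y) := by rw [ad_facts.2.2]
      _ = z4 := by rw [← e, (h0 (v y)).2.2]
  rw [show y = y * (uc w (v y))⁻¹ * uc w (v y) by group, B.cb_symm, B.cb_mul hy' hyu hx,
    B.cb_symm (uc w (v y)) x, hgen]
  have hc0 : cb (y * (uc w (v y))⁻¹) x = false := by
    rcases hz0 _ hy' hk with h | h <;> rw [h]
    · simp [cb]
    · rw [B.cb_symm, B.cb_z (B.ecz x hx)]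
  rw [hc0, Bool.false_xor]
  congr 1
  rw [show y * (uc w (v y))⁻¹ * uc w (v y) = y by group]

/-- The quadratic form in coordinates. -/
theorem Base.coords_sq [Finite G] {z : G} {E : Subgroup G} (B : Base z E) {bb : B4 → B4 → Bool}
    {w : Fin 4 → G} (hw : ∀ i, w i ∈ E) {v : G → B4}
    (hvm : ∀ x ∈ E, ∀ y ∈ E, v (x * y) = ad (v x) (v y)) (hvw : ∀ i, v (w i) = un i)
    (hz0 : ∀ x ∈ E, v x = z4 → x = 1 ∨ x = z) (hcb : ∀ x ∈ E, ∀ y ∈ E, cb x y = bb (v x) (v y))
    {qq : B4 → Bool} (hq : ∀ x y, qq (ad x y) = xor (xor (qq x) (qq y)) (bb y x))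
    (hq0 : qq z4 = false) (hqw : ∀ i, w i * w i = zb z (qq (un i))) :
    ∀ x ∈ E, x * x = zb z (qq (v x)) := by
  have hmul : ∀ x ∈ E, ∀ y ∈ E, x * x = zb z (qq (v x)) → y * y = zb z (qq (v y)) →
      x * y * (x * y) = zb z (qq (v (x * y))) := by
    intro x hx y hy hx2 hy2
    rw [B.sq_comm hx hy, hx2, hy2, hcb y hy x hx, hvm x hx y hy, hq, B.zb_xor, B.zb_xor]
  have h1 : v 1 = z4 := by
    have e := hvm 1 E.one_mem 1 E.one_mem
    rw [one_mul, (ad_facts.1 (v 1)).2.2] at e
    exact e
  have hbit : ∀ (b : Bool) i, (bif b then w i else 1) ∈ E ∧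
      (bif b then w i else 1) * (bif b then w i else 1) = zb z (qq (v (bif b then w i else 1))) ∧
      v (bif b then w i else 1) = bif b then un i else z4 := by
    intro b i
    cases b
    · exact ⟨E.one_mem, by simp [h1, hq0, zb], h1⟩
    · exact ⟨hw i, by simp [hvw, hqw], hvw i⟩
  have huc : ∀ c, uc w c ∈ E ∧ uc w c * uc w c = zb z (qq (v (uc w c))) ∧ v (uc w c) = c := by
    intro c
    obtain ⟨a0, b0', c0⟩ := hbit (c 0) 0
    obtain ⟨a1, b1', c1⟩ := hbit (c 1) 1
    obtain ⟨a2, b2', c2⟩ := hbit (c 2) 2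
    obtain ⟨a3, b3', c3⟩ := hbit (c 3) 3
    have a01 := E.mul_mem a0 a1
    have a012 := E.mul_mem a01 a2
    refine ⟨E.mul_mem a012 a3, hmul _ a012 _ a3 (hmul _ a01 _ a2 (hmul _ a0 _ a1 b0' b1') b2') b3', ?_⟩
    rw [uc, hvm _ a012 _ a3, hvm _ a01 _ a2, hvm _ a0 _ a1, c0, c1, c2, c3]
    exact (un_span c).symm
  intro x hx
  obtain ⟨hu, hu2, hvu⟩ := huc (v x)
  have hk' : x * (uc w (v x))⁻¹ ∈ E := E.mul_mem hx (E.inv_mem hu)
  have hk : v (x * (uc w (v x))⁻¹) = z4 := by
    have e := hvm _ hk' _ hu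
    rw [show x * (uc w (v x))⁻¹ * uc w (v x) = x by group, hvu] at e
    have h0 := ad_facts.1
    calc v (x * (uc w (v x))⁻¹) = ad (v (x * (uc w (v x))⁻¹)) (ad (v x) (v x)) := by
          rw [(h0 (v x)).2.2, (h0 _).1]
      _ = ad (ad (v (x * (uc w (v x))⁻¹)) (v x)) (v x) := by rw [ad_facts.2.2]
      _ = z4 := by rw [← e, (h0 (v x)).2.2]
  have hk2 : x * (uc w (v x))⁻¹ * (x * (uc w (v x))⁻¹) = zb z (qq (v (x * (uc w (v x))⁻¹))) := by
    rw [hk, hq0]
    rcases hz0 _ hk' hk with h | h <;> rw [h] <;> simp [zb, B.z2]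
  have := hmul _ hk' _ hu hk2 hu2
  rwa [show x * (uc w (v x))⁻¹ * uc w (v x) = x by group] at this

theorem q0_form (qv : Fin 4 → Bool) :
    (∀ x y, q0 qv (ad x y) = xor (xor (q0 qv x) (q0 qv y)) (b0 y x)) ∧ q0 qv z4 = false ∧
      ∀ i, q0 qv (un i) = qv i := by
  revert qv
  decide +kernel

/-- Four elements forming a symplectic basis. -/
theorem Base.symplectic [Finite G] {z : G} {E : Subgroup G} (B : Base z E) :
    ∃ w : Fin 4 → G, (∀ i, w i ∈ E) ∧ ∀ i j, cb (w i) (w j) = b0 (un i) (un j) := by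
  have ex1 : ∃ e ∈ E, ∃ f ∈ E, cb e f = true := by
    by_contra hcon
    push Not at hcon
    let k : Fin 2 → G := ![1, z]
    have hex : ∀ x : E, ∃ i, k i = (x : G) := fun x => by
      rcases B.cen x x.2 (fun y hy => by simpa [cb] using hcon x x.2 y hy) with h | h
      · exact ⟨0, by simp [k, h]⟩
      · exact ⟨1, by simp [k, h]⟩
    choose f hf using hex
    have := Nat.card_le_card_of_injective f fun x y h => Subtype.ext (by rw [← hf x, ← hf y, h])
    rw [B.card, Nat.card_fin] at this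
    omega
  obtain ⟨e, he, f, hf, hef⟩ := ex1
  let C : Set G := {x | x ∈ E ∧ cb x e = false ∧ cb x f = false}
  have dec : ∀ x ∈ E, ∃ g ∈ C, ∃ bt : Bool × Bool,
      x = (bif bt.1 then e else 1) * (bif bt.2 then f else 1) * g := by
    intro x hx
    set p := cb x f
    set q := cb x e
    set d := (bif p then e else 1) * (bif q then f else 1) with hd
    have hd' : d ∈ E := E.mul_mem (by cases p <;> simp [he, E.one_mem]) (by cases q <;> simp [hf, E.one_mem])
    have hp : (bif p then e else 1) ∈ E := by cases p <;> simp [he, E.one_mem]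
    have hq : (bif q then f else 1) ∈ E := by cases q <;> simp [hf, E.one_mem]
    refine ⟨d⁻¹ * x, ⟨E.mul_mem (E.inv_mem hd') hx, ?_, ?_⟩, (p, q), ?_⟩
    rotate_left 2
    · show x = d * (d⁻¹ * x)
      rw [mul_inv_cancel_left]
    all_goals
      have key : ∀ t ∈ E, cb (d⁻¹ * x) t = xor (cb d t) (cb x t) := by
        intro t ht
        have := B.cb_mul hd' (E.mul_mem (E.inv_mem hd') hx) ht
        rw [mul_inv_cancel_left] at this
        rw [this]; cases cb d t <;> simp
    · rw [key e he]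
      have : cb d e = q := by
        rw [hd, B.cb_mul hp hq he]
        cases p <;> cases q <;> simp [B.cb_self, B.cb_one, B.cb_symm f e, hef]
      rw [this]; simp [q]
    · rw [key f hf]
      have : cb d f = p := by
        rw [hd, B.cb_mul hp hq hf]
        cases p <;> cases q <;> simp [B.cb_self, B.cb_one, hef]
      rw [this]; simp [p]
  have ex2 : ∃ g ∈ C, ∃ h ∈ C, cb g h = true := by
    by_contra hcon
    push Not at hcon
    have hcen : ∀ g ∈ C, g = 1 ∨ g = z := by
      intro g hg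
      have hall : ∀ x ∈ E, cb g x = false := by
        intro x hx
        obtain ⟨h, hh, bt, rfl⟩ := dec x hx
        obtain ⟨p, q⟩ := bt
        have hgh : cb g h = false := by simpa using hcon g hg h hh
        have hp : (bif p then e else 1) ∈ E := by cases p <;> simp [he, E.one_mem]
        have hq : (bif q then f else 1) ∈ E := by cases q <;> simp [hf, E.one_mem]
        rw [B.cb_symm, B.cb_mul (E.mul_mem hp hq) hh.1 hg.1, B.cb_mul hp hq hg.1, B.cb_symm h g, hgh]
        cases p <;> cases q <;> simp [B.cb_one, B.cb_symm e g, B.cb_symm f g, hg.2.1, hg.2.2]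
      exact B.cen g hg.1 fun x hx => by simpa [cb] using hall x hx
    let k : Fin 2 → G := ![1, z]
    have hex : ∀ x : E, ∃ p : (Bool × Bool) × Fin 2,
        ((bif p.1.1 then e else 1) * (bif p.1.2 then f else 1)) * k p.2 = (x : G) := by
      intro x
      obtain ⟨g, hg, bt, hxe⟩ := dec x x.2
      rcases hcen g hg with h | h
      · exact ⟨(bt, 0), by simp [k, hxe, h]⟩
      · exact ⟨(bt, 1), by simp [k, hxe, h]⟩
    choose φ hφ using hex
    have := Nat.card_le_card_of_injective φ fun x y h => Subtype.ext (by rw [← hφ x, ← hφ y, h])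
    simp [B.card] at this
  obtain ⟨g, hg, h, hh, hgh⟩ := ex2
  refine ⟨![e, f, g, h], ?_, ?_⟩
  · intro i; fin_cases i
    exacts [he, hf, hg.1, hh.1]
  · have h1 : cb e g = false := by rw [B.cb_symm]; exact hg.2.1
    have h2 : cb f g = false := by rw [B.cb_symm]; exact hg.2.2
    have h3 : cb e h = false := by rw [B.cb_symm]; exact hh.2.1
    have h4 : cb f h = false := by rw [B.cb_symm]; exact hh.2.2
    intro i j
    fin_cases i <;> fin_cases j <;>
      simp [b0, un, B.cb_self, hef, hgh, h1, h2, h3, h4, hg.2.1, hg.2.2, hh.2.1, hh.2.2,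
        B.cb_symm f e, B.cb_symm h g]

/-- A chain of four elements of order four. -/
theorem Base.chain [Finite G] {z : G} {E : Subgroup G} (B : Base z E) :
    ∃ w : Fin 4 → G, (∀ i, w i ∈ E) ∧ (∀ i j, cb (w i) (w j) = b4 (un i) (un j)) ∧ ∀ i, w i * w i = z := by
  obtain ⟨w, hw, hc⟩ := B.symplectic
  obtain ⟨v, hvm, hvw, hz0, huc, hcb⟩ := B.coords b0_form hw hc
  set qv : Fin 4 → Bool := fun i => decide (w i * w i = z)
  have hqw : ∀ i, w i * w i = zb z (q0 qv (un i)) := by
    intro i
    rw [(q0_form qv).2.2]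
    rcases B.sq _ (hw i) with h | h
    · simp [qv, h, zb, B.z1.symm]
    · simp [qv, h, zb]
  have hsq := B.coords_sq hw hvm hvw hz0 hcb (q0_form qv).1 (q0_form qv).2.1 hqw
  rcases minus_chain qv with ⟨a, ha, haq, b, hb, hba, hbq, hab⟩ | ⟨a, haq, b, hbq, hab, c, hcq, hac, hbc,
    d, hdq, had, hbd, hcd⟩
  · exfalso
    -- an elementary abelian subgroup of order eight
    obtain ⟨h0, hcomm, hass⟩ := ad_facts
    have hv1 : v 1 = z4 := by
      have e := hvm 1 E.one_mem 1 E.one_mem
      rw [one_mul, (h0 (v 1)).2.2] at e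
      exact e
    have hvz : v z = z4 := b0_form.nondeg _ fun i => by
      rw [← hvw i, ← hcb z B.zE (w i) (hw i), B.cb_symm, B.cb_z (B.ecz _ (hw i))]
    set x := uc w a
    set y := uc w b
    have hx : x ∈ E := (huc a).1
    have hy : y ∈ E := (huc b).1
    have hvx : v x = a := (huc a).2
    have hvy : v y = b := (huc b).2
    have hx2 : x * x = 1 := by rw [hsq x hx, hvx, haq]; rfl
    have hy2 : y * y = 1 := by rw [hsq y hy, hvy, hbq]; rfl
    have hxy : x * y = y * x := by
      have := hcb x hx y hy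
      rw [hvx, hvy, hab] at this
      simpa [cb] using this
    let t : Fin 3 → G := ![z, x, y]
    have ht : ∀ i, t i ∈ E := by intro i; fin_cases i; exacts [B.zE, hx, hy]
    let g : Bool × Bool × Bool → G := fun p =>
      (bif p.1 then z else 1) * ((bif p.2.1 then x else 1) * (bif p.2.2 then y else 1))
    have hzc : ∀ u ∈ E, z * u = u * z := fun u hu => (mem_Cz.1 (B.ecz u hu)).symm
    have gmul : ∀ p q : Bool × Bool × Bool, g p * g q = g (xor p.1 q.1, xor p.2.1 q.2.1, xor p.2.2 q.2.2) := by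
      intro p q
      have cz : Commute z x := hzc x hx
      have cy : Commute z y := hzc y hy
      have cxy : Commute x y := hxy
      have key : ∀ (u : G) (_ : u * u = 1) (i j : Bool),
          (bif i then u else 1) * (bif j then u else 1) = bif xor i j then u else 1 := by
        intro u hu i j; cases i <;> cases j <;> simp [hu]
      have cm : ∀ (u v : G), Commute u v → ∀ i j : Bool, Commute (bif i then u else 1) (bif j then v else 1) := by
        intro u v h i j; cases i <;> cases j <;> simp [h]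
      show _ = (bif xor p.1 q.1 then z else 1) * ((bif xor p.2.1 q.2.1 then x else 1) *
        (bif xor p.2.2 q.2.2 then y else 1))
      rw [← key z B.z2, ← key x hx2, ← key y hy2]
      exact (((cm z x cz q.1 p.2.1).mul_right (cm z y cy q.1 p.2.2)).symm.mul_mul_mul_comm _ _).trans
        (by rw [(cm y x cxy.symm p.2.2 q.2.1).mul_mul_mul_comm])
    let A : Subgroup G :=
      { carrier := Set.range g
        one_mem' := ⟨(false, false, false), by simp [g]⟩
        mul_mem' := by
          rintro _ _ ⟨p, rfl⟩ ⟨q, rfl⟩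
          exact ⟨_, (gmul p q).symm⟩
        inv_mem' := by
          rintro _ ⟨p, rfl⟩
          refine ⟨p, eq_inv_of_mul_eq_one_left ?_⟩
          rw [gmul]
          simp [g] }
    have hgv : ∀ p, g p ∈ E ∧ v (g p) = ad (bif p.2.1 then a else z4) (bif p.2.2 then b else z4) := by
      intro p
      have h1 : (bif p.1 then z else 1) ∈ E := by cases p.1 <;> simp [B.zE, E.one_mem]
      have h2 : (bif p.2.1 then x else 1) ∈ E := by cases p.2.1 <;> simp [hx, E.one_mem]
      have h3 : (bif p.2.2 then y else 1) ∈ E := by cases p.2.2 <;> simp [hy, E.one_mem]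
      refine ⟨E.mul_mem h1 (E.mul_mem h2 h3), ?_⟩
      rw [hvm _ h1 _ (E.mul_mem h2 h3), hvm _ h2 _ h3]
      cases p.1 <;> cases p.2.1 <;> cases p.2.2 <;> simp [hv1, hvz, hvx, hvy, (h0 _).2.1]
    have ginj : Function.Injective g := by
      intro p q h
      have e := gmul p q
      rw [h, gmul] at e
      simp only [Bool.xor_self] at e
      set r : Bool × Bool × Bool := (xor p.1 q.1, xor p.2.1 q.2.1, xor p.2.2 q.2.2) with hr
      have hr1 : g r = 1 := by rw [← e]; simp [g]
      have hvr := (hgv r).2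
      rw [hr1, hv1] at hvr
      have hb' : b ≠ z4 := hb
      have r2 : r.2.1 = false ∧ r.2.2 = false := by
        rcases r with ⟨r1, r2, r3⟩
        cases r2 <;> cases r3
        · exact ⟨rfl, rfl⟩
        · exact absurd (hvr.trans (h0 b).2.1).symm hb
        · exact absurd (hvr.trans (h0 a).1).symm ha
        · exfalso
          apply hba
          simp only [cond_true] at hvr
          calc b = ad z4 b := (h0 b).2.1.symm
            _ = ad (ad a b) b := by rw [← hvr]
            _ = a := by rw [hass, (h0 b).2.2, (h0 a).1]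
      have r1 : r.1 = false := by
        rcases hrb : r.1 with _ | _
        · rfl
        · simp [g, hrb, r2.1, r2.2] at hr1
          exact absurd hr1 B.z1
      simp [hr] at r1 r2
      exact Prod.ext r1 (Prod.ext r2.1 r2.2)
    refine B.noelem A ?_ ?_ ?_
    · rintro _ ⟨p, rfl⟩; exact (hgv p).1
    · show Nat.card (Set.range g) = 8
      rw [Nat.card_range_of_injective ginj]
      simp
    · rintro _ ⟨p, rfl⟩
      rw [gmul]
      simp [g]
  · have hm : ∀ c, uc w c * uc w c = zb z (q0 qv c) := fun c => by rw [hsq _ (huc c).1, (huc c).2]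
    let k : Fin 4 → B4 := ![a, b, c, d]
    refine ⟨fun i => uc w (k i), fun i => (huc _).1, fun i j => ?_, fun i => ?_⟩
    · rw [hcb _ (huc _).1 _ (huc _).1, (huc _).2, (huc _).2]
      have hs := b0_form.symm
      have hd0 : ∀ u, b0 u u = false := by decide +kernel
      fin_cases i <;> fin_cases j <;>
        simp [k, b4, un, hd0, hab, hac, hbc, had, hbd, hcd, hs b a, hs c a, hs c b, hs d a, hs d b, hs d c]
    · rw [hm]
      fin_cases i <;> simp [k, zb, haq, hbq, hcq, hdq]

end CfsgLib.MinusFourSymFour
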