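import Cfsg.Agent.Lib.MinusFourSymFour.Three

/-!
The four group is not strongly closed: the involutions inducing double transpositions are conjugate to the
central involution.
-/

set_option autoImplicit false
set_option linter.unusedSectionVars false
set_option linter.style.haveILetI false
set_option synthInstance.maxSize 2000
set_option synthInstance.maxHeartbeats 100000

namespace CfsgLib.MinusFourSymFour

theorem dbl_flip_sv : ∀ δ : S5, Dbl δ → ∀ i : Fin 5, i ≠ 0 → q4 (ad (act5 δ (sv i)) (sv i)) = true := by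
  decide +kernel

/-- the two double transpositions generate -/
theorem dbl_three_list : ∀ δ : S5, Dbl δ → ∀ ε : S5, Dbl ε → δ ≠ ε → ∀ σ : S5, Dbl σ →
    σ = δ ∨ σ = ε ∨ σ = δ * ε := by decide +kernel

theorem solvable_perm_small {α : Type*} [Fintype α] [DecidableEq α] (h : Nat.card α ≤ 3) :
    Group.IsSolvable (Equiv.Perm α) := by
  haveI : Group.IsSolvable (alternatingGroup α) := by
    haveI := alternatingGroup.isMulCommutative_of_card_le_three (α := α) h
    exact Group.isSolvable_of_comm fun a b => Std.Commutative.comm a b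
  exact Group.isSolvable_of_ker_le_range (alternatingGroup α).subtype Equiv.Perm.sign
    (by rw [Subgroup.range_subtype, alternatingGroup_eq_sign_ker])

namespace Setting

variable {G : Type*} [Group G] {z : G} {E : Subgroup G} {v : G → B4} {π : G → S5} {a : G}
  (S : Setting z E v π a)
include S

/-- all commuting conjugates of `z` lie in one four group -/
def Closed (_S : Setting z E v π a) : Prop := ∀ t : G, IsConj z t → t ∈ Cz z → _S.inV t

variable (hcl : S.Closed)
include hcl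

theorem closed_at (hza : IsConj z a) {c t : G} (hc : S.inV c) (hc1 : c ≠ 1) (ht : IsConj z t)
    (hct : t * c = c * t) : S.inV t := by
  obtain ⟨g, hg, hgV⟩ := S.V_setting hza hc hc1
  have h1 : g⁻¹ * t * g ∈ Cz z := by
    rw [mem_Cz]
    calc g⁻¹ * t * g * z = g⁻¹ * (t * (g * z * g⁻¹)) * g := by group
      _ = g⁻¹ * (g * z * g⁻¹ * t) * g := by rw [hg, hct]
      _ = z * (g⁻¹ * t * g) := by group
  have h2 := hcl _ (ht.trans (isConj_iff.2 ⟨g⁻¹, by rw [inv_inv]⟩)) h1
  refine hgV t ?_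
  rcases h2 with h | h | h | h <;> rw [← mul_left_inj g⁻¹, ← mul_right_inj g] at h <;>
    rw [show g * (g⁻¹ * t * g * g⁻¹) = t by group] at h
  · exact Or.inl (h.trans (by group))
  · exact Or.inr (Or.inl (h.trans (by group)))
  · exact Or.inr (Or.inr (Or.inl (h.trans (by group))))
  · exact Or.inr (Or.inr (Or.inr (h.trans (by group))))

theorem closed_mul (hza : IsConj z a) {t u : G} (ht : IsConj z t) (hu : IsConj z u) (hc : t * u = u * t)
    (h1 : t * u ≠ 1) : IsConj z (t * u) := by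
  obtain ⟨g, hg⟩ := isConj_iff.1 ht
  have h2 : g⁻¹ * u * g ∈ Cz z := by
    rw [mem_Cz]
    calc g⁻¹ * u * g * z = g⁻¹ * (u * (g * z * g⁻¹)) * g := by group
      _ = g⁻¹ * (g * z * g⁻¹ * u) * g := by rw [hg, hc]
      _ = z * (g⁻¹ * u * g) := by group
  have h3 := hcl _ (hu.trans (isConj_iff.2 ⟨g⁻¹, by rw [inv_inv]⟩)) h2
  have h4 : g * (z * (g⁻¹ * u * g)) * g⁻¹ = t * u := by rw [← hg]; group
  have h5 : z * (g⁻¹ * u * g) ≠ 1 := fun e => h1 (by rw [← h4, e]; group)
  exact (S.V_conj hza (S.inV_mul (Or.inr (Or.inl rfl)) h3) h5).trans (isConj_iff.2 ⟨g, h4⟩)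

/-- not everything fixes the four group -/
theorem exists_outside [Finite G] (hsolv : Group.IsSolvable (Cz z)) (hns : ¬ Group.IsSolvable G) :
    ∃ t, IsConj z t ∧ ¬ S.inV t := by
  classical
  by_contra hcon
  push Not at hcon
  apply hns
  -- the action on the conjugates of `z`
  let Ω := {t : G // IsConj z t}
  haveI : Fintype Ω := Fintype.ofFinite Ω
  have hcl' : ∀ (g : G) (t : Ω), IsConj z (g * t.1 * g⁻¹) := fun g t => t.2.trans (isConj_iff.2 ⟨g, rfl⟩)
  let act : G →* Equiv.Perm Ω :=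
    { toFun := fun g =>
        { toFun := fun t => ⟨g * t.1 * g⁻¹, hcl' g t⟩
          invFun := fun t => ⟨g⁻¹ * t.1 * g⁻¹⁻¹, hcl' g⁻¹ t⟩
          left_inv := fun t => Subtype.ext (by show g⁻¹ * (g * t.1 * g⁻¹) * g⁻¹⁻¹ = t.1; group)
          right_inv := fun t => Subtype.ext (by show g * (g⁻¹ * t.1 * g⁻¹⁻¹) * g⁻¹ = t.1; group) }
      map_one' := Equiv.ext fun t => Subtype.ext (by show 1 * t.1 * 1⁻¹ = t.1; group)
      map_mul' := fun g h => Equiv.ext fun t => Subtype.ext (by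
        show g * h * t.1 * (g * h)⁻¹ = g * (h * t.1 * h⁻¹) * g⁻¹; group) }
  have hk : act.ker ≤ Cz z := fun g hg => by
    have h := congrArg (fun e : Equiv.Perm Ω => (e ⟨z, IsConj.refl z⟩).1) (MonoidHom.mem_ker.1 hg)
    exact mem_Cz.2 (mul_inv_eq_iff_eq_mul.1 h)
  have hk' : Group.IsSolvable act.ker := by
    haveI := hsolv
    exact Group.isSolvable_of_isSolvable_injective (f := Subgroup.inclusion hk) (Subgroup.inclusion_injective hk)
  have hcard : Nat.card Ω ≤ 3 := by
    have hk3 : ∀ t : Ω, ∃ i : Fin 3, (![z, a, a * z] : Fin 3 → G) i = t.1 := by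
      intro t
      have hne : t.1 ≠ 1 := fun e => S.z1 (by
        obtain ⟨g, hg⟩ := isConj_iff.1 t.2
        exact conj_eq_one_iff.1 (hg.trans e))
      rcases (hcon t.1 t.2).resolve_left hne with h | h | h
      exacts [⟨0, h.symm⟩, ⟨1, h.symm⟩, ⟨2, h.symm⟩]
    choose f hf using hk3
    calc Nat.card Ω ≤ Nat.card (Fin 3) := Nat.card_le_card_of_injective f fun x y e =>
          Subtype.ext (by rw [← hf x, ← hf y, e])
      _ = 3 := Nat.card_fin 3
  have hr : Group.IsSolvable act.range := by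
    haveI : Group.IsSolvable (Equiv.Perm Ω) := CfsgLib.MinusFourSymFour.solvable_perm_small hcard
    infer_instance
  haveI := hk'
  haveI := hr
  exact Group.isSolvable_of_ker_le_range act.ker.subtype act.rangeRestrict (by
    rw [Subgroup.range_subtype, MonoidHom.ker_rangeRestrict])

/-- a four group of involutions inducing double transpositions, centralising an outside conjugate -/
theorem exists_W [Finite G] (hza : IsConj z a) (hsolv : Group.IsSolvable (Cz z)) (hns : ¬ Group.IsSolvable G)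
    {r : G} (hr : r ∈ Cz z) (r3 : r ^ 3 = 1) (r1 : r ≠ 1)
    (hno : ∀ d ∈ Cz z, d * d = 1 → Dbl (π d) → ¬ IsConj z d) :
    ∃ e w z' : G, (e ∈ Cz z ∧ e * e = 1 ∧ Dbl (π e)) ∧ (w ∈ Cz z ∧ w * w = 1 ∧ Dbl (π w)) ∧
      π e ≠ π w ∧ e * w = w * e ∧ IsConj z z' ∧ ¬ S.inV z' ∧ z' * e = e * z' ∧ z' * w = w * z' := by
  obtain ⟨d, hd, d2, hdd⟩ := S.exists_dbl hza
  have zconj2 : ∀ {u : G}, IsConj z u → u * u = 1 := fun {u} h => by
    obtain ⟨g, hg⟩ := isConj_iff.1 h
    rw [← hg, ← S.conj_mul, S.z2]; group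
  have out : ∀ {u x : G}, IsConj z u → ¬ S.inV u → x * u = u * x → IsConj z x → ¬ S.inV x := by
    intro u x hu hno' hc hx hV
    have hx1 : x ≠ 1 := fun e => S.z1 (by
      obtain ⟨g, hg⟩ := isConj_iff.1 hx
      exact conj_eq_one_iff.1 (hg.trans e))
    exact hno' (S.closed_at hcl hza hV hx1 hu hc.symm)
  have Vdbl : ∀ {x c : G}, x ∈ Cz z → x * x = 1 → Dbl (π x) → S.inV c →
      x * c ∈ Cz z ∧ x * c * (x * c) = 1 ∧ Dbl (π (x * c)) ∧ π (x * c) = π x := by
    intro x c hx x2 hxd hc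
    have hxa : x * a = a * x := S.dbl_a hx x2 hxd
    have hxc : Commute x c := by
      rcases hc with h | h | h | h <;> rw [h]
      · exact Commute.one_right _
      · exact mem_Cz.1 hx
      · exact hxa
      · exact Commute.mul_right hxa (mem_Cz.1 hx)
    have hp := S.p_mulE hx (S.inV_mem hc)
    refine ⟨(Cz z).mul_mem hx (S.ecz _ (S.inV_mem hc)), ?_, hp.symm ▸ hxd, hp⟩
    rw [hxc.symm.mul_mul_mul_comm, x2, S.inV_sq hc, one_mul]
  obtain ⟨z0, hz0, hz0V⟩ := S.exists_outside hcl hsolv hns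
  -- one involution commuting with an outside conjugate
  obtain ⟨e, z1, he, e2, hde, hz1, hz1V, hz1e⟩ : ∃ e z1, e ∈ Cz z ∧ e * e = 1 ∧ Dbl (π e) ∧ IsConj z z1 ∧
      ¬ S.inV z1 ∧ z1 * e = e * z1 := by
    rcases OmegaEightCent.two_invols (zconj2 hz0) d2 with ⟨g, hg, -⟩ | ⟨f, f2, f1, hf0, hfd, hor, -⟩
    · exact absurd (hz0.trans (isConj_iff.2 ⟨g, hg⟩)) (hno d hd d2 hdd)
    · rcases hor with ⟨h0, -⟩ | ⟨-, h1⟩
      · have hzf : IsConj z f := by
          have h := S.closed_mul hcl hza hz0 (hz0.trans h0) ((Commute.refl z0).mul_right hf0.symm).eq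
            (by rw [← mul_assoc, zconj2 hz0, one_mul]; exact f1)
          rwa [← mul_assoc, zconj2 hz0, one_mul] at h
        exact ⟨d, f, hd, d2, hdd, hzf, out hz0 hz0V hf0.eq hzf, hfd.eq⟩
      · have hzc : IsConj z (d * f) := hz0.trans h1
        have hcd : d * f * d = d * (d * f) := by rw [mul_assoc, hfd.eq]
        by_cases hcV : S.inV (d * f)
        · obtain ⟨h1', h2', h3', -⟩ := Vdbl hd d2 hdd hcV
          exact ⟨_, z0, h1', h2', h3', hz0, hz0V, by
            rw [show d * (d * f) = f by rw [← mul_assoc, d2, one_mul]]; exact hf0.symm.eq⟩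
        · exact ⟨d, d * f, hd, d2, hdd, hzc, hcV, hcd⟩
  obtain ⟨p3, p1'⟩ := S.three_image hr r3 r1
  set e' := r * e * r⁻¹ with he'
  have heC' : e' ∈ Cz z := (Cz z).mul_mem ((Cz z).mul_mem hr he) ((Cz z).inv_mem hr)
  have e2' : e' * e' = 1 := by rw [he', ← S.conj_mul, e2]; group
  have hpe' : π e' = π r * π e * (π r)⁻¹ := S.p_conj hr he
  have hde' : Dbl (π e') := hpe' ▸ dbl_normal _ hde _ (S.p_zero r hr)
  have hne : π e ≠ π e' := hpe'.symm ▸ (dbl_rotate _ hde _ (S.p_zero r hr) p3 p1').1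
  have hee : e * e' = e' * e := S.partner he e2 hde hr r3 r1 (S.three_a hr r3)
  rcases OmegaEightCent.two_invols (zconj2 hz1) e2' with ⟨g, hg, -⟩ | ⟨f, f2, f1, hf0, hfd, hor, hall⟩
  · exact absurd (hz1.trans (isConj_iff.2 ⟨g, hg⟩)) (hno e' heC' e2' hde')
  · have hfe : Commute f e := (hall e hz1e.symm hee).symm
    rcases hor with ⟨h0, -⟩ | ⟨-, h1⟩
    · have hzf : IsConj z f := by
        have h := S.closed_mul hcl hza hz1 (hz1.trans h0) ((Commute.refl z1).mul_right hf0.symm).eq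
          (by rw [← mul_assoc, zconj2 hz1, one_mul]; exact f1)
        rwa [← mul_assoc, zconj2 hz1, one_mul] at h
      exact ⟨e, e', f, ⟨he, e2, hde⟩, ⟨heC', e2', hde'⟩, hne, hee, hzf, out hz1 hz1V hf0.eq hzf, hfe.eq, hfd.eq⟩
    · have hzc : IsConj z (e' * f) := hz1.trans h1
      by_cases hcV : S.inV (e' * f)
      · obtain ⟨h1', h2', h3', h4'⟩ := Vdbl heC' e2' hde' hcV
        have hw : e' * (e' * f) = f := by rw [← mul_assoc, e2', one_mul]
        rw [hw] at h1' h2' h3' h4'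
        exact ⟨e, f, z1, ⟨he, e2, hde⟩, ⟨h1', h2', h3'⟩, h4'.symm ▸ hne, hfe.symm.eq, hz1, hz1V, hz1e, hf0.symm.eq⟩
      · refine ⟨e, e', e' * f, ⟨he, e2, hde⟩, ⟨heC', e2', hde'⟩, hne, hee, hzc, hcV, ?_, ?_⟩
        · exact ((show Commute e' e from hee.symm).mul_left hfe).eq
        · rw [mul_assoc, hfd.eq]

end Setting

end CfsgLib.MinusFourSymFour
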