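import Cfsg.Agent.Lib.MinusFourSymFour.Closed

/-!
The involutions inducing double transpositions are conjugate to the central involution.
-/

set_option autoImplicit false
set_option linter.unusedSectionVars false
set_option linter.style.haveILetI false
set_option synthInstance.maxSize 2000
set_option synthInstance.maxHeartbeats 100000
set_option maxHeartbeats 1000000

namespace CfsgLib.MinusFourSymFour

namespace Setting

variable {G : Type*} [Group G] {z : G} {E : Subgroup G} {v : G → B4} {π : G → S5} {a : G}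
  (S : Setting z E v π a)
include S

/-- an involution of `U` not conjugate to `z` induces a double transposition in the other settings -/
theorem U_dbl (hza : IsConj z a) {g : G} (hp : g * z * g⁻¹ = a ∨ g * z * g⁻¹ = a * z) {x : G} (hx : x ∈ S.U)
    (x2 : x * x = 1) (x1 : x ≠ 1) (hno : ¬ IsConj z x) : Dbl (π (g⁻¹ * x * g)) := by
  have hcc : IsConj z (g * z * g⁻¹) := isConj_iff.2 ⟨g, rfl⟩
  have hU : x ∈ (S.map g).U := S.U_pair (S.map g) hcc hp hx
  refine hU.2.2.resolve_left fun e => ?_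
  have hxE := ((S.map g).p_one x hU.1).1 e
  rcases (S.map g).invol_E hxE x2 with h | h | ⟨i, h⟩
  · exact x1 h
  · exact hno (h ▸ hcc)
  · by_cases hi : i = 0
    · subst hi
      have hga : IsConj z (g * a * g⁻¹) := hza.trans (isConj_iff.2 ⟨g, rfl⟩)
      rcases (S.map g).pair_cases hxE h with h' | h'
      · exact hno (h' ▸ hga)
      · exact hno (h' ▸ hga.trans (S.map g).a_conj_az)
    · have := (S.map g).bit_comm hxE (S.map g).aE hU.2.1
      rw [h, (S.map g).va, b4_sv i hi] at this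
      exact Bool.noConfusion this

/-- the involutions inducing double transpositions are conjugate to `z` -/
theorem dbl_conj_z [Finite G] (hza : IsConj z a) (hsolv : Group.IsSolvable (Cz z))
    (hns : ¬ Group.IsSolvable G) {X : Subgroup G} (K : Kill S X) {d : G} (hd : d ∈ Cz z) (d2 : d * d = 1)
    (hdd : Dbl (π d)) : IsConj z d := by
  classical
  by_contra hnd
  haveI : Fact (Nat.Prime 3) := ⟨Nat.prime_three⟩
  have hno : ∀ x ∈ Cz z, x * x = 1 → Dbl (π x) → ¬ IsConj z x := fun x hx x2 hxd h => by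
    obtain ⟨k, -, hk⟩ := S.dbl_conj' hx x2 hxd hd d2 hdd
    exact hnd (h.trans (isConj_iff.2 ⟨k, hk⟩))
  have hcl : S.Closed := by
    intro t ht htC
    rcases S.conj_C ht htC with h | h | h | h
    · exact Or.inr (Or.inl h)
    · exact Or.inr (Or.inr (Or.inl h))
    · exact Or.inr (Or.inr (Or.inr h))
    · refine absurd ht (hno t htC ?_ h)
      obtain ⟨g, hg⟩ := isConj_iff.1 ht
      rw [← hg, ← S.conj_mul, S.z2]; group
  obtain ⟨r0, hr0, r03, r01, -⟩ := S.exists_three_a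
  obtain ⟨e, w, z', ⟨he, e2, hde⟩, ⟨hw, w2, hdw⟩, hne, hew, hzz', hz'V, hze, hzw⟩ :=
    S.exists_W hcl hza hsolv hns hr0 r03 r01 hno
  have heU := S.dbl_U he e2 hde
  have hwU := S.dbl_U hw w2 hdw
  have hewd : Dbl (π (e * w)) := by rw [S.p_mul e he w hw]; exact dbl_mul _ hde _ hdw hne
  have ew2 : e * w * (e * w) = 1 := by
    rw [(show Commute w e from hew.symm).mul_mul_mul_comm, e2, w2, one_mul]
  -- the four group
  let W : Subgroup G :=
    { carrier := {x | x = 1 ∨ x = e ∨ x = w ∨ x = e * w}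
      one_mem' := Or.inl rfl
      mul_mem' := by
        have q1 : e * (e * w) = w := by rw [← mul_assoc, e2, one_mul]
        have q2 : w * (e * w) = e := by rw [hew, ← mul_assoc, w2, one_mul]
        have q3 : e * w * e = w := by rw [hew, mul_assoc, e2, mul_one]
        have q4 : e * w * w = e := by rw [mul_assoc, w2, mul_one]
        rintro x y (h | h | h | h) (h' | h' | h' | h') <;> subst h <;> subst h' <;>
          simp only [Set.mem_ofPred_eq, mul_one, one_mul, e2, w2, ← hew, ew2, q1, q2, q3, q4, true_or, or_true]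
      inv_mem' := by
        rintro x (h | h | h | h) <;> subst h
        · exact Or.inl inv_one
        · exact Or.inr (Or.inl (inv_eq_of_mul_eq_one_right e2))
        · exact Or.inr (Or.inr (Or.inl (inv_eq_of_mul_eq_one_right w2)))
        · exact Or.inr (Or.inr (Or.inr (inv_eq_of_mul_eq_one_right ew2))) }
  have hWU : ∀ {x : G}, x ∈ W → x ∈ S.U := fun {x} hx => by
    rcases hx with h | h | h | h <;> rw [h]
    exacts [S.U.one_mem, heU, hwU, S.U.mul_mem heU hwU]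
  have hW1 : ∀ {x : G}, x ∈ W → x ≠ 1 → x ∈ Cz z ∧ x * x = 1 ∧ Dbl (π x) := fun {x} hx h1 => by
    rcases hx with h | h | h | h
    · exact absurd h h1
    · exact h.symm ▸ ⟨he, e2, hde⟩
    · exact h.symm ▸ ⟨hw, w2, hdw⟩
    · exact h.symm ▸ ⟨(Cz z).mul_mem he hw, ew2, hewd⟩
  have hWV : ∀ {x : G}, x ∈ W → S.inV x → x = 1 := fun {x} hx hV => by
    by_contra h1
    exact dbl_ne_one (hW1 hx h1).2.2 (S.p_E (S.inV_mem hV))
  set M : Subgroup G := Cz e ⊓ Cz w with hMdef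
  have hWM : W ≤ M := by
    intro x hx
    rcases hx with h | h | h | h <;> subst h
    · exact M.one_mem
    · exact ⟨mem_Cz.2 rfl, mem_Cz.2 hew⟩
    · exact ⟨mem_Cz.2 hew.symm, mem_Cz.2 rfl⟩
    · exact M.mul_mem ⟨mem_Cz.2 rfl, mem_Cz.2 hew⟩ ⟨mem_Cz.2 hew.symm, mem_Cz.2 rfl⟩
  have hMW : ∀ m ∈ M, ∀ x ∈ W, m * x = x * m := by
    intro m hm x hx
    rcases hx with h | h | h | h <;> subst h
    · group
    · exact mem_Cz.1 hm.1
    · exact mem_Cz.1 hm.2
    · exact (Commute.mul_right (show Commute m e from mem_Cz.1 hm.1) (show Commute m w from mem_Cz.1 hm.2)).eq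
  have hUV : ∀ {x c : G}, x ∈ S.U → S.inV c → x * c = c * x := fun {x c} hx hc => by
    rcases hc with h | h | h | h <;> rw [h]
    · group
    · exact mem_Cz.1 hx.1
    · exact hx.2.1
    · exact (Commute.mul_right (show Commute x a from hx.2.1) (show Commute x z from mem_Cz.1 hx.1)).eq
  have hVM : S.fourV ≤ M := fun c hc => ⟨mem_Cz.2 (hUV heU hc).symm, mem_Cz.2 (hUV hwU hc).symm⟩
  -- centralisers in `M`
  have hMc : ∀ c, S.inV c → c ≠ 1 → ∀ h ∈ M, h * c = c * h → ∃ x, S.inV x ∧ h * x⁻¹ ∈ W := by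
    intro c hc hc1 h hh hhc
    have fin : ∀ k, k ∈ W → S.inV (h * k⁻¹) → ∃ x, S.inV x ∧ h * x⁻¹ ∈ W := fun k hk hV => by
      refine ⟨h * k⁻¹, hV, ?_⟩
      rw [show h * (h * k⁻¹)⁻¹ = h * k * h⁻¹ by group, hMW h hh k hk, mul_inv_cancel_right]
      exact hk
    by_cases hcz : c = z
    · obtain ⟨k, hk, hV⟩ := S.cent_pair he e2 hde hw hdw hne hew (mem_Cz.2 (hcz ▸ hhc))
        (mem_Cz.1 hh.1) (mem_Cz.1 hh.2)
      exact fin k hk hV
    · obtain ⟨g, hg, hgV⟩ := S.V_setting hza hc hc1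
      have hp : g * z * g⁻¹ = a ∨ g * z * g⁻¹ = a * z := hg.symm ▸ (hc.resolve_left hc1).resolve_left hcz
      have hD : ∀ {x : G}, x ∈ W → x ≠ 1 → x ∈ Cz (g * z * g⁻¹) ∧ Dbl (π (g⁻¹ * x * g)) := fun {x} hx h1 =>
        ⟨mem_Cz.2 (hg.symm ▸ hUV (hWU hx) hc),
          S.U_dbl hza hp (hWU hx) (hW1 hx h1).2.1 h1 (hno x (hW1 hx h1).1 (hW1 hx h1).2.1 (hW1 hx h1).2.2)⟩
      have e1 : e ≠ 1 := fun h => dbl_ne_one hde (by rw [h, S.p1])
      have w1 : w ≠ 1 := fun h => dbl_ne_one hdw (by rw [h, S.p1])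
      have ew1 : e * w ≠ 1 := fun h => dbl_ne_one hewd (by rw [h, S.p1])
      have heD := hD (Or.inr (Or.inl rfl)) e1
      have hwD := hD (Or.inr (Or.inr (Or.inl rfl))) w1
      have hne' : π (g⁻¹ * e * g) ≠ π (g⁻¹ * w * g) := by
        intro hh'
        have h := (hD (Or.inr (Or.inr (Or.inr rfl))) ew1).2
        have h2 := (S.map g).p_mul e heD.1 w hwD.1
        rw [h2, hh', hwD.2.2.1] at h
        exact dbl_ne_one h rfl
      obtain ⟨k, hk, hV⟩ := (S.map g).cent_pair heD.1 e2 heD.2 hwD.1 hwD.2 hne' hew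
        (mem_Cz.2 (hg.symm ▸ hhc)) (mem_Cz.1 hh.1) (mem_Cz.1 hh.2)
      exact fin k hk (hgV _ hV)
  -- the quotient `M / W`
  haveI hWn : (W.subgroupOf M).Normal := ⟨fun n hn m => by
    rw [Subgroup.mem_subgroupOf] at hn ⊢
    show (m : G) * n * (m : G)⁻¹ ∈ W
    rwa [hMW m m.2 n hn, mul_inv_cancel_right]⟩
  have hWcl : ∀ c, S.inV c → c ≠ 1 → ∀ m ∈ M, m * c * m⁻¹ * c⁻¹ ∈ W → m * c * m⁻¹ = c := by
    intro c hc hc1 m hm h
    have hce : (m * c * m⁻¹) * z = z * (m * c * m⁻¹) := by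
      have e' : m * c * m⁻¹ = m * c * m⁻¹ * c⁻¹ * c := by group
      rw [e']
      exact mem_Cz.1 ((Cz z).mul_mem (hWU h).1 (S.ecz c (S.inV_mem hc)))
    have hV : S.inV (m * c * m⁻¹) :=
      hcl _ ((S.V_conj hza hc hc1).trans (isConj_iff.2 ⟨m, rfl⟩)) (mem_Cz.2 hce)
    exact mul_inv_eq_one.1 (hWV h (S.inV_mul hV (S.inV_inv hc)))
  obtain ⟨Wq, hWq, hW4, hW2, hWC⟩ := quot_four (D := M) (R := W) (V := S.fourV) hVM
    (fun x hx hxW => hWV hxW hx) S.card_V (fun x hx => S.inV_sq hx)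
    (fun c hc hc1 m hm h => hMc c hc hc1 m hm (mul_inv_eq_iff_eq_mul.1 (hWcl c hc hc1 m hm h)))
  set q := QuotientGroup.mk' (W.subgroupOf M) with hq
  have hq1 : ∀ {x : M}, q x = 1 ↔ (x : G) ∈ W := fun {x} => by
    rw [hq, QuotientGroup.mk'_apply, QuotientGroup.eq_one_iff, Subgroup.mem_subgroupOf]
  have hz'M : z' ∈ M := ⟨mem_Cz.2 hze, mem_Cz.2 hzw⟩
  have hz'z : ¬ z' * z = z * z' := fun h => hz'V (hcl z' hzz' (mem_Cz.2 h))
  have hqW : ∀ m : M, q m ∈ Wq → (m : G) * z = z * m := by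
    intro m hm
    rw [hWq] at hm
    obtain ⟨x, hx, e'⟩ := hm
    have h : q (x⁻¹ * m) = 1 := by rw [map_mul, map_inv]; exact inv_mul_eq_one.2 e'
    have h2 : (m : G) = (x : G) * ((x⁻¹ * m : M) : G) := by simp
    rw [h2]
    exact mem_Cz.1 ((Cz z).mul_mem (S.ecz _ (S.inV_mem hx)) (hWU (hq1.1 h)).1)
  have hz'q : q ⟨z', hz'M⟩ ∉ Wq := fun h => hz'z (hqW ⟨z', hz'M⟩ h)
  have htop : Wq ≠ ⊤ := fun h => hz'q (h ▸ Subgroup.mem_top _)
  have z'2 : z' * z' = 1 := by
    obtain ⟨g, hg⟩ := isConj_iff.1 hzz'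
    rw [← hg, ← S.conj_mul, S.z2]; group
  obtain ⟨⟨iso⟩⟩ : Nonempty (Nonempty ((↥M ⧸ W.subgroupOf M) ≃* alternatingGroup (Fin 5))) := by
    rcases four_cases hW4 hW2 hWC htop with ⟨hn, -⟩ | h
    · refine absurd (four_normal_invol hW4 hWC hn ?_) hz'q
      rw [← map_mul, show (⟨z', hz'M⟩ : M) * ⟨z', hz'M⟩ = 1 from Subtype.ext z'2, map_one]
    · exact ⟨h⟩
  -- an element of order three in `M` rotating the four group
  obtain ⟨g0, hg0, hg0W⟩ := four_norm hW4 hW2 hWC htop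
  obtain ⟨m0, rfl⟩ := QuotientGroup.mk'_surjective (W.subgroupOf M) g0
  have hm0V : ∀ c, S.inV c → S.inV ((m0 : G) * c * (m0 : G)⁻¹) := by
    intro c hc
    by_cases hc1 : c = 1
    · rw [hc1]; exact Or.inl (by group)
    have hqc : q ⟨c, hVM hc⟩ ∈ Wq := hWq ▸ ⟨⟨c, hVM hc⟩, hc, rfl⟩
    have h := (Subgroup.mem_normalizer_iff.1 hg0 _).1 hqc
    rw [hWq] at h
    obtain ⟨x, hx, hxe⟩ := h
    have h1 : q (m0 * ⟨c, hVM hc⟩ * m0⁻¹ * x⁻¹) = 1 := by
      rw [map_mul, map_mul, map_mul, map_inv, map_inv]; exact mul_inv_eq_one.2 hxe.symm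
    have hk : (m0 : G) * c * (m0 : G)⁻¹ * (x : G)⁻¹ ∈ W := hq1.1 h1
    refine hcl _ ((S.V_conj hza hc hc1).trans (isConj_iff.2 ⟨m0, rfl⟩)) (mem_Cz.2 ?_)
    rw [show (m0 : G) * c * (m0 : G)⁻¹ = (m0 : G) * c * (m0 : G)⁻¹ * (x : G)⁻¹ * x by group]
    exact mem_Cz.1 ((Cz z).mul_mem (hWU hk).1 (S.ecz _ (S.inV_mem hx)))
  have hm0c : ∀ c, S.inV c → c ≠ 1 → (m0 : G) * c * (m0 : G)⁻¹ ≠ c := by
    intro c hc hc1 h
    obtain ⟨x, hx, hxW⟩ := hMc c hc hc1 m0 m0.2 (mul_inv_eq_iff_eq_mul.1 h)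
    apply hg0W
    rw [hWq]
    refine ⟨⟨x, hVM hx⟩, hx, ?_⟩
    have h1 : q (m0 * (⟨x, hVM hx⟩ : M)⁻¹) = 1 := hq1.2 hxW
    rw [map_mul, map_inv, mul_inv_eq_one] at h1
    exact h1.symm
  have hm3 : ∀ c, S.inV c → c ≠ 1 → (m0 : G) ^ 3 * c * ((m0 : G) ^ 3)⁻¹ = c := by
    have hV3 : ∀ p q r s : G, S.inV p → p ≠ 1 → S.inV q → q ≠ 1 → S.inV r → r ≠ 1 → S.inV s → s ≠ 1 →
        p ≠ q → q ≠ r → p ≠ r → s ≠ r → s ≠ q → s = p := by
      intro p q r s hp p1 hq q1 hr r1 hs s1 h1 h2 h3 h4 h5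
      have hh : ∀ x, S.inV x → x ≠ 1 → x = z ∨ x = a ∨ x = a * z := fun x hx x1 => hx.resolve_left x1
      rcases hh p hp p1 with e1 | e1 | e1 <;> rcases hh q hq q1 with e2 | e2 | e2 <;>
        rcases hh r hr r1 with e3 | e3 | e3 <;> rcases hh s hs s1 with e4 | e4 | e4 <;>
        first
        | exact e4.trans e1.symm
        | exact absurd (e1.trans e2.symm) h1
        | exact absurd (e2.trans e3.symm) h2
        | exact absurd (e1.trans e3.symm) h3
        | exact absurd (e4.trans e3.symm) h4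
        | exact absurd (e4.trans e2.symm) h5
    intro c hc hc1
    let f : G → G := fun x => (m0 : G) * x * (m0 : G)⁻¹
    have finj : Function.Injective f := fun x y h => mul_left_cancel (mul_right_cancel h)
    have fV : ∀ x, S.inV x → x ≠ 1 → S.inV (f x) ∧ f x ≠ 1 ∧ f x ≠ x := fun x hx hx1 =>
      ⟨hm0V x hx, fun h => hx1 (conj_eq_one_iff.1 h), hm0c x hx hx1⟩
    obtain ⟨a1, b1, n1⟩ := fV c hc hc1
    obtain ⟨a2, b2, n2⟩ := fV _ a1 b1
    obtain ⟨a3, b3, n3⟩ := fV _ a2 b2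
    have n4 : f (f c) ≠ c := by
      intro h
      have u1 : c * f c ≠ 1 := fun e' => n1 (by rw [eq_inv_of_mul_eq_one_right e', inv_eq_of_mul_eq_one_right (S.inV_sq hc)])
      refine (fV _ (S.inV_mul hc a1) u1).2.2 ?_
      show (m0 : G) * (c * f c) * (m0 : G)⁻¹ = c * f c
      rw [S.conj_mul, show (m0 : G) * f c * (m0 : G)⁻¹ = c from h]
      exact four_abelian (W := S.fourV) (fun x hx => S.inV_sq hx) a1 hc
    rw [show (m0 : G) ^ 3 * c * ((m0 : G) ^ 3)⁻¹ = f (f (f c)) by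
      simp only [f, pow_succ, pow_zero, one_mul, mul_inv_rev, mul_assoc]]
    refine hV3 c (f c) (f (f c)) _ hc hc1 a1 b1 a2 b2 a3 b3 n1.symm n2.symm n4.symm n3 ?_
    exact fun h => n4 (finj h)
  obtain ⟨x0, hx0, hx0W⟩ := hMc z (Or.inr (Or.inl rfl)) S.z1 ((m0 : G) ^ 3) (M.pow_mem m0.2 3)
    (mul_inv_eq_iff_eq_mul.1 (hm3 z (Or.inr (Or.inl rfl)) S.z1))
  have hm6 : (m0 : G) ^ 6 = 1 := by
    have hk : (m0 : G) ^ 3 = ((m0 : G) ^ 3 * x0⁻¹) * x0 := by group
    rw [show (m0 : G) ^ 6 = (m0 : G) ^ 3 * (m0 : G) ^ 3 by rw [← pow_add], hk,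
      (show Commute x0 ((m0 : G) ^ 3 * x0⁻¹) from (hUV (hWU hx0W) hx0).symm).mul_mul_mul_comm, S.inV_sq hx0,
      mul_one]
    by_cases h1 : (m0 : G) ^ 3 * x0⁻¹ = 1
    · rw [h1, one_mul]
    · exact (hW1 hx0W h1).2.1
  set σ : G := (m0 : G) ^ 4 with hσ
  have hσM : σ ∈ M := M.pow_mem m0.2 4
  have hσ3 : σ ^ 3 = 1 := by rw [hσ, ← pow_mul, show 4 * 3 = 6 * 2 from rfl, pow_mul, hm6, one_pow]
  have hσc : ∀ c, S.inV c → σ * c * σ⁻¹ = (m0 : G) * c * (m0 : G)⁻¹ := by
    intro c hc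
    by_cases hc1 : c = 1
    · rw [hc1]; group
    conv_rhs => rw [← hm3 c hc hc1]
    rw [hσ, pow_succ' (m0 : G) 3]; group
  have hσV : ∀ c, S.inV c → S.inV (σ * c * σ⁻¹) := fun c hc => hσc c hc ▸ hm0V c hc
  have hσz : σ * z * σ⁻¹ ≠ z := hσc z (Or.inr (Or.inl rfl)) ▸ hm0c z (Or.inr (Or.inl rfl)) S.z1
  have hσ1 : σ ≠ 1 := fun h => hσz (by rw [h]; group)
  -- an element of order three of the centraliser commuting with it
  set CV : Subgroup G := Cz z ⊓ Cz a with hCV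
  obtain ⟨r, hr, r3, r1, hrσ⟩ : ∃ r ∈ Cz z, r ^ 3 = 1 ∧ r ≠ 1 ∧ r * σ = σ * r := by
    set NV := Subgroup.normalizer (S.fourV : Set G)
    have hσN : σ ∈ NV := by
      refine Subgroup.mem_normalizer_iff.2 fun x => ⟨fun hx => hσV x hx, fun hx => ?_⟩
      have h2 := hσV _ (hσV _ hx)
      rwa [show σ * (σ * (σ * x * σ⁻¹) * σ⁻¹) * σ⁻¹ = σ ^ 3 * x * (σ ^ 3)⁻¹ by
        simp only [pow_succ, pow_zero, one_mul, mul_inv_rev, mul_assoc], hσ3, one_mul, inv_one, mul_one] at h2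
    have hCVN : CV ≤ NV := by
      intro h hh
      have key : ∀ k : G, k ∈ CV → ∀ x, S.inV x → k * x * k⁻¹ = x := by
        intro k hk x hx
        refine mul_inv_eq_iff_eq_mul.2 ?_
        rcases hx with h | h | h | h <;> rw [h]
        · group
        · exact mem_Cz.1 hk.1
        · exact mem_Cz.1 hk.2
        · exact (Commute.mul_right (show Commute k a from mem_Cz.1 hk.2) (show Commute k z from mem_Cz.1 hk.1)).eq
      refine Subgroup.mem_normalizer_iff.2 fun x => ⟨fun hx => (key h hh x hx).symm ▸ hx, fun hx => ?_⟩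
      have := key h⁻¹ (CV.inv_mem hh) _ hx
      rw [inv_inv, show h⁻¹ * (h * x * h⁻¹) * h = x by group] at this
      exact this.symm ▸ hx
    obtain ⟨P, hP⟩ := (IsPGroup.of_card (n := 1) (by
      rw [Nat.card_zpowers, Subgroup.orderOf_mk, orderOf_eq_prime hσ3 hσ1, pow_one]) :
      IsPGroup 3 (Subgroup.zpowers (⟨σ, hσN⟩ : NV))).exists_le_sylow
    haveI hCn : (CV.subgroupOf NV).Normal := ⟨fun n hn g => by
      have key : ∀ x, S.inV x → ((g : G) * (n : G) * (g : G)⁻¹) * x = x * ((g : G) * n * (g : G)⁻¹) := by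
        intro x hx
        have hx' : S.inV ((g : G)⁻¹ * x * g) := by
          have := (Subgroup.mem_normalizer_iff.1 (Subgroup.inv_mem _ g.2) x).1 hx
          rwa [inv_inv] at this
        have hc : (n : G) * ((g : G)⁻¹ * x * g) = (g : G)⁻¹ * x * g * n := by
          rw [Subgroup.mem_subgroupOf] at hn
          rcases hx' with h | h | h | h <;> rw [h]
          · group
          · exact mem_Cz.1 hn.1
          · exact mem_Cz.1 hn.2
          · exact (Commute.mul_right (show Commute (n : G) a from mem_Cz.1 hn.2)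
              (show Commute (n : G) z from mem_Cz.1 hn.1)).eq
        calc (g : G) * n * (g : G)⁻¹ * x = g * (n * ((g : G)⁻¹ * x * g)) * (g : G)⁻¹ := by group
          _ = g * ((g : G)⁻¹ * x * g * n) * (g : G)⁻¹ := by rw [hc]
          _ = x * (g * n * (g : G)⁻¹) := by group
      rw [Subgroup.mem_subgroupOf]
      exact ⟨mem_Cz.2 (key z (Or.inr (Or.inl rfl))), mem_Cz.2 (key a (Or.inr (Or.inr (Or.inl rfl))))⟩⟩
    have hr0C : r0 ∈ CV := ⟨hr0, mem_Cz.2 (S.three_a hr0 r03)⟩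
    obtain ⟨P', hP'⟩ := (IsPGroup.of_card (n := 1) (by
      rw [Nat.card_zpowers, Subgroup.orderOf_mk, orderOf_eq_prime r03 r01, pow_one]) :
      IsPGroup 3 (Subgroup.zpowers (⟨r0, hCVN hr0C⟩ : NV))).exists_le_sylow
    obtain ⟨g, hg⟩ := MulAction.exists_smul_eq NV P' P
    set rg : NV := g * ⟨r0, hCVN hr0C⟩ * g⁻¹
    have hrgP : rg ∈ (P : Subgroup NV) := by
      rw [← hg, Sylow.coe_subgroup_smul]
      exact ⟨_, hP' (Subgroup.mem_zpowers _), rfl⟩
    have hrgC : rg ∈ CV.subgroupOf NV := hCn.conj_mem _ hr0C g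
    set T := (P : Subgroup NV) ⊓ CV.subgroupOf NV
    have hT3 : Nat.card T = 3 := by
      have hTp : IsPGroup 3 T := P.2.to_le inf_le_left
      obtain ⟨k, hk⟩ := hTp.exists_card_eq
      have hdvd : Nat.card T ∣ 768 := by
        refine dvd_trans (Subgroup.card_dvd_of_le inf_le_right) ?_
        rw [Nat.card_congr (Subgroup.subgroupOfEquivOfLe hCVN).toEquiv, ← S.cardH]
        exact Subgroup.card_dvd_of_le inf_le_left
      have h3 : 3 ∣ Nat.card T := by
        have ho : orderOf rg = 3 := by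
          refine orderOf_eq_prime ?_ fun h => r01 ?_
          · simp only [rg]
            rw [conj_pow, show (⟨r0, hCVN hr0C⟩ : NV) ^ 3 = 1 from Subtype.ext r03]; group
          · exact congrArg Subtype.val (conj_eq_one_iff.1 h)
        rw [← ho]
        exact Subgroup.orderOf_dvd_natCard T ⟨hrgP, hrgC⟩
      rw [hk] at hdvd h3 ⊢
      have hk1 : k ≤ 1 := by
        by_contra hc
        push Not at hc
        have : 3 ^ 2 ∣ 768 := (pow_dvd_pow 3 hc).trans hdvd
        norm_num at this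
      interval_cases k
      · norm_num at h3
      · norm_num
    have hnT : ∀ p ∈ (P : Subgroup NV), ∀ x ∈ T, p * x * p⁻¹ ∈ T := fun p hp x hx =>
      ⟨(P : Subgroup NV).mul_mem ((P : Subgroup NV).mul_mem hp hx.1) ((P : Subgroup NV).inv_mem hp),
        hCn.conj_mem x hx.2 p⟩
    obtain ⟨⟨t, ht⟩, hto⟩ := exists_prime_orderOf_dvd_card' (G := T) 3 (by rw [hT3])
    rw [Subgroup.orderOf_mk] at hto
    have htop : Subgroup.zpowers t = T :=
      Subgroup.eq_of_le_of_card_ge (Subgroup.zpowers_le.2 ht) (by rw [hT3, Nat.card_zpowers, hto])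
    set s : NV := ⟨σ, hσN⟩
    have hst : s * t * s⁻¹ ∈ Subgroup.zpowers t := htop.symm ▸ hnT s (hP (Subgroup.mem_zpowers _)) t ht
    have ht3 : t ^ 3 = 1 := hto ▸ pow_orderOf_eq_one t
    have ht1 : t ≠ 1 := fun h => by rw [h, orderOf_one] at hto; norm_num at hto
    have hs3 : s ^ 3 = 1 := Subtype.ext hσ3
    have hcomm : s * t = t * s := by
      obtain ⟨k, hk⟩ := (mem_powers_iff_mem_zpowers (x := t) (y := s * t * s⁻¹)).2 hst
      change t ^ k = s * t * s⁻¹ at hk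
      have hiter : ∀ j : ℕ, s ^ j * t * (s ^ j)⁻¹ = t ^ (k ^ j) := by
        intro j
        induction j with
        | zero => simp
        | succ j ih =>
          rw [pow_succ' s, show s * s ^ j * t * (s * s ^ j)⁻¹ = s * (s ^ j * t * (s ^ j)⁻¹) * s⁻¹ by group, ih,
            ← conj_pow, ← hk, ← pow_mul, pow_succ', mul_comm k]
      have h3 := hiter 3
      rw [hs3, one_mul, inv_one, mul_one] at h3
      have hmod : k ^ 3 % 3 = 1 := by
        have e1 : t ^ 1 = t ^ (k ^ 3) := by rw [pow_one]; exact h3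
        have := pow_eq_pow_iff_modEq.1 e1
        rw [hto] at this
        exact this.symm
      have hk3 : k % 3 = 1 := by
        have h' := hmod
        rw [Nat.pow_mod] at h'
        have hlt : k % 3 < 3 := Nat.mod_lt _ (by norm_num)
        interval_cases hk' : k % 3 <;> omega
      have ht1' : t ^ k = t := by
        rw [← pow_mod_orderOf, hto, hk3, pow_one]
      exact mul_inv_eq_iff_eq_mul.1 (hk.symm.trans ht1')
    exact ⟨(t : G), ht.2.1, congrArg Subtype.val ht3, fun h => ht1 (Subtype.ext h),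
      (congrArg Subtype.val hcomm).symm⟩
  obtain ⟨p3, p1'⟩ := S.three_image hr r3 r1
  -- `W` is the centraliser of `σ` in `U`
  have hWσ : ∀ x ∈ W, σ * x = x * σ := fun x hx => hMW σ hσM x hx
  have hUσ : ∀ u ∈ S.U, σ * u = u * σ → u ∈ W := by
    intro u hu hc
    have inE : ∀ x ∈ E, x * a = a * x → σ * x = x * σ → x = 1 := by
      intro x hx hxa hxc
      have sfix : ∀ c, S.inV c → σ * c = c * σ → c = 1 := by
        intro c hc' h
        by_contra h1
        exact hm0c c hc' h1 ((hσc c hc').symm.trans (mul_inv_eq_iff_eq_mul.2 h))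
      have hx2 : x * x = 1 := by
        refine sfix _ ?_ ((Commute.mul_right (show Commute σ x from hxc) hxc).eq)
        rcases S.sq x hx with h | h <;> rw [h]
        exacts [Or.inl rfl, Or.inr (Or.inl rfl)]
      rcases S.invol_E hx hx2 with h | h | ⟨i, h⟩
      · exact h
      · exact sfix x (h.symm ▸ Or.inr (Or.inl rfl)) hxc
      · by_cases hi : i = 0
        · exact sfix x (S.inV_of_v hx (Or.inr (hi ▸ h))) hxc
        · have := S.bit_comm hx S.aE hxa
          rw [h, S.va, b4_sv i hi] at this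
          exact Bool.noConfusion this
    rcases hu.2.2 with h | h
    · rw [inE u ((S.p_one u hu.1).1 h) hu.2.1 hc]
      exact W.one_mem
    · have hk : ∃ k ∈ W, π k = π u := by
        rcases dbl_three_list _ hde _ hdw hne _ h with h' | h' | h'
        · exact ⟨e, Or.inr (Or.inl rfl), h'.symm⟩
        · exact ⟨w, Or.inr (Or.inr (Or.inl rfl)), h'.symm⟩
        · exact ⟨e * w, Or.inr (Or.inr (Or.inr rfl)), by rw [h', S.p_mul e he w hw]⟩
      obtain ⟨k, hk, hpk⟩ := hk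
      have hd' := S.U.mul_mem hu (S.U.inv_mem (hWU hk))
      have := inE (u * k⁻¹) ((S.p_one _ hd'.1).1 (by
        rw [S.p_mul u hu.1 _ ((Cz z).inv_mem (hWU hk).1), S.p_inv (hWU hk).1, hpk, mul_inv_cancel])) hd'.2.1
        ((Commute.mul_right (show Commute σ u from hc) (show Commute σ k from hWσ k hk).inv_right).eq)
      rw [mul_inv_eq_one.1 this]; exact hk
  have hrW : ∀ x ∈ W, r * x * r⁻¹ ∈ W := fun x hx => by
    refine hUσ _ (S.U_normal hr (hWU hx)) ?_
    exact (((show Commute σ r from hrσ.symm).mul_right (hWσ x hx)).mul_right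
      (show Commute σ r from hrσ.symm).inv_right).eq
  have hrfix : ∀ x ∈ W, r * x * r⁻¹ = x → x = 1 := by
    intro x hx h
    by_contra h1
    obtain ⟨hxC, -, hxd⟩ := hW1 hx h1
    have := congrArg π h
    rw [S.p_conj hr hxC] at this
    exact (dbl_rotate _ hxd _ (S.p_zero r hr) p3 p1').1 this.symm
  -- `r` centralises `M` modulo `W`
  set N := Subgroup.normalizer (W : Set G)
  have hMN : M ≤ N := fun m hm => Subgroup.mem_normalizer_iff.2 fun x => ⟨fun hx => by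
      rwa [hMW m hm x hx, mul_inv_cancel_right], fun hx => by
      have h := hMW m⁻¹ (M.inv_mem hm) _ hx
      rw [show m⁻¹ * (m * x * m⁻¹) = x * m⁻¹ by group, mul_left_inj] at h
      rwa [← h] at hx⟩
  have hrN : r ∈ N := by
    refine Subgroup.mem_normalizer_iff.2 fun x => ⟨hrW x, fun hx => ?_⟩
    have := hrW _ (hrW _ hx)
    rwa [show r * (r * (r * x * r⁻¹) * r⁻¹) * r⁻¹ = r ^ 3 * x * (r ^ 3)⁻¹ by
      simp only [pow_succ, pow_zero, one_mul, mul_inv_rev, mul_assoc], r3, one_mul, inv_one, mul_one] at this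
  haveI hWN : (W.subgroupOf N).Normal := Subgroup.normal_in_normalizer
  set qN := QuotientGroup.mk' (W.subgroupOf N)
  have hqN : ∀ {x : N}, qN x = 1 ↔ (x : G) ∈ W := fun {x} => by
    rw [QuotientGroup.mk'_apply, QuotientGroup.eq_one_iff, Subgroup.mem_subgroupOf]
  set f : M →* N ⧸ W.subgroupOf N := qN.comp (Subgroup.inclusion hMN)
  have hfk : f.ker = W.subgroupOf M := by
    ext x
    rw [MonoidHom.mem_ker, Subgroup.mem_subgroupOf]
    exact hqN
  let isoB : f.range ≃* alternatingGroup (Fin 5) :=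
    ((QuotientGroup.quotientKerEquivRange f).symm.trans (QuotientGroup.quotientMulEquivOfEq hfk)).trans iso
  have hzM : z ∈ M := hVM (Or.inr (Or.inl rfl))
  have hrM : ∀ m ∈ M, r * m * r⁻¹ ∈ M := by
    intro m hm
    have hW' : ∀ x ∈ W, r * m * r⁻¹ * x = x * (r * m * r⁻¹) := by
      intro x hx
      have hx' : r⁻¹ * x * r ∈ W := by
        have := (Subgroup.mem_normalizer_iff.1 (N.inv_mem hrN) x).1 hx
        rwa [inv_inv] at this
      calc r * m * r⁻¹ * x = r * (m * (r⁻¹ * x * r)) * r⁻¹ := by group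
        _ = r * (r⁻¹ * x * r * m) * r⁻¹ := by rw [hMW m hm _ hx']
        _ = x * (r * m * r⁻¹) := by group
    exact ⟨mem_Cz.2 (hW' e (Or.inr (Or.inl rfl))), mem_Cz.2 (hW' w (Or.inr (Or.inr (Or.inl rfl))))⟩
  have hσz2 : z * (σ * z * σ⁻¹) = σ * z * σ⁻¹ * z :=
    four_abelian (W := S.fourV) (fun x hx => S.inV_sq hx) (Or.inr (Or.inl rfl)) (hσV z (Or.inr (Or.inl rfl)))
  have hcentral := CfsgLib.J2Type.centralizes_alt5 isoB (x := qN ⟨r, hrN⟩)
    (g := f ⟨σ, hσM⟩) (w := f ⟨z, hzM⟩)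
    (by
      rintro _ ⟨m, rfl⟩
      refine ⟨⟨r * m * r⁻¹, hrM m m.2⟩, ?_⟩
      rw [← map_inv]
      show qN _ = qN _ * qN _ * qN _
      rw [← map_mul, ← map_mul]
      rfl)
    ⟨_, rfl⟩ (by rw [← map_pow, show (⟨σ, hσM⟩ : M) ^ 3 = 1 from Subtype.ext hσ3, map_one])
    (fun h => by
      have hσW : σ ∈ W := by
        have := hqN.1 h
        exact this
      exact hσz (by rw [(hUV (hWU hσW) (Or.inr (Or.inl rfl))), mul_inv_cancel_right]))
    ⟨_, rfl⟩ (by rw [← map_mul, show (⟨z, hzM⟩ : M) * ⟨z, hzM⟩ = 1 from Subtype.ext S.z2, map_one])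
    (fun h => S.z1 (hWV (hqN.1 h) (Or.inr (Or.inl rfl))))
    (by simp only [← map_mul, ← map_inv]; exact congrArg f (Subtype.ext hσz2))
    (congrArg qN (show (⟨r, hrN⟩ : N) * ⟨σ, hMN hσM⟩ = ⟨σ, hMN hσM⟩ * ⟨r, hrN⟩ from Subtype.ext hrσ))
    (congrArg qN (show (⟨r, hrN⟩ : N) * ⟨z, hMN hzM⟩ = ⟨z, hMN hzM⟩ * ⟨r, hrN⟩ from Subtype.ext (mem_Cz.1 hr)))
  -- lifts fixed by `r`
  have hlift : ∀ m ∈ M, ∃ k ∈ W, r * (m * k) = m * k * r := by
    intro m hm
    have h0 : m⁻¹ * (r * m * r⁻¹) ∈ W := by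
      have h := hcentral (f ⟨m, hm⟩) ⟨_, rfl⟩
      have h1 : qN ((⟨m, hMN hm⟩ : N)⁻¹ * (⟨r, hrN⟩ * ⟨m, hMN hm⟩ * (⟨r, hrN⟩ : N)⁻¹)) = 1 := by
        change qN ⟨r, hrN⟩ * qN ⟨m, hMN hm⟩ = qN ⟨m, hMN hm⟩ * qN ⟨r, hrN⟩ at h
        rw [map_mul, map_mul, map_mul, map_inv, map_inv, h]; group
      exact hqN.1 h1
    let δ : W → W := fun x => ⟨(r * x * r⁻¹) * (x : G)⁻¹, W.mul_mem (hrW x x.2) (W.inv_mem x.2)⟩
    have hδ : Function.Injective δ := by
      intro x y h
      have e' : r * (x : G) * r⁻¹ * (x : G)⁻¹ = r * y * r⁻¹ * (y : G)⁻¹ := congrArg Subtype.val h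
      have hc := hMW _ (hWM x.2) _ y.2
      have key : r * ((y : G)⁻¹ * x) * r⁻¹ = (y : G)⁻¹ * x := by
        calc r * ((y : G)⁻¹ * x) * r⁻¹ = (r * y * r⁻¹)⁻¹ * (r * x * r⁻¹ * (x : G)⁻¹ * x) := by group
          _ = (r * y * r⁻¹)⁻¹ * (r * y * r⁻¹ * (y : G)⁻¹ * x) := by rw [e']
          _ = (y : G)⁻¹ * x := by group
      exact Subtype.ext (inv_mul_eq_one.1 (hrfix _ (W.mul_mem (W.inv_mem y.2) x.2) key)).symm
    obtain ⟨⟨k, hk⟩, hk'⟩ := (Finite.injective_iff_surjective.1 hδ) ⟨_, W.inv_mem h0⟩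
    refine ⟨k, hk, ?_⟩
    have e' : r * k * r⁻¹ * k⁻¹ = (m⁻¹ * (r * m * r⁻¹))⁻¹ := congrArg Subtype.val hk'
    calc r * (m * k) = m * (m⁻¹ * (r * m * r⁻¹)) * (r * k * r⁻¹ * k⁻¹) * (k * r) := by group
      _ = m * k * r := by rw [e']; group
  set C := M ⊓ Cz r with hC
  set φ : C →* M ⧸ W.subgroupOf M := q.comp (Subgroup.inclusion inf_le_left)
  have hφ : Function.Bijective φ := by
    constructor
    · rw [← MonoidHom.ker_eq_bot_iff, eq_bot_iff]
      intro c hc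
      have hcW : (c : G) ∈ W := hq1.1 hc
      refine Subgroup.mem_bot.2 (Subtype.ext (hrfix _ hcW ?_))
      rw [← mem_Cz.1 c.2.2, mul_inv_cancel_right]
    · intro y
      obtain ⟨⟨m, hm⟩, rfl⟩ := QuotientGroup.mk'_surjective (W.subgroupOf M) y
      obtain ⟨k, hk, hkr⟩ := hlift m hm
      refine ⟨⟨m * k, M.mul_mem hm (hWM hk), mem_Cz.2 hkr.symm⟩, ?_⟩
      show q ⟨m * k, _⟩ = q ⟨m, hm⟩
      rw [show (⟨m * k, M.mul_mem hm (hWM hk)⟩ : M) = ⟨m, hm⟩ * ⟨k, hWM hk⟩ from rfl, map_mul,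
        hq1.2 (show ((⟨k, hWM hk⟩ : M) : G) ∈ W from hk), mul_one]
  have isoC : C ≃* alternatingGroup (Fin 5) := (MulEquiv.ofBijective φ hφ).trans iso
  have hzC : z ∈ C := ⟨hzM, mem_Cz.2 (mem_Cz.1 hr).symm⟩
  have hCX : C ≤ X := by
    haveI := K.normal
    haveI : IsSimpleGroup (alternatingGroup (Fin 5)) := alternatingGroup.isSimpleGroup (by simp)
    haveI : Nontrivial C := isoC.toEquiv.nontrivial
    haveI : IsSimpleGroup C := MulEquiv.isSimpleGroup isoC
    rcases IsSimpleGroup.eq_bot_or_eq_top_of_normal (X.subgroupOf C) inferInstance with h | h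
    · exfalso
      have hzX : (⟨z, hzC⟩ : C) ∈ X.subgroupOf C := K.U_le S.z_U
      rw [h, Subgroup.mem_bot] at hzX
      exact S.z1 (congrArg Subtype.val hzX)
    · exact Subgroup.subgroupOf_eq_top.1 h
  set D := X ⊓ Cz r with hD
  have hrD : r ∈ D := ⟨K.three r hr r3, mem_Cz.2 rfl⟩
  have hCD : C ≤ D := fun c hc => ⟨hCX hc, hc.2⟩
  have hrC : ∀ k : ℤ, r ^ k ∈ C → r ^ k = 1 := by
    intro k hk
    by_contra h1
    have hrk : r ∈ Subgroup.zpowers (r ^ k) := by
      have ho : orderOf r = 3 := orderOf_eq_prime r3 r1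
      have h3 : orderOf (r ^ k) = 3 := by
        refine orderOf_eq_prime ?_ h1
        rw [← zpow_natCast, ← zpow_mul, mul_comm, zpow_mul, zpow_natCast, r3, one_zpow]
      have := Subgroup.eq_of_le_of_card_ge (Subgroup.zpowers_le.2 (Subgroup.zpow_mem _ (Subgroup.mem_zpowers r) k))
        (by rw [Nat.card_zpowers, Nat.card_zpowers, ho, h3])
      rw [this]; exact Subgroup.mem_zpowers r
    have hrM' : r ∈ M := Subgroup.zpowers_le.2 hk.1 hrk
    exact dbl_ne_one hde (by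
      have := hrfix e (Or.inr (Or.inl rfl)) (by rw [mem_Cz.1 hrM'.1, mul_inv_cancel_right])
      rw [this, S.p1])
  let F : Subgroup.zpowers r × C → D := fun p => ⟨p.1 * p.2, D.mul_mem (Subgroup.zpowers_le.2 hrD p.1.2) (hCD p.2.2)⟩
  have hF : Function.Injective F := by
    rintro ⟨⟨x, hx⟩, ⟨c, hc⟩⟩ ⟨⟨y, hy⟩, ⟨c', hc'⟩⟩ h
    have e' : x * c = y * c' := congrArg Subtype.val h
    obtain ⟨k, hk⟩ := Subgroup.mem_zpowers_iff.1 (Subgroup.mul_mem _ (Subgroup.inv_mem _ hy) hx)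
    have h1 : y⁻¹ * x = c' * c⁻¹ := by
      calc y⁻¹ * x = y⁻¹ * (x * c) * c⁻¹ := by group
        _ = c' * c⁻¹ := by rw [e']; group
    have := hrC k (hk ▸ h1 ▸ C.mul_mem hc' (C.inv_mem hc))
    rw [hk] at this
    have hxy := (inv_mul_eq_one.1 this).symm
    subst hxy
    simp only [Prod.mk.injEq, Subtype.mk.injEq, true_and]
    exact mul_left_cancel e'
  have hFb : Function.Bijective F := by
    refine hF.bijective_of_nat_card_le ?_
    rw [Nat.card_prod, Nat.card_zpowers, orderOf_eq_prime r3 r1, Nat.card_congr isoC.toEquiv,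
      CfsgLib.J2Type.card_alt5]
    exact S.three_le hza K hr r3 r1
  have hinvC : ∀ x ∈ D, x * x = 1 → x ∈ C := by
    intro x hx x2
    obtain ⟨⟨⟨y, hy⟩, ⟨c, hc⟩⟩, e'⟩ := hFb.2 ⟨x, hx⟩
    obtain rfl : y * c = x := congrArg Subtype.val e'
    obtain ⟨k, rfl⟩ := Subgroup.mem_zpowers_iff.1 hy
    have hcm : Commute (r ^ k) c := ((show Commute c r from mem_Cz.1 hc.2).zpow_right k).symm
    rw [hcm.symm.mul_mul_mul_comm] at x2
    have h2 : r ^ (k + k) ∈ C := by
      rw [zpow_add, eq_inv_of_mul_eq_one_left x2]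
      exact C.inv_mem (C.mul_mem hc hc)
    have h3 := hrC _ h2
    have h6 : (r ^ k) ^ 3 = 1 := by
      rw [← zpow_natCast, ← zpow_mul, mul_comm, zpow_mul, zpow_natCast, r3, one_zpow]
    rw [pow_succ, pow_two, ← zpow_add, h3, one_mul] at h6
    rw [h6, one_mul]
    exact hc
  -- an involution in `C` not commuting with `z`
  obtain ⟨k, hk, hkr⟩ := hlift z' hz'M
  set z'' := z' * k with hz''
  have hz''C : z'' ∈ C := ⟨M.mul_mem hz'M (hWM hk), mem_Cz.2 hkr.symm⟩
  have hz''2 : z'' * z'' = 1 := by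
    have hk2 : k * k = 1 := by
      by_cases h : k = 1
      · rw [h, one_mul]
      · exact (hW1 hk h).2.1
    rw [hz'', (show Commute k z' from (hMW z' hz'M k hk).symm).mul_mul_mul_comm, z'2, hk2, one_mul]
  have hz''z : ¬ z'' * z = z * z'' := by
    intro h
    apply hz'z
    have hkz : Commute k z := mem_Cz.1 (hWU hk).1
    rw [show z' = z'' * k⁻¹ by rw [hz'', mul_inv_cancel_right]]
    exact ((show Commute z'' z from h).mul_left hkz.inv_left).eq
  obtain ⟨i, hi0, hi⟩ := three_point _ (S.p_zero r hr) p3 p1'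
  obtain ⟨b, hb, hvb⟩ := S.v_surj (sv i)
  have hb2 : b * b = 1 := by rw [S.v_sq b hb, hvb, (sv_facts.1 i).1]; rfl
  have hbi : b⁻¹ = b := inv_eq_of_mul_eq_one_right hb2
  have hbr : Commute r b := S.three_commute hr r3 hb hvb hi
  have hbz : b * z'' * b ∈ C := by
    refine hinvC _ ⟨?_, ?_⟩ ?_
    · have := K.normal.conj_mem z'' (hCX hz''C) b
      rwa [hbi] at this
    · exact (Cz r).mul_mem ((Cz r).mul_mem (mem_Cz.2 hbr.symm.eq) hz''C.2) (mem_Cz.2 hbr.symm.eq)
    · rw [show b * z'' * b * (b * z'' * b) = b * z'' * (b * b) * z'' * b by group, hb2, mul_one,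
        mul_assoc b z'' z'', hz''2, mul_one, hb2]
  have hbe : Commute z'' (b * e * b) := by
    have h := mem_Cz.1 hbz.1.1
    show z'' * (b * e * b) = b * e * b * z''
    calc z'' * (b * e * b) = b * b * z'' * b * e * b := by rw [hb2]; group
      _ = b * (b * z'' * b * e) * b := by group
      _ = b * (e * (b * z'' * b)) * b := by rw [h]
      _ = b * e * b * z'' * (b * b) := by group
      _ = b * e * b * z'' := by rw [hb2, mul_one]
  have ei : e⁻¹ = e := inv_eq_of_mul_eq_one_right e2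
  set F' := e * (b * e * b)
  have hF' : F' = e * b * e⁻¹ * b := by simp only [F', ei, mul_assoc]
  have hFE : F' ∈ E := hF' ▸ E.mul_mem (S.enorm e he b hb) hb
  have hF2 : F' * F' = z := by
    rw [S.v_sq F' hFE]
    rw [show v F' = ad (act5 (π e) (sv i)) (sv i) by
      rw [hF', S.v_mul _ (S.enorm e he b hb) b hb, S.p_act e he b hb, hvb]]
    rw [dbl_flip_sv _ hde i hi0]
    rfl
  have hc1 : Commute z'' F' := (show Commute z'' e from mem_Cz.1 hz''C.1.1).mul_right hbe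
  exact hz''z (hF2 ▸ (hc1.mul_right hc1).eq)

end Setting

end CfsgLib.MinusFourSymFour
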