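import Cfsg.Agent.Lib.MinusFourSymFour.TwoTransfer

/-!
Orders of the local subgroups and their centralisers.
-/

set_option autoImplicit false
set_option linter.unusedSectionVars false
set_option linter.style.haveILetI false
set_option synthInstance.maxSize 2000
set_option synthInstance.maxHeartbeats 100000

namespace CfsgLib.MinusFourSymFour

theorem dbl_list : (Finset.univ.filter fun σ : S5 => σ = 1 ∨ Dbl σ).card = 4 := by decide +kernel

theorem dbl_mul : ∀ δ : S5, Dbl δ → ∀ ε : S5, Dbl ε → δ ≠ ε → Dbl (δ * ε) := by decide +kernel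

theorem dbl_cent2 : ∀ δ : S5, Dbl δ → ∀ ε : S5, Dbl ε → δ ≠ ε → ∀ σ : S5, σ 0 = 0 →
    σ * δ = δ * σ → σ * ε = ε * σ → σ = 1 ∨ σ = δ ∨ σ = ε ∨ σ = δ * ε := by decide +kernel

theorem three_cent : ∀ r : S5, r 0 = 0 → r * r * r = 1 → r ≠ 1 → ∀ σ : S5, σ 0 = 0 → σ * r = r * σ →
    σ = 1 ∨ σ = r ∨ σ = r * r := by decide +kernel

theorem three_fix_vec : ∀ r : S5, r 0 = 0 → r * r * r = 1 → r ≠ 1 → ∀ c, act5 r c = c → b4 c (sv 0) = false →
    c = z4 ∨ c = sv 0 := by decide +kernel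

theorem three_point : ∀ r : S5, r 0 = 0 → r * r * r = 1 → r ≠ 1 → ∃ i, i ≠ 0 ∧ r i = i := by decide +kernel

namespace Setting

variable {G : Type*} [Group G] {z : G} {E : Subgroup G} {v : G → B4} {π : G → S5} {a : G}
  (S : Setting z E v π a)
include S

theorem inV_mul {x y : G} (hx : S.inV x) (hy : S.inV y) : S.inV (x * y) := by
  refine S.inV_of_v (E.mul_mem (S.inV_mem hx) (S.inV_mem hy)) ?_
  rw [S.v_mul _ (S.inV_mem hx) _ (S.inV_mem hy)]
  obtain ⟨h0, -, -⟩ := ad_facts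
  rcases S.inV_v hx with e | e <;> rcases S.inV_v hy with e' | e' <;> rw [e, e']
  · exact Or.inl (h0 z4).1
  · exact Or.inr (h0 _).2.1
  · exact Or.inr (h0 _).1
  · exact Or.inl (h0 _).2.2

theorem inV_inv {x : G} (hx : S.inV x) : S.inV x⁻¹ := by
  refine S.inV_of_v (E.inv_mem (S.inV_mem hx)) ?_
  rw [S.v_inv (S.inV_mem hx)]
  exact S.inV_v hx

/-- the four group -/
def fourV (S : Setting z E v π a) : Subgroup G where
  carrier := {x | S.inV x}
  one_mem' := Or.inl rfl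
  mul_mem' := fun {_ _} hx hy => S.inV_mul hx hy
  inv_mem' := fun {_} hx => S.inV_inv hx

theorem inV_sq {x : G} (h : S.inV x) : x * x = 1 := by
  rcases h with h | h | h | h <;> rw [h]
  · exact one_mul 1
  · exact S.z2
  · exact S.a2
  · rw [show a * z * (a * z) = a * (z * a) * z by group, S.za, ← mul_assoc, S.a2, one_mul, S.z2]

theorem card_V : Nat.card S.fourV = 4 := by
  have haz1 : a * z ≠ 1 := fun e => S.az_ne (by rw [eq_inv_of_mul_eq_one_left e, S.zinv])
  have haza : a * z ≠ a := fun e => S.z1 (mul_eq_left.1 e)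
  have hazz : a * z ≠ z := fun e => S.a1 (mul_eq_right.1 e)
  let f : Fin 4 → G := ![1, z, a, a * z]
  have hf : Function.Injective f := by
    intro i j h
    fin_cases i <;> fin_cases j <;>
      simp [f, S.z1, S.z1.symm, S.a1, S.a1.symm, S.az_ne, S.az_ne.symm, haz1, haz1.symm, haza, haza.symm,
        hazz, hazz.symm] at h ⊢
  have : Set.range f = (S.fourV : Set G) := by
    ext x
    constructor
    · rintro ⟨i, rfl⟩
      show S.inV (f i)
      fin_cases i <;> simp [f, Setting.inV]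
    · rintro (h | h | h | h)
      exacts [⟨0, h.symm⟩, ⟨1, h.symm⟩, ⟨2, h.symm⟩, ⟨3, h.symm⟩]
  calc Nat.card S.fourV = Nat.card (Set.range f) := by rw [this]; rfl
    _ = 4 := by rw [Nat.card_range_of_injective hf, Nat.card_fin]

/-- the order of a subgroup of the centraliser -/
theorem card_split [Finite G] {K : Subgroup G} (hK : K ≤ Cz z) (P : Finset S5)
    (hP : ∀ σ, σ ∈ P ↔ ∃ k ∈ K, π k = σ) : Nat.card K = P.card * Nat.card (K ⊓ E : Subgroup G) := by
  let f : K →* S5 :=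
    { toFun := fun k => π k
      map_one' := S.p1
      map_mul' := fun x y => S.p_mul _ (hK x.2) _ (hK y.2) }
  have hr : Nat.card f.range = P.card := by
    rw [← Nat.card_eq_finsetCard P]
    refine Nat.card_congr (Equiv.subtypeEquivRight fun σ => ?_)
    rw [hP]
    exact ⟨fun ⟨k, e⟩ => ⟨k, k.2, e⟩, fun ⟨k, hk, e⟩ => ⟨⟨k, hk⟩, e⟩⟩
  have hk : f.ker = (K ⊓ E).subgroupOf K := by
    ext k
    rw [MonoidHom.mem_ker, Subgroup.mem_subgroupOf]
    exact ⟨fun e => ⟨k.2, (S.p_one _ (hK k.2)).1 e⟩, fun e => S.p_E e.2⟩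
  have h := f.ker.card_mul_index
  rw [Subgroup.index_ker, hr, hk, Nat.card_congr (Subgroup.subgroupOfEquivOfLe inf_le_left).toEquiv] at h
  rw [← h, mul_comm]

theorem card_CEa [Finite G] : Nat.card (E ⊓ Subgroup.centralizer ({a} : Set G) : Subgroup G) = 16 := by
  obtain ⟨y, hy, hya⟩ := S.flip S.aE (by rw [S.va]; exact (sv_facts.1 0).2)
  set C := (E ⊓ Subgroup.centralizer ({a} : Set G) : Subgroup G)
  have hC : ∀ x, x ∈ C ↔ x ∈ E ∧ x * a = a * x := fun x =>
    ⟨fun h => ⟨h.1, Subgroup.mem_centralizer_singleton_iff.1 h.2⟩,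
      fun h => ⟨h.1, Subgroup.mem_centralizer_singleton_iff.2 h.2⟩⟩
  have hyn : ¬ y * a = a * y := fun e => S.z1 (mul_eq_left.1 ((mul_inv_eq_iff_eq_mul.2 e).symm.trans hya).symm)
  let f : C × Bool → E := fun p => ⟨(p.1 : G) * bif p.2 then y else 1,
    E.mul_mem p.1.2.1 (by cases p.2 <;> simp [hy, E.one_mem])⟩
  have hf : Function.Bijective f := by
    constructor
    · rintro ⟨⟨c, hc⟩, p⟩ ⟨⟨d, hd⟩, q⟩ h
      have e : c * (bif p then y else 1) = d * (bif q then y else 1) := congrArg Subtype.val h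
      cases p <;> cases q <;> simp only [cond_true, cond_false, mul_one] at e
      · subst e; rfl
      · exact absurd (show y * a = a * y from by
          have : y ∈ C := by rw [show y = d⁻¹ * c by rw [e]; group]; exact C.mul_mem (C.inv_mem hd) hc
          exact ((hC y).1 this).2) hyn
      · exact absurd (show y * a = a * y from by
          have : y ∈ C := by rw [show y = c⁻¹ * d by rw [← e]; group]; exact C.mul_mem (C.inv_mem hc) hd
          exact ((hC y).1 this).2) hyn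
      · rw [Prod.mk.injEq]; exact ⟨Subtype.ext (mul_right_cancel e), rfl⟩
    · rintro ⟨x, hx⟩
      by_cases h : x * a = a * x
      · exact ⟨⟨⟨x, (hC x).2 ⟨hx, h⟩⟩, false⟩, Subtype.ext (mul_one x)⟩
      · refine ⟨⟨⟨x * y⁻¹, (hC _).2 ⟨E.mul_mem hx (E.inv_mem hy), ?_⟩⟩, true⟩, Subtype.ext (inv_mul_cancel_right x y)⟩
        have hxa : x * a * x⁻¹ = a * z :=
          (S.conj_a (S.ecz x hx)).resolve_left fun e => h (mul_inv_eq_iff_eq_mul.1 e)
        have hyi : y⁻¹ * a * y = a * z := by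
          calc y⁻¹ * a * y = y⁻¹ * (a * z * z) * y := by rw [mul_assoc a z z, S.z2, mul_one]
            _ = y⁻¹ * (y * a * y⁻¹ * z) * y := by rw [hya]
            _ = a * (y⁻¹ * (z * y)) := by group
            _ = a * z := by rw [← mem_Cz.1 (S.ecz y hy), inv_mul_cancel_left]
        refine mul_inv_eq_iff_eq_mul.1 ?_
        rw [show x * y⁻¹ * a * (x * y⁻¹)⁻¹ = x * (y⁻¹ * a * y) * x⁻¹ by group, hyi, S.conj_mul, hxa,
          S.conj_z (S.ecz x hx), mul_assoc, S.z2, mul_one]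
  have := Nat.card_congr (Equiv.ofBijective f hf)
  rw [Nat.card_prod, S.card, Nat.card_eq_fintype_card (α := Bool), Fintype.card_bool] at this
  omega

theorem card_U [Finite G] : Nat.card S.U = 64 := by
  rw [S.card_split S.U_le (Finset.univ.filter fun σ : S5 => σ = 1 ∨ Dbl σ)]
  · rw [dbl_list, show S.U ⊓ E = E ⊓ Subgroup.centralizer ({a} : Set G) by
      ext x
      exact ⟨fun h => ⟨h.2, Subgroup.mem_centralizer_singleton_iff.2 h.1.2.1⟩,
        fun h => ⟨S.E_U h.1 (Subgroup.mem_centralizer_singleton_iff.1 h.2), h.1⟩⟩, S.card_CEa]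
  · intro σ
    simp only [Finset.mem_filter, Finset.mem_univ, true_and]
    constructor
    · intro h
      obtain ⟨g, hg, hga, rfl⟩ := S.lift_a (σ := σ) (by rcases h with rfl | h; exacts [rfl, h.1])
      exact ⟨g, ⟨hg, hga, h⟩, rfl⟩
    · rintro ⟨k, hk, rfl⟩
      exact hk.2.2

theorem three_commute {r x : G} (hr : r ∈ Cz z) (r3 : r ^ 3 = 1) (hx : x ∈ E) {i : Fin 5} (hvx : v x = sv i)
    (hi : π r i = i) : r * x = x * r := by
  rcases S.mem_of_v (S.enorm r hr x hx) hx (by rw [S.p_act r hr x hx, hvx, act5_sv, hi]) with e | e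
  · exact mul_inv_eq_iff_eq_mul.1 e
  · exfalso
    have step : r * (x * z) * r⁻¹ = x := by
      rw [S.conj_mul, e, S.conj_z hr, mul_assoc, S.z2, mul_one]
    have : r ^ 3 * x * (r ^ 3)⁻¹ = x * z := by
      calc r ^ 3 * x * (r ^ 3)⁻¹ = r * (r * (r * x * r⁻¹) * r⁻¹) * r⁻¹ := by
            simp only [pow_succ, pow_zero, one_mul, mul_inv_rev, mul_assoc]
        _ = x * z := by rw [e, step, e]
    rw [r3, one_mul, inv_one, mul_one] at this
    exact S.z1 (mul_eq_left.1 this.symm)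

theorem three_a {r : G} (hr : r ∈ Cz z) (r3 : r ^ 3 = 1) : r * a = a * r :=
  S.three_commute hr r3 S.aE S.va (S.p_zero r hr)

/-- the centraliser in `C(z)` of two commuting involutions outside `E` -/
theorem cent_pair {e w h : G} (he : e ∈ Cz z) (e2 : e * e = 1) (hde : Dbl (π e)) (hw : w ∈ Cz z)
    (hdw : Dbl (π w)) (hne : π e ≠ π w) (hew : e * w = w * e) (hh : h ∈ Cz z)
    (h1 : h * e = e * h) (h2 : h * w = w * h) :
    ∃ k, (k = 1 ∨ k = e ∨ k = w ∨ k = e * w) ∧ S.inV (h * k⁻¹) := by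
  have c1 : π h * π e = π e * π h := by rw [← S.p_mul h hh e he, h1, S.p_mul e he h hh]
  have c2 : π h * π w = π w * π h := by rw [← S.p_mul h hh w hw, h2, S.p_mul w hw h hh]
  have key : ∀ k ∈ Cz z, π h = π k → k * e = e * k → S.inV (h * k⁻¹) := by
    intro k hk hpk hke
    have hd : h * k⁻¹ ∈ Cz z := (Cz z).mul_mem hh ((Cz z).inv_mem hk)
    refine S.dbl_cent he e2 hde ((S.p_one _ hd).1 ?_) ?_
    · rw [S.p_mul h hh _ ((Cz z).inv_mem hk), S.p_inv hk, hpk, mul_inv_cancel]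
    · exact ((Commute.mul_right (show Commute e h from h1.symm) (show Commute e k from hke.symm).inv_right)).eq
  rcases dbl_cent2 _ hde _ hdw hne _ (S.p_zero h hh) c1 c2 with p | p | p | p
  · exact ⟨1, Or.inl rfl, key 1 (Cz z).one_mem (by rw [p, S.p1]) (by rw [one_mul, mul_one])⟩
  · exact ⟨e, Or.inr (Or.inl rfl), key e he p rfl⟩
  · exact ⟨w, Or.inr (Or.inr (Or.inl rfl)), key w hw p hew.symm⟩
  · exact ⟨e * w, Or.inr (Or.inr (Or.inr rfl)), key _ ((Cz z).mul_mem he hw) (by rw [p, S.p_mul e he w hw])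
      (by rw [mul_assoc, hew.symm])⟩

/-- the centraliser in `X ∩ C(z)` of an element of order three -/
theorem cent_three {X : Subgroup G} (K : Kill S X) {r h : G} (hr : r ∈ Cz z) (r3 : r ^ 3 = 1) (r1 : r ≠ 1)
    (hhX : h ∈ X) (hh : h ∈ Cz z) (hc : h * r = r * h) : ∃ n : ℕ, S.inV (h * (r ^ n)⁻¹) := by
  obtain ⟨p3, p1'⟩ := S.three_image hr r3 r1
  have c1 : π h * π r = π r * π h := by rw [← S.p_mul h hh r hr, hc, S.p_mul r hr h hh]
  obtain ⟨n, hn⟩ : ∃ n : ℕ, π h = π (r ^ n) := by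
    rcases three_cent _ (S.p_zero r hr) p3 p1' _ (S.p_zero h hh) c1 with p | p | p
    · exact ⟨0, by rw [p, pow_zero, S.p1]⟩
    · exact ⟨1, by rw [p, pow_one]⟩
    · exact ⟨2, by rw [p, pow_two, S.p_mul r hr r hr]⟩
  refine ⟨n, ?_⟩
  set x := h * (r ^ n)⁻¹ with hx
  have hrn : r ^ n ∈ Cz z := (Cz z).pow_mem hr n
  have hxC : x ∈ Cz z := (Cz z).mul_mem hh ((Cz z).inv_mem hrn)
  have hxE : x ∈ E := (S.p_one x hxC).1 (by
    rw [hx, S.p_mul h hh _ ((Cz z).inv_mem hrn), S.p_inv hrn, hn, mul_inv_cancel])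
  have hxX : x ∈ X := X.mul_mem hhX (X.inv_mem (X.pow_mem (K.three r hr r3) n))
  have hxr : Commute x r :=
    (show Commute h r from hc).mul_left ((Commute.refl r).pow_left n).inv_left
  have hfix : act5 (π r) (v x) = v x := by
    rw [← S.p_act r hr x hxE, mul_inv_eq_iff_eq_mul.2 hxr.symm.eq]
  have hb : b4 (v x) (sv 0) = false := by
    rw [← S.va]; exact S.bit_comm hxE S.aE (K.mem_E x hxE hxX)
  exact S.inV_of_v hxE (three_fix_vec _ (S.p_zero r hr) p3 p1' _ hfix hb)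

end Setting

theorem Kill.conjMap {G : Type*} [Group G] {z : G} {E : Subgroup G} {v : G → B4} {π : G → S5} {a : G}
    {S : Setting z E v π a} {X : Subgroup G} (K : Kill S X) (g : G) : Kill (S.map g) X := by
  have hmem : ∀ x, g⁻¹ * x * g ∈ X ↔ x ∈ X := by
    intro x
    constructor
    · intro h
      have := K.normal.conj_mem _ h g
      rwa [show g * (g⁻¹ * x * g) * g⁻¹ = x by group] at this
    · intro h
      have := K.normal.conj_mem _ h g⁻¹
      rwa [inv_inv] at this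
  have hC : ∀ {h : G}, h ∈ Cz (g * z * g⁻¹) → g⁻¹ * h * g ∈ Cz z := by
    intro h hh
    rw [mem_Cz] at hh ⊢
    calc g⁻¹ * h * g * z = g⁻¹ * (h * (g * z * g⁻¹)) * g := by group
      _ = g⁻¹ * (g * z * g⁻¹ * h) * g := by rw [hh]
      _ = z * (g⁻¹ * h * g) := by group
  have hca : ∀ {h : G}, h * (g * a * g⁻¹) = g * a * g⁻¹ * h ↔ g⁻¹ * h * g * a = a * (g⁻¹ * h * g) := by
    intro h
    constructor
    · intro e
      calc g⁻¹ * h * g * a = g⁻¹ * (h * (g * a * g⁻¹)) * g := by group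
        _ = g⁻¹ * (g * a * g⁻¹ * h) * g := by rw [e]
        _ = a * (g⁻¹ * h * g) := by group
    · intro e
      calc h * (g * a * g⁻¹) = g * (g⁻¹ * h * g * a) * g⁻¹ := by group
        _ = g * (a * (g⁻¹ * h * g)) * g⁻¹ := by rw [e]
        _ = g * a * g⁻¹ * h := by group
  refine ⟨K.normal, ?_, ?_, ?_⟩
  · rintro x ⟨y, hy, rfl⟩ hX
    refine hca.2 ?_
    change g * y * g⁻¹ ∈ X at hX
    show g⁻¹ * (g * y * g⁻¹) * g * a = a * (g⁻¹ * (g * y * g⁻¹) * g)
    rw [show g⁻¹ * (g * y * g⁻¹) * g = y by group]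
    refine K.mem_E y hy ?_
    have := (hmem _).2 hX
    rwa [show g⁻¹ * (g * y * g⁻¹) * g = y by group] at this
  · intro u hu
    exact (hmem u).1 (K.U_le ⟨hC hu.1, hca.1 hu.2.1, hu.2.2⟩)
  · intro r hr r3
    exact (hmem r).1 (K.three _ (hC hr) (by
      rw [show g⁻¹ * r * g = g⁻¹ * r * g⁻¹⁻¹ by rw [inv_inv], conj_pow, r3]; group))

end CfsgLib.MinusFourSymFour
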