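import Cfsg.Agent.Lib.MinusFourSymFour.ClosedMain

/-!
The subgroup of index four and the normaliser of the four group in it.
-/

set_option autoImplicit false
set_option linter.unusedSectionVars false
set_option linter.style.haveILetI false
set_option synthInstance.maxSize 2000
set_option synthInstance.maxHeartbeats 100000

namespace CfsgLib.MinusFourSymFour

theorem sign_tr : ∀ σ : S5, Tr σ → Equiv.Perm.sign σ = -1 := by decide +kernel

theorem sign_even : ∀ σ : S5, (σ = 1 ∨ Dbl σ) → Equiv.Perm.sign σ = 1 := by decide +kernel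

theorem even_cases : ∀ r : S5, r 0 = 0 → r * r * r = 1 → r ≠ 1 → ∀ σ : S5, σ 0 = 0 → Equiv.Perm.sign σ = 1 →
    (σ = 1 ∨ Dbl σ) ∨ (r * σ = 1 ∨ Dbl (r * σ)) ∨ (r * r * σ = 1 ∨ Dbl (r * r * σ)) := by decide +kernel

theorem even_card : (Finset.univ.filter fun σ : S5 => σ 0 = 0 ∧ Equiv.Perm.sign σ = 1).card = 12 := by
  decide +kernel

/-- the data of the subgroup `X` of index four -/
structure Even {G : Type*} [Group G] {z : G} {E : Subgroup G} {v : G → B4} {π : G → S5} {a : G}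
    (S : Setting z E v π a) (X : Subgroup G) : Prop extends Kill S X where
  hza : IsConj z a
  dblz : ∀ d ∈ Cz z, d * d = 1 → Dbl (π d) → IsConj z d
  memH : ∀ h ∈ Cz z, h ∈ X ↔ h * a = a * h ∧ Equiv.Perm.sign (π h) = 1
  cover : ∀ g : G, ∃ h ∈ Cz z, h⁻¹ * g ∈ X
  odd : Odd (Cz z).index

namespace Setting

variable {G : Type*} [Group G] {z : G} {E : Subgroup G} {v : G → B4} {π : G → S5} {a : G}
  (S : Setting z E v π a)
include S

theorem sign_three {r : G} (hr : r ∈ Cz z) (r3 : r ^ 3 = 1) : Equiv.Perm.sign (π r) = 1 := by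
  have h : (Equiv.Perm.sign (π r)) ^ 3 = 1 := by
    rw [← map_pow, show π r ^ 3 = π r * π r * π r by simp only [pow_succ, pow_zero, one_mul],
      ← S.p_mul r hr r hr, ← S.p_mul _ ((Cz z).mul_mem hr hr) r hr,
      show r * r * r = r ^ 3 by simp only [pow_succ, pow_zero, one_mul], r3, S.p1, map_one]
  rwa [pow_succ, pow_two, Int.units_mul_self, one_mul] at h

/-- elements with even image are products -/
theorem even_split {r h : G} (hr : r ∈ Cz z) (r3 : r ^ 3 = 1) (r1 : r ≠ 1) (hh : h ∈ Cz z)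
    (he : Equiv.Perm.sign (π h) = 1) : ∃ (k : ℕ) (u x : G), u ∈ S.U ∧ x ∈ E ∧ r ^ k * h = u * x := by
  obtain ⟨p3, p1'⟩ := S.three_image hr r3 r1
  have key : ∀ g ∈ Cz z, (π g = 1 ∨ Dbl (π g)) → ∃ u x : G, u ∈ S.U ∧ x ∈ E ∧ g = u * x := by
    intro g hg hd
    obtain ⟨u, hu, hua, hpu⟩ := S.lift_a (σ := π g) (S.p_zero g hg)
    refine ⟨u, u⁻¹ * g, ⟨hu, hua, hpu.symm ▸ hd⟩, (S.p_one _ ((Cz z).mul_mem ((Cz z).inv_mem hu) hg)).1 ?_,
      by group⟩
    rw [S.p_mul _ ((Cz z).inv_mem hu) g hg, S.p_inv hu, hpu, inv_mul_cancel]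
  rcases even_cases _ (S.p_zero r hr) p3 p1' _ (S.p_zero h hh) he with e | e | e
  · obtain ⟨u, x, hu, hx, e'⟩ := key h hh e
    exact ⟨0, u, x, hu, hx, by rw [pow_zero, one_mul, e']⟩
  · rw [← S.p_mul r hr h hh] at e
    obtain ⟨u, x, hu, hx, e'⟩ := key _ ((Cz z).mul_mem hr hh) e
    exact ⟨1, u, x, hu, hx, by rw [pow_one, e']⟩
  · rw [← S.p_mul r hr r hr, ← S.p_mul _ ((Cz z).mul_mem hr hr) h hh] at e
    obtain ⟨u, x, hu, hx, e'⟩ := key _ ((Cz z).mul_mem ((Cz z).mul_mem hr hr) hh) e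
    exact ⟨2, u, x, hu, hx, by rw [pow_two, e']⟩

theorem exists_even [Finite G] (hza : IsConj z a) (hsolv : Group.IsSolvable (Cz z))
    (hns : ¬ Group.IsSolvable G) : ∃ X : Subgroup G, Even S X := by
  classical
  obtain ⟨f, K⟩ := S.exists_kill
  have dblz : ∀ d ∈ Cz z, d * d = 1 → Dbl (π d) → IsConj z d := fun d hd d2 hdd =>
    S.dbl_conj_z hza hsolv hns K hd d2 hdd
  let φ : Cz z →* ℤˣ :=
    { toFun := fun h => Equiv.Perm.sign (π h)
      map_one' := by simp [S.p1]
      map_mul' := fun g h => by rw [Subgroup.coe_mul, S.p_mul g g.2 h h.2, map_mul] }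
  set V := MonoidHom.transfer φ with hV
  have hbV : ∀ i : Fin 5, i ≠ 0 → ∀ x ∈ E, v x = sv i → V x = 1 := by
    intro i hi x hx hvx
    rw [S.transfer_invol φ (S.ecz x hx) (by rw [S.v_sq x hx, hvx, (sv_facts.1 i).1]; rfl) fun w hw hc => by
      obtain ⟨h, hh, rfl⟩ := S.b_rigid hx hi hvx hw hc
      show Equiv.Perm.sign (π (h * x * h⁻¹)) = Equiv.Perm.sign (π x)
      rw [S.p_E (S.enorm h hh x hx), S.p_E hx]]
    show Equiv.Perm.sign (π x) = 1
    rw [S.p_E hx, map_one]
  have hVE : ∀ x ∈ E, V x = 1 := fun x hx => by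
    have := S.sv_gen (D := V.ker) (fun i hi y hy hvy => hbV i hi y hy hvy) hx
    exact this
  obtain ⟨t, ht, t2, htr⟩ := S.exists_tr
  have hVt : V t = -1 := by
    have hzb : ∀ c, IsConj z c → c ∈ Cz z → Tr (π c) → False := fun c h hc h' => S.no_tr h hc h'
    have t1 : t ≠ 1 := fun e => htr.2.2.1 (by rw [e, S.p1])
    rw [S.transfer_invol φ ht t2 fun w hw hc => by
      show Equiv.Perm.sign (π w) = Equiv.Perm.sign (π t)
      obtain ⟨g, hg⟩ := isConj_iff.1 hc
      have w2 : w * w = 1 := by rw [← hg, ← S.conj_mul, t2]; group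
      rcases invol_cases _ (S.p_zero w hw) (S.p_invol hw w2) with e | e | e
      · exfalso
        have hwE := (S.p_one w hw).1 e
        rcases S.invol_E hwE w2 with h | h | ⟨i, h⟩
        · exact t1 (conj_eq_one_iff.1 (hg.trans h))
        · exact hzb t ((h ▸ hc).symm) ht htr
        · by_cases hi : i = 0
          · have hzw : IsConj z w := by
              rcases S.pair_cases hwE (hi ▸ h) with h' | h'
              · exact h' ▸ hza
              · exact h' ▸ hza.trans S.a_conj_az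
            exact hzb t (hzw.trans hc.symm) ht htr
          · obtain ⟨k, hk, hkt⟩ := S.b_rigid hwE hi h ht hc.symm
            have := S.p_E (S.enorm k hk w hwE)
            rw [hkt] at this
            exact htr.2.2.1 this
      · exact absurd ((dblz w hw w2 e).trans hc.symm) fun h => hzb t h ht htr
      · rw [sign_tr _ e, sign_tr _ htr]]
    exact sign_tr _ htr
  have three : ∀ r : G, r ^ 3 = 1 → V r = 1 := fun r r3 => by
    have : V r ^ 3 = 1 := by rw [← map_pow, r3, map_one]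
    rwa [pow_succ, pow_two, Int.units_mul_self, one_mul] at this
  have hVU : ∀ u ∈ S.U, V u = 1 := by
    intro u hu
    rcases hu.2.2 with e | e
    · exact hVE u ((S.p_one u hu.1).1 e)
    · obtain ⟨r, hr, r3, r1, -⟩ := S.exists_three_a
      obtain ⟨p3, p1'⟩ := S.three_image hr r3 r1
      set u1 := r * u * r⁻¹
      set c := r * (u * u1) * r⁻¹ with hc
      have hu1 : u1 ∈ S.U := S.U_normal hr hu
      have hcU : c ∈ S.U := S.U_normal hr (S.U.mul_mem hu hu1)
      have hpc : π c = π u := by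
        rw [hc, S.p_conj hr (S.U.mul_mem hu hu1).1, S.p_mul u hu.1 u1 hu1.1]
        simp only [u1]
        rw [S.p_conj hr hu.1]
        exact dbl_three _ e _ (S.p_zero r hr) p3 p1'
      have hd : c⁻¹ * u ∈ S.U := S.U.mul_mem (S.U.inv_mem hcU) hu
      have hdE : c⁻¹ * u ∈ E := (S.p_one _ hd.1).1 (by
        rw [S.p_mul _ ((Cz z).inv_mem hcU.1) u hu.1, S.p_inv hcU.1, hpc, inv_mul_cancel])
      rw [show u = c * (c⁻¹ * u) by group, map_mul, hVE _ hdE, mul_one, hc, map_mul, map_mul, map_inv,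
        mul_inv_cancel_comm, map_mul]
      simp only [u1]
      rw [map_mul, map_mul, map_inv, mul_inv_cancel_comm, Int.units_mul_self]
  obtain ⟨r, hr, r3, r1, hra⟩ := S.exists_three_a
  have hVeven : ∀ h ∈ Cz z, Equiv.Perm.sign (π h) = 1 → V h = 1 := by
    intro h hh he
    obtain ⟨k, u, x, hu, hx, e⟩ := S.even_split hr r3 r1 hh he
    have := congrArg V e
    rwa [map_mul, map_mul, map_pow, three r r3, one_pow, one_mul, hVU u hu, hVE x hx, one_mul] at this
  have hVsign : ∀ h ∈ Cz z, V h = Equiv.Perm.sign (π h) := by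
    intro h hh
    rcases Int.units_eq_one_or (Equiv.Perm.sign (π h)) with e | e
    · rw [hVeven h hh e, e]
    · have := hVeven (t * h) ((Cz z).mul_mem ht hh) (by
        rw [S.p_mul t ht h hh, map_mul, sign_tr _ htr, e]; rfl)
      rw [map_mul, hVt] at this
      rw [e]
      rcases Int.units_eq_one_or (V h) with e' | e'
      · rw [e'] at this; exact absurd this (by decide)
      · exact e'
  refine ⟨f.ker ⊓ V.ker, ⟨⟨inferInstance, fun x hx h => K.mem_E x hx h.1, fun u hu => ⟨K.U_le hu, hVU u hu⟩,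
    fun r hr r3 => ⟨K.three r hr r3, three r r3⟩⟩, hza, dblz, ?_, ?_, S.odd_index⟩⟩
  · intro h hh
    have hsplit : Equiv.Perm.sign (π h) = 1 → (h ∈ f.ker ↔ h * a = a * h) := by
      intro he
      obtain ⟨k, u, x, hu, hx, e⟩ := S.even_split hr r3 r1 hh he
      have hrk : r ^ k ∈ f.ker := f.ker.pow_mem (K.three r hr r3) k
      have hh' : h = (r ^ k)⁻¹ * (u * x) := by rw [← e]; group
      have hrka : Commute (r ^ k)⁻¹ a := ((show Commute r a from hra).pow_left k).inv_left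
      constructor
      · intro hk
        have hx' : x ∈ f.ker := by
          have : x = u⁻¹ * (r ^ k * h) := by rw [e]; group
          rw [this]
          exact f.ker.mul_mem (f.ker.inv_mem (K.U_le hu)) (f.ker.mul_mem hrk hk)
        rw [hh']
        exact (hrka.mul_left ((show Commute u a from hu.2.1).mul_left (K.mem_E x hx hx'))).eq
      · intro hha
        have hxa : x * a = a * x := by
          have : x = u⁻¹ * (r ^ k * h) := by rw [e]; group
          rw [this]
          exact ((show Commute u a from hu.2.1).inv_left.mul_left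
            (((show Commute r a from hra).pow_left k).mul_left hha)).eq
        rw [hh']
        exact f.ker.mul_mem (f.ker.inv_mem hrk) (f.ker.mul_mem (K.U_le hu) (K.U_le (S.E_U hx hxa)))
    rw [Subgroup.mem_inf, show h ∈ V.ker ↔ Equiv.Perm.sign (π h) = 1 by rw [MonoidHom.mem_ker, hVsign h hh]]
    exact ⟨fun ⟨h1, h2⟩ => ⟨(hsplit h2).1 h1, h2⟩, fun ⟨h1, h2⟩ => ⟨(hsplit h2).2 h1, h2⟩⟩
  · intro g
    obtain ⟨b, hb, hvb⟩ := S.v_surj (sv 1)
    have hfb : f b = -1 := by
      refine (Int.units_eq_one_or _).resolve_left fun e => ?_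
      have := S.bit_comm hb S.aE (K.mem_E b hb e)
      rw [hvb, S.va, b4_sv 1 (by decide)] at this
      exact Bool.noConfusion this
    set h1 : G := if V g = 1 then 1 else t
    have h1C : h1 ∈ Cz z := by simp only [h1]; split_ifs <;> [exact (Cz z).one_mem; exact ht]
    have hV1 : V h1 = V g := by
      simp only [h1]; split_ifs with e
      · rw [map_one, e]
      · rw [hVt, (Int.units_eq_one_or (V g)).resolve_left e]
    set h2 : G := if f (h1⁻¹ * g) = 1 then 1 else b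
    have h2C : h2 ∈ Cz z := by simp only [h2]; split_ifs <;> [exact (Cz z).one_mem; exact S.ecz b hb]
    refine ⟨h1 * h2, (Cz z).mul_mem h1C h2C, ?_, ?_⟩
    · show f ((h1 * h2)⁻¹ * g) = 1
      rw [show (h1 * h2)⁻¹ * g = h2⁻¹ * (h1⁻¹ * g) by group, map_mul, map_inv]
      simp only [h2]; split_ifs with e
      · rw [map_one, inv_one, one_mul, e]
      · rw [hfb, (Int.units_eq_one_or (f (h1⁻¹ * g))).resolve_left e]; rfl
    · show V ((h1 * h2)⁻¹ * g) = 1
      rw [show (h1 * h2)⁻¹ * g = h2⁻¹ * (h1⁻¹ * g) by group, map_mul, map_mul, map_inv, map_inv, hV1,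
        inv_mul_cancel, mul_one]
      simp only [h2]; split_ifs
      · rw [map_one, inv_one]
      · rw [hVE b hb, inv_one]

variable {X : Subgroup G} (D : Even S X)
include D

theorem XH_a {h : G} (hh : h ∈ Cz z) (hX : h ∈ X) : h * a = a * h := ((D.memH h hh).1 hX).1

theorem XH_fix {h x : G} (hh : h ∈ Cz z) (hX : h ∈ X) (hx : S.inV x) : h * x = x * h := by
  rcases hx with e | e | e | e <;> rw [e]
  · group
  · exact mem_Cz.1 hh
  · exact S.XH_a D hh hX
  · exact (Commute.mul_right (show Commute h a from S.XH_a D hh hX) (show Commute h z from mem_Cz.1 hh)).eq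

theorem X_cover (g : G) : ∃ x ∈ X, x * z * x⁻¹ = g * z * g⁻¹ := by
  obtain ⟨h, hh, hX⟩ := D.cover g⁻¹
  refine ⟨g * h, ?_, ?_⟩
  · have := X.inv_mem hX
    rwa [mul_inv_rev, inv_inv, inv_inv] at this
  · rw [show g * h * z * (g * h)⁻¹ = g * (h * z * h⁻¹) * g⁻¹ by group, S.conj_z hh]

theorem U_invol {u : G} (hu : u ∈ S.U) (u2 : u * u = 1) (u1 : u ≠ 1) : IsConj z u := by
  rcases hu.2.2 with e | e
  · have huE := (S.p_one u hu.1).1 e
    have hV : S.inV u := by
      rcases S.invol_E huE u2 with h | h | ⟨i, h⟩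
      · exact Or.inl h
      · exact Or.inr (Or.inl h)
      · by_cases hi : i = 0
        · exact S.inV_of_v huE (Or.inr (hi ▸ h))
        · have := S.bit_comm huE S.aE hu.2.1
          rw [h, S.va, b4_sv i hi] at this
          exact Bool.noConfusion this
    exact S.V_conj D.hza hV u1
  · exact D.dblz u hu.1 u2 e

theorem XH_invol {u : G} (hu : u ∈ X) (huC : u ∈ Cz z) (u2 : u * u = 1) : u ∈ S.U := by
  obtain ⟨ha, hs⟩ := (D.memH u huC).1 hu
  refine ⟨huC, ha, ?_⟩
  rcases invol_cases _ (S.p_zero u huC) (S.p_invol huC u2) with e | e | e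
  · exact Or.inl e
  · exact Or.inr e
  · rw [sign_tr _ e] at hs; exact absurd hs (by decide)

/-- every involution of `X` is conjugate to `z` in `X` -/
theorem X_invol [Finite G] {u : G} (hu : u ∈ X) (u2 : u * u = 1) (u1 : u ≠ 1) :
    ∃ x ∈ X, x * z * x⁻¹ = u := by
  classical
  haveI := Fintype.ofFinite (G ⧸ Cz z)
  obtain ⟨q, hq⟩ := Finset.card_pos.1 (CfsgLib.Transfer.odd_card_fixed (H := Cz z) u2 D.odd).pos
  have hmem := CfsgLib.Transfer.mem_of_smul_eq (Finset.mem_filter.1 hq).2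
  have hX : q.out⁻¹ * u * q.out ∈ X := by
    have := D.normal.conj_mem u hu q.out⁻¹
    rwa [inv_inv] at this
  have h2 : q.out⁻¹ * u * q.out * (q.out⁻¹ * u * q.out) = 1 := by
    rw [show q.out⁻¹ * u * q.out * (q.out⁻¹ * u * q.out) = q.out⁻¹ * (u * u) * q.out by group, u2]; group
  have h1 : q.out⁻¹ * u * q.out ≠ 1 := fun e => u1 (by
    have := congrArg (fun t => q.out * t * q.out⁻¹) e
    simpa [mul_assoc] using this)
  obtain ⟨g, hg⟩ := isConj_iff.1 ((S.U_invol D (S.XH_invol D hX hmem h2) h2 h1).trans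
    (isConj_iff.2 ⟨q.out, rfl⟩))
  obtain ⟨x, hx, hxe⟩ := S.X_cover D g
  exact ⟨x, hx, by rw [hxe, hg]; group⟩

theorem card_XH [Finite G] : Nat.card (X ⊓ Cz z : Subgroup G) = 192 := by
  rw [S.card_split inf_le_right (Finset.univ.filter fun σ : S5 => σ 0 = 0 ∧ Equiv.Perm.sign σ = 1)]
  · rw [even_card, show X ⊓ Cz z ⊓ E = E ⊓ Subgroup.centralizer ({a} : Set G) by
      ext x
      constructor
      · intro h
        exact ⟨h.2, Subgroup.mem_centralizer_singleton_iff.2 (S.XH_a D h.1.2 h.1.1)⟩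
      · intro h
        have hxa := Subgroup.mem_centralizer_singleton_iff.1 h.2
        exact ⟨⟨D.U_le (S.E_U h.1 hxa), S.ecz x h.1⟩, h.1⟩, S.card_CEa]
  · intro σ
    simp only [Finset.mem_filter, Finset.mem_univ, true_and]
    constructor
    · rintro ⟨h0, hs⟩
      obtain ⟨g, hg, hga, rfl⟩ := S.lift_a h0
      exact ⟨g, ⟨(D.memH g hg).2 ⟨hga, hs⟩, hg⟩, rfl⟩
    · rintro ⟨k, hk, rfl⟩
      exact ⟨S.p_zero k hk.2, ((D.memH k hk.2).1 hk.1).2⟩

/-- an element of `X` fixing one involution of the four group fixes all -/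
theorem fix_all {n : G} (hn : n ∈ X) {c : G} (hc : S.inV c)
    (hc1 : c ≠ 1) (hnc : n * c = c * n) : n * z = z * n := by
  by_cases hcz : c = z
  · exact hcz ▸ hnc
  obtain ⟨g, hg, -⟩ := S.V_setting D.hza hc hc1
  obtain ⟨x, hx, hxg⟩ := S.X_cover D g
  rw [hg] at hxg
  have hp : x * z * x⁻¹ = a ∨ x * z * x⁻¹ = a * z := hxg.symm ▸ (hc.resolve_left hc1).resolve_left hcz
  have hcc : IsConj z (x * z * x⁻¹) := isConj_iff.2 ⟨x, rfl⟩
  have hn' : x⁻¹ * n * x ∈ X := X.mul_mem (X.mul_mem (X.inv_mem hx) hn) hx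
  have hnC : x⁻¹ * n * x ∈ Cz z := by
    rw [mem_Cz]
    calc x⁻¹ * n * x * z = x⁻¹ * (n * (x * z * x⁻¹)) * x := by group
      _ = x⁻¹ * (x * z * x⁻¹ * n) * x := by rw [hxg, hnc]
      _ = z * (x⁻¹ * n * x) := by group
  have ha := S.XH_a D hnC hn'
  have hna : n * (x * a * x⁻¹) = x * a * x⁻¹ * n := by
    calc n * (x * a * x⁻¹) = x * (x⁻¹ * n * x * a) * x⁻¹ := by group
      _ = x * (a * (x⁻¹ * n * x)) * x⁻¹ := by rw [ha]
      _ = x * a * x⁻¹ * n := by group
  rcases S.pair_sym (S.map x) hcc hp with e | e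
  · rw [e]; exact hna
  · rw [e]
    exact (Commute.mul_right (show Commute n (x * a * x⁻¹) from hna)
      (show Commute n (x * z * x⁻¹) from hxg.symm ▸ hnc)).eq

/-- an element of `X` rotating the four group -/
theorem exists_rotation : ∃ x ∈ X, x * z * x⁻¹ = a ∧ ∀ y, S.inV y ↔ S.inV (x * y * x⁻¹) := by
  obtain ⟨g, hg⟩ := isConj_iff.1 D.hza
  obtain ⟨x, hx, hxg⟩ := S.X_cover D g
  rw [hg] at hxg
  have hcc : IsConj z (x * z * x⁻¹) := isConj_iff.2 ⟨x, rfl⟩
  have hs := S.pair_sym (S.map x) hcc (Or.inl hxg)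
  have hz : S.inV z := Or.inr (Or.inl rfl)
  have ha : S.inV (x * a * x⁻¹) := by
    rcases hs with e | e
    · exact e ▸ hz
    · have : x * a * x⁻¹ = z * (x * z * x⁻¹) := by
        calc x * a * x⁻¹ = x * a * x⁻¹ * (x * z * x⁻¹) * (x * z * x⁻¹) := by
              rw [mul_assoc (x * a * x⁻¹), (S.map x).z2, mul_one]
          _ = z * (x * z * x⁻¹) := by rw [← e]
      exact this ▸ S.inV_mul hz (hxg.symm ▸ Or.inr (Or.inr (Or.inl rfl)))
  have hV : ∀ y, S.inV y → S.inV (x * y * x⁻¹) := by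
    intro y hy
    rcases hy with e | e | e | e <;> rw [e]
    · exact Or.inl (by group)
    · rw [hxg]; exact Or.inr (Or.inr (Or.inl rfl))
    · exact ha
    · rw [S.conj_mul]
      exact S.inV_mul ha (hxg.symm ▸ Or.inr (Or.inr (Or.inl rfl)))
  refine ⟨x, hx, hxg, fun y => ⟨hV y, fun h => ?_⟩⟩
  -- the inverse preserves the four group
  have hsub : S.fourV.map (MulAut.conj x).toMonoidHom ≤ S.fourV := by
    rintro _ ⟨w, hw, rfl⟩; exact hV w hw
  haveI : Finite S.fourV := Nat.finite_of_card_ne_zero (by rw [S.card_V]; norm_num)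
  have heq := Subgroup.eq_of_le_of_card_ge hsub (by
    rw [Subgroup.card_map_of_injective (MulAut.conj x).injective])
  have hy : x * y * x⁻¹ ∈ S.fourV.map (MulAut.conj x).toMonoidHom := heq.symm ▸ h
  obtain ⟨w, hw, hwe⟩ := hy
  have : w = y := mul_left_cancel (mul_right_cancel (hwe : x * w * x⁻¹ = x * y * x⁻¹))
  exact this ▸ hw

theorem XH_le_norm : X ⊓ Cz z ≤ X ⊓ Subgroup.normalizer (S.fourV : Set G) := by
  intro h hh
  refine ⟨hh.1, Subgroup.mem_normalizer_iff.2 fun y => ⟨fun hy => ?_, fun hy => ?_⟩⟩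
  · rwa [S.XH_fix D hh.2 hh.1 hy, mul_inv_cancel_right]
  · have := S.XH_fix D ((Cz z).inv_mem hh.2) (X.inv_mem hh.1) hy
    rw [show h⁻¹ * (h * y * h⁻¹) = y * h⁻¹ by group, mul_left_inj] at this
    rwa [this]

/-- the order of the normaliser of the four group in `X` -/
theorem card_NXV [Finite G] :
    Nat.card (X ⊓ Subgroup.normalizer (S.fourV : Set G) : Subgroup G) = 576 := by
  classical
  obtain ⟨x, hx, hxz, hxV⟩ := S.exists_rotation D
  set N := X ⊓ Subgroup.normalizer (S.fourV : Set G)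
  have hxN : x ∈ N := ⟨hx, Subgroup.mem_normalizer_iff.2 hxV⟩
  have hNV : ∀ n ∈ N, ∀ y, S.inV y → S.inV (n * y * n⁻¹) := fun n hn y hy =>
    (Subgroup.mem_normalizer_iff.1 hn.2 y).1 hy
  have hz : S.inV z := Or.inr (Or.inl rfl)
  have hne : x * a * x⁻¹ ≠ a := fun e => by
    have h := S.fix_all D hx (Or.inr (Or.inr (Or.inl rfl))) S.a1 (mul_inv_eq_iff_eq_mul.1 e)
    rw [h, mul_inv_cancel_right] at hxz
    exact S.az_ne hxz.symm
  have hXH : X ⊓ Cz z ≤ N := S.XH_le_norm D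
  let f : Fin 3 × (X ⊓ Cz z : Subgroup G) → N := fun p =>
    ⟨x ^ (p.1 : ℕ) * p.2, N.mul_mem (N.pow_mem hxN _) (hXH p.2.2)⟩
  have himg : ∀ p : Fin 3 × (X ⊓ Cz z : Subgroup G),
      (f p : G) * z * (f p : G)⁻¹ = x ^ (p.1 : ℕ) * z * (x ^ (p.1 : ℕ))⁻¹ := by
    intro p
    show x ^ (p.1 : ℕ) * p.2 * z * (x ^ (p.1 : ℕ) * p.2)⁻¹ = _
    rw [show x ^ (p.1 : ℕ) * p.2 * z * (x ^ (p.1 : ℕ) * p.2)⁻¹ =
      x ^ (p.1 : ℕ) * ((p.2 : G) * z * (p.2 : G)⁻¹) * (x ^ (p.1 : ℕ))⁻¹ by group, S.conj_z p.2.2.2]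
  have e0 : x ^ 0 * z * (x ^ 0)⁻¹ = z := by simp
  have e1 : x ^ 1 * z * (x ^ 1)⁻¹ = a := by simp [hxz]
  have e2 : x ^ 2 * z * (x ^ 2)⁻¹ = x * a * x⁻¹ := by rw [pow_two, mul_inv_rev, ← hxz]; group
  have hz2 : x * a * x⁻¹ ≠ z := fun e => by
    have h1 : x * (a * z) * x⁻¹ = a * z := by rw [S.conj_mul, e, hxz, S.za]
    have haz1 : a * z ≠ 1 := fun e => S.az_ne (by rw [eq_inv_of_mul_eq_one_left e, S.zinv])
    have h := S.fix_all D hx (Or.inr (Or.inr (Or.inr rfl))) haz1 (mul_inv_eq_iff_eq_mul.1 h1)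
    rw [h, mul_inv_cancel_right] at hxz
    exact S.az_ne hxz.symm
  have hdist : ∀ i j : Fin 3, x ^ (i : ℕ) * z * (x ^ (i : ℕ))⁻¹ = x ^ (j : ℕ) * z * (x ^ (j : ℕ))⁻¹ → i = j := by
    intro i j h
    fin_cases i <;> fin_cases j
    · rfl
    · exact absurd ((e0.symm.trans h).trans e1).symm S.az_ne
    · exact absurd ((e0.symm.trans h).trans e2).symm hz2
    · exact absurd ((e1.symm.trans h).trans e0) S.az_ne
    · rfl
    · exact absurd ((e1.symm.trans h).trans e2).symm hne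
    · exact absurd ((e2.symm.trans h).trans e0) hz2
    · exact absurd ((e2.symm.trans h).trans e1) hne
    · rfl
  have hf : Function.Bijective f := by
    constructor
    · intro p q h
      have hi := hdist p.1 q.1 (by rw [← himg, ← himg, h])
      have h' : x ^ (p.1 : ℕ) * (p.2 : G) = x ^ (q.1 : ℕ) * q.2 := congrArg Subtype.val h
      rw [hi] at h'
      exact Prod.ext hi (Subtype.ext (mul_left_cancel h'))
    · rintro ⟨n, hn⟩
      have hV3 : ∀ y, S.inV y → y ≠ 1 → ∃ i : Fin 3, x ^ (i : ℕ) * z * (x ^ (i : ℕ))⁻¹ = y := by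
        have hS : (Finset.univ.image fun i : Fin 3 => x ^ (i : ℕ) * z * (x ^ (i : ℕ))⁻¹) = {z, a, a * z} := by
          refine Finset.eq_of_subset_of_card_le ?_ ?_
          · intro y hy
            obtain ⟨i, -, rfl⟩ := Finset.mem_image.1 hy
            have h1 := hNV _ (N.pow_mem hxN (i : ℕ)) z hz
            have h2 : x ^ (i : ℕ) * z * (x ^ (i : ℕ))⁻¹ ≠ 1 := fun e => S.z1 (conj_eq_one_iff.1 e)
            rcases h1.resolve_left h2 with e | e | e <;> simp [e]
          · rw [Finset.card_image_of_injective _ fun i j h => hdist i j h, Finset.card_univ, Fintype.card_fin]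
            exact Finset.card_le_three
        intro y hy hy1
        have : y ∈ ({z, a, a * z} : Finset G) := by
          rcases hy.resolve_left hy1 with e | e | e <;> simp [e]
        rw [← hS] at this
        obtain ⟨i, -, hi⟩ := Finset.mem_image.1 this
        exact ⟨i, hi⟩
      obtain ⟨i, hi⟩ := hV3 _ (hNV n hn z hz) fun e => S.z1 (conj_eq_one_iff.1 e)
      have hm : (x ^ (i : ℕ))⁻¹ * n ∈ X ⊓ Cz z := by
        refine ⟨X.mul_mem (X.inv_mem (X.pow_mem hx _)) hn.1, mem_Cz.2 (mul_inv_eq_iff_eq_mul.1 ?_)⟩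
        calc (x ^ (i : ℕ))⁻¹ * n * z * ((x ^ (i : ℕ))⁻¹ * n)⁻¹
            = (x ^ (i : ℕ))⁻¹ * (n * z * n⁻¹) * x ^ (i : ℕ) := by group
          _ = z := by rw [← hi]; group
      exact ⟨(i, ⟨_, hm⟩), Subtype.ext (mul_inv_cancel_left _ _)⟩
  rw [← Nat.card_congr (Equiv.ofBijective f hf), Nat.card_prod, Nat.card_fin, S.card_XH D]

end Setting

end CfsgLib.MinusFourSymFour
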