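import Cfsg.Agent.Lib.J2Type.Small
import Cfsg.Agent.Lib.Transfer.Basic
import Cfsg.Agent.Lib.CIT.Basic

/-!
Groups with a self-centralising four group, and quotients leading to them.
-/

set_option autoImplicit false
set_option linter.unusedSectionVars false
set_option linter.style.haveILetI false

namespace CfsgLib.MinusFourSymFour

variable {X : Type*} [Group X]

theorem four_abelian {W : Subgroup X} (hW2 : ∀ w ∈ W, w * w = 1) {a b : X} (ha : a ∈ W) (hb : b ∈ W) :
    a * b = b * a := by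
  have h := hW2 _ (W.mul_mem ha hb)
  have ai : a⁻¹ = a := inv_eq_of_mul_eq_one_right (hW2 a ha)
  have bi : b⁻¹ = b := inv_eq_of_mul_eq_one_right (hW2 b hb)
  rw [← inv_eq_of_mul_eq_one_right h, mul_inv_rev, ai, bi]

/-- a self-centralising four group is normalised from outside or is everything -/
theorem four_norm [Finite X] {W : Subgroup X} (hW : Nat.card W = 4) (hW2 : ∀ w ∈ W, w * w = 1)
    (hC : ∀ w ∈ W, w ≠ 1 → Subgroup.centralizer ({w} : Set X) = W) (htop : W ≠ ⊤) :
    ∃ g, g ∈ Subgroup.normalizer (W : Set X) ∧ g ∉ W := by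
  classical
  by_contra hcon
  push Not at hcon
  haveI : Fact (Nat.Prime 2) := ⟨Nat.prime_two⟩
  have hWp : IsPGroup 2 W := IsPGroup.of_card (n := 2) (by rw [hW]; norm_num)
  obtain ⟨P, hWP⟩ := hWp.exists_le_sylow
  have hPW : (P : Subgroup X) = W := by
    refine le_antisymm ?_ hWP
    by_contra hne
    have hlt : W.subgroupOf P < ⊤ := lt_of_le_of_ne le_top fun e => hne (Subgroup.subgroupOf_eq_top.1 e)
    haveI := P.2.isNilpotent
    obtain ⟨s, hs, hs'⟩ := SetLike.exists_of_lt
      ((Group.normalizerCondition_of_isNilpotent (G := (P : Subgroup X))) _ hlt)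
    refine hs' (hcon s (Subgroup.mem_normalizer_iff.2 fun x => ⟨fun hx => ?_, fun hx => ?_⟩))
    · exact (Subgroup.mem_normalizer_iff.1 hs ⟨x, hWP hx⟩).1 hx
    · have h1 : (s : X) * x * (s : X)⁻¹ ∈ (P : Subgroup X) := hWP hx
      have h2 : x ∈ (P : Subgroup X) := by
        have := (P : Subgroup X).mul_mem ((P : Subgroup X).mul_mem ((P : Subgroup X).inv_mem s.2) h1) s.2
        rwa [show (s : X)⁻¹ * ((s : X) * x * (s : X)⁻¹) * s = x by group] at this
      exact (Subgroup.mem_normalizer_iff.1 hs ⟨x, h2⟩).2 hx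
  obtain ⟨P', N, hN, hNP⟩ := CfsgLib.Transfer.hasNormalPComplement_of_normalizer_le_centralizer P (by
    intro g hg
    rw [show ((P : Set X)) = (W : Set X) from congrArg SetLike.coe hPW] at hg ⊢
    exact Subgroup.mem_centralizer_iff.2 fun x hx => four_abelian hW2 hx (hcon g hg))
  have hodd : Odd (Nat.card N) := by
    rw [← Nat.not_even_iff_odd, even_iff_two_dvd, ← hNP.index_eq_card]
    exact P'.not_dvd_index
  have hinv : ∀ c ∈ W, c ≠ 1 → ∀ n ∈ N, c * n * c⁻¹ = n⁻¹ := by
    intro c hc hc1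
    let β : N →* N :=
      { toFun := fun x => ⟨c * x * c⁻¹, hN.conj_mem x x.2 c⟩
        map_one' := Subtype.ext (by simp)
        map_mul' := fun a b => Subtype.ext (by simp [mul_assoc]) }
    have hfpf : MonoidHom.FixedPointFree β := fun x hx => by
      have e : c * (x : X) * c⁻¹ = x := congrArg Subtype.val hx
      have hxW : (x : X) ∈ W := by
        rw [← hC c hc hc1]
        exact Subgroup.mem_centralizer_singleton_iff.2 (mul_inv_eq_iff_eq_mul.1 e).symm
      refine Subtype.ext (CfsgLib.CIT.eq_one_of_odd_two (k := 1) ?_ (by rw [pow_one, pow_two]; exact hW2 _ hxW))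
      rw [Subgroup.orderOf_coe]
      exact hodd.of_dvd_nat (orderOf_dvd_natCard x)
    have h2 : Function.Involutive β := fun x => Subtype.ext (by
      show c * (c * (x : X) * c⁻¹) * c⁻¹ = x
      rw [inv_eq_of_mul_eq_one_right (hW2 c hc), show c * (c * (x : X) * c) * c = c * c * x * (c * c) by group,
        hW2 c hc]
      group)
    intro n hn
    exact congrArg Subtype.val
      (congrFun (MonoidHom.FixedPointFree.coe_eq_inv_of_involutive (φ := β) hfpf h2) ⟨n, hn⟩)
  haveI : Nontrivial W := Finite.one_lt_card_iff_nontrivial.mp (by omega)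
  obtain ⟨⟨a, ha⟩, ha'⟩ := exists_ne (1 : W)
  have ha1 : a ≠ 1 := fun e => ha' (Subtype.ext e)
  obtain ⟨b, hb, hb1, hba⟩ : ∃ b ∈ W, b ≠ 1 ∧ b ≠ a := by
    by_contra h
    push Not at h
    let k : Fin 2 → X := ![1, a]
    have hex : ∀ x : W, ∃ i, k i = (x : X) := fun x => by
      by_cases h1 : (x : X) = 1
      · exact ⟨0, by simp [k, h1]⟩
      · exact ⟨1, by simp [k, h _ x.2 h1]⟩
    choose f hf using hex
    have := Nat.card_le_card_of_injective f fun x y e => Subtype.ext (by rw [← hf x, ← hf y, e])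
    rw [hW, Nat.card_fin] at this
    omega
  have hab : a * b ≠ 1 := fun e => hba (by
    rw [eq_inv_of_mul_eq_one_right e, inv_eq_of_mul_eq_one_right (hW2 a ha)])
  have hN1 : N = ⊥ := by
    rw [eq_bot_iff]
    intro n hn
    have h1 := hinv a ha ha1 n hn
    have h2 := hinv b hb hb1 n hn
    have h3 := hinv (a * b) (W.mul_mem ha hb) hab n hn
    rw [show a * b * n * (a * b)⁻¹ = a * (b * n * b⁻¹) * a⁻¹ by group, h2] at h3
    have h4 := hinv a ha ha1 n⁻¹ (N.inv_mem hn)
    rw [h4, inv_inv] at h3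
    exact Subgroup.mem_bot.2 (CfsgLib.CIT.eq_one_of_odd_two (k := 1)
      (hodd.of_dvd_nat (Subgroup.orderOf_dvd_natCard N hn))
      (by rw [pow_one, pow_two]; nth_rw 1 [h3]; exact inv_mul_cancel n))
  apply htop
  rw [← hPW]
  refine Subgroup.eq_top_of_card_eq _ ?_
  have h := hNP.card_mul_card
  rw [hN1, Subgroup.card_bot, one_mul] at h
  rw [← h]
  exact Nat.card_congr (P.equiv P').toEquiv

/-- a group with a proper self-centralising four group -/
theorem four_cases [Finite X] {W : Subgroup X} (hW : Nat.card W = 4) (hW2 : ∀ w ∈ W, w * w = 1)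
    (hC : ∀ w ∈ W, w ≠ 1 → Subgroup.centralizer ({w} : Set X) = W) (htop : W ≠ ⊤) :
    (W.Normal ∧ Nat.card X = 12) ∨ Nonempty (X ≃* alternatingGroup (Fin 5)) := by
  obtain ⟨g, hg, hgW⟩ := four_norm hW hW2 hC htop
  exact CfsgLib.J2Type.four_group_case W hW hW2 hC hg hgW

/-- a self-centralising normal four group contains all involutions -/
theorem four_normal_invol [Finite X] {W : Subgroup X} (hW : Nat.card W = 4)
    (hC : ∀ w ∈ W, w ≠ 1 → Subgroup.centralizer ({w} : Set X) = W) (hn : W.Normal)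
    {u : X} (hu : u * u = 1) : u ∈ W := by
  classical
  by_contra huW
  haveI : Fintype W := Fintype.ofFinite W
  have hfix : ∀ w ∈ W, u * w * u⁻¹ = w → w = 1 := by
    intro w hw e
    by_contra h1
    exact huW (hC w hw h1 ▸ Subgroup.mem_centralizer_singleton_iff.2 (mul_inv_eq_iff_eq_mul.1 e))
  let f : W → W := fun w => ⟨u * w * u⁻¹, hn.conj_mem w w.2 u⟩
  let σ : Equiv.Perm W :=
    { toFun := f
      invFun := f
      left_inv := fun w => Subtype.ext (by
        show u * (u * (w : X) * u⁻¹) * u⁻¹ = w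
        rw [inv_eq_of_mul_eq_one_right hu, show u * (u * (w : X) * u) * u = u * u * w * (u * u) by group, hu]
        group)
      right_inv := fun w => Subtype.ext (by
        show u * (u * (w : X) * u⁻¹) * u⁻¹ = w
        rw [inv_eq_of_mul_eq_one_right hu, show u * (u * (w : X) * u) * u = u * u * w * (u * u) by group, hu]
        group) }
  haveI : Fact (Nat.Prime 2) := ⟨Nat.prime_two⟩
  have hσ : σ ^ 2 ^ 1 = 1 := by
    ext w
    show ((f (f w) : W) : X) = w
    exact congrArg Subtype.val (σ.left_inv w)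
  obtain ⟨w, hw, hw1⟩ := Equiv.Perm.exists_fixed_point_of_prime' (p := 2) (n := 1)
    (by rw [← Nat.card_eq_fintype_card, hW]; norm_num) hσ (a := (1 : W))
    (Subtype.ext (show u * 1 * u⁻¹ = 1 by group))
  exact hw1 (Subtype.ext (hfix w w.2 (congrArg Subtype.val hw)))

/-- The image of a four group in a quotient. -/
theorem quot_four {G : Type*} [Group G] {D R V : Subgroup G} (hV : V ≤ D)
    [(R.subgroupOf D).Normal] (hdisj : ∀ x ∈ V, x ∈ R → x = 1) (hV4 : Nat.card V = 4)
    (hV2 : ∀ x ∈ V, x * x = 1)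
    (hcent : ∀ c ∈ V, c ≠ 1 → ∀ d ∈ D, d * c * d⁻¹ * c⁻¹ ∈ R → ∃ x ∈ V, d * x⁻¹ ∈ R) :
    ∃ W : Subgroup (D ⧸ R.subgroupOf D), W = (V.subgroupOf D).map (QuotientGroup.mk' (R.subgroupOf D)) ∧
      Nat.card W = 4 ∧ (∀ w ∈ W, w * w = 1) ∧
      (∀ w ∈ W, w ≠ 1 → Subgroup.centralizer ({w} : Set (D ⧸ R.subgroupOf D)) = W) := by
  set q := QuotientGroup.mk' (R.subgroupOf D)
  have hq : ∀ {x : D}, q x = 1 ↔ (x : G) ∈ R := fun {x} => by
    rw [QuotientGroup.mk'_apply, QuotientGroup.eq_one_iff, Subgroup.mem_subgroupOf]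
  refine ⟨_, rfl, ?_, ?_, ?_⟩
  · rw [← hV4, ← Nat.card_congr (Subgroup.subgroupOfEquivOfLe hV).toEquiv]
    refine (Nat.card_congr (Equiv.ofBijective
      (fun x : V.subgroupOf D => (⟨q x, x, x.2, rfl⟩ : (V.subgroupOf D).map q)) ⟨?_, ?_⟩)).symm
    · intro x y e
      have e' : q x = q y := congrArg Subtype.val e
      have h : q ((x : D)⁻¹ * y) = 1 := by rw [map_mul, map_inv, e', inv_mul_cancel]
      have := hdisj _ (V.mul_mem (V.inv_mem x.2) y.2) (hq.1 h)
      exact Subtype.ext (Subtype.ext (inv_mul_eq_one.1 this))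
    · rintro ⟨_, x, hx, rfl⟩
      exact ⟨⟨x, hx⟩, rfl⟩
  · rintro _ ⟨x, hx, rfl⟩
    rw [← map_mul, show x * x = 1 from Subtype.ext (hV2 x hx), map_one]
  · rintro _ ⟨c, hc, rfl⟩ hc1
    have hc1' : (c : G) ≠ 1 := fun e => hc1 (by rw [show c = 1 from Subtype.ext e, map_one])
    ext y
    rw [Subgroup.mem_centralizer_singleton_iff]
    obtain ⟨d, rfl⟩ := QuotientGroup.mk'_surjective (R.subgroupOf D) y
    constructor
    · intro e
      have h : q (d * c * d⁻¹ * c⁻¹) = 1 := by
        rw [map_mul, map_mul, map_mul, map_inv, map_inv]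
        change q d * q c = q c * q d at e
        rw [e]; group
      obtain ⟨x, hx, hdx⟩ := hcent c hc hc1' d d.2 (hq.1 h)
      refine ⟨⟨x, hV hx⟩, hx, ?_⟩
      have h2 : q (d * (⟨x, hV hx⟩ : D)⁻¹) = 1 := hq.2 hdx
      rw [map_mul, map_inv, mul_inv_eq_one] at h2
      exact h2.symm
    · rintro ⟨x, hx, e⟩
      rw [← e, ← map_mul, ← map_mul]
      exact congrArg q (Subtype.ext (four_abelian hV2 hx hc))

end CfsgLib.MinusFourSymFour
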