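import Cfsg.Agent.Lib.MinusFourSymFour.Base

/-!
The action of the centraliser of the involution on the five singular classes.
-/

set_option autoImplicit false
set_option linter.unusedSectionVars false

open scoped Classical

namespace CfsgLib.MinusFourSymFour

variable {G : Type*} [Group G]

/-- The coordinates, the permutations and the distinguished singular element. -/
structure Setting (z : G) (E : Subgroup G) (v : G → B4) (π : G → S5) (a : G) : Prop extends Base z E where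
  v_mul : ∀ x ∈ E, ∀ y ∈ E, v (x * y) = ad (v x) (v y)
  v_z4 : ∀ x ∈ E, v x = z4 → x = 1 ∨ x = z
  v_surj : ∀ c, ∃ x ∈ E, v x = c
  v_sq : ∀ x ∈ E, x * x = zb z (q4 (v x))
  v_comm : ∀ x ∈ E, ∀ y ∈ E, x * y = y * x * zb z (b4 (v x) (v y))
  p_mul : ∀ g ∈ Cz z, ∀ h ∈ Cz z, π (g * h) = π g * π h
  p_one : ∀ h ∈ Cz z, π h = 1 ↔ h ∈ E
  p_act : ∀ h ∈ Cz z, ∀ x ∈ E, v (h * x * h⁻¹) = act5 (π h) (v x)
  p_zero : ∀ h ∈ Cz z, π h 0 = 0
  p_surj : ∀ σ : S5, σ 0 = 0 → ∃ h ∈ Cz z, π h = σ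
  aE : a ∈ E
  va : v a = sv 0

theorem act5_mul : ∀ (σ : S5) (τ : S5) (i : Fin 5), act5 σ (act5 τ (sv i)) = act5 (σ * τ) (sv i) := by
  intro σ τ i
  rw [act5_sv, act5_sv, act5_sv, Equiv.Perm.mul_apply]

theorem act5_un_span (σ : S5) (x : B4) (f : B4 → B4) (hf : ∀ a b, f (ad a b) = ad (f a) (f b))
    (hu : ∀ i, f (sv i) = act5 σ (sv i)) : f x = act5 σ x := by
  have h0 : f z4 = z4 := by
    have e := hf z4 z4
    rw [(ad_facts.1 z4).1, (ad_facts.1 (f z4)).2.2] at e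
    exact e
  have h1 : ∀ i, f (un i) = act5 σ (un i) := fun i => by
    rw [un_sv, hf, act5_lin, hu, hu]
  have hz : act5 σ z4 = z4 := by
    have e := act5_lin σ z4 z4
    rw [(ad_facts.1 z4).1, (ad_facts.1 (act5 σ z4)).2.2] at e
    exact e
  have h2 : ∀ (b : Bool) i, f (bif b then un i else z4) = act5 σ (bif b then un i else z4) := by
    intro b i
    cases b
    · exact h0.trans hz.symm
    · exact h1 i
  rw [un_span x, hf, hf, hf, h2, h2, h2, h2, ← act5_lin, ← act5_lin, ← act5_lin]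

theorem act5_comp (σ τ : S5) (x : B4) : act5 σ (act5 τ x) = act5 (σ * τ) x :=
  act5_un_span (σ * τ) x (fun y => act5 σ (act5 τ y)) (fun a b => by rw [act5_lin, act5_lin]) fun i =>
    act5_mul σ τ i

theorem act5_one : ∀ x : B4, act5 1 x = x := by decide +kernel

theorem act5_swap_form : ∀ (p : Fin 5) (x : B4), q4 (act5 (Equiv.swap 0 p) x) = q4 x ∧
    ∀ y, b4 (act5 (Equiv.swap 0 p) x) (act5 (Equiv.swap 0 p) y) = b4 x y := by decide +kernel

theorem stab_zero_card : (Finset.univ.filter fun σ : S5 => σ 0 = 0).card = 24 := by decide +kernel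

/-- a group of twenty-four permutations of five points fixes a point -/
theorem exists_fixed {P : Subgroup S5} (hP : Nat.card P = 24) : ∃ p : Fin 5, ∀ σ ∈ P, σ p = p := by
  classical
  have pair : ∀ a b : Fin 5, a ≠ b → (∀ σ ∈ P, (σ a = a ∧ σ b = b) ∨ (σ a = b ∧ σ b = a)) → False := by
    intro a b hab h
    have h1 : (Finset.univ.filter fun σ : S5 => σ ∈ P) ⊆
        Finset.univ.filter fun σ : S5 => (σ a = a ∧ σ b = b) ∨ (σ a = b ∧ σ b = a) := fun σ hσ =>
      Finset.mem_filter.2 ⟨Finset.mem_univ _, h σ (Finset.mem_filter.1 hσ).2⟩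
    have h2 := Finset.card_le_card h1
    rw [stab_pair_card a b hab, ← Fintype.card_subtype] at h2
    rw [Nat.card_eq_fintype_card] at hP
    omega
  set O : Finset (Fin 5) := (Finset.univ.filter fun σ : S5 => σ ∈ P).image fun σ => σ 0 with hOdef
  have hmem : ∀ x, x ∈ O ↔ ∃ σ ∈ P, σ 0 = x := by simp [hOdef]
  have hcard : O.card = Nat.card (MulAction.orbit P (0 : Fin 5)) := by
    rw [Nat.card_eq_fintype_card, ← Set.toFinset_card]
    congr 1
    ext x
    rw [hmem, Set.mem_toFinset, MulAction.mem_orbit_iff]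
    exact ⟨fun ⟨σ, hσ, e⟩ => ⟨⟨σ, hσ⟩, e⟩, fun ⟨σ, e⟩ => ⟨σ, σ.2, e⟩⟩
  have hdvd : O.card ∣ 24 := by
    rw [hcard, ← hP, Nat.card_congr (MulAction.orbitEquivQuotientStabilizer P (0 : Fin 5)),
      ← Subgroup.index_eq_card]
    exact Subgroup.index_dvd_card _
  have hinv : ∀ σ ∈ P, ∀ x, (σ x ∈ O ↔ x ∈ O) := by
    intro σ hσ x
    simp only [hmem]
    constructor
    · rintro ⟨τ, hτ, e⟩
      exact ⟨σ⁻¹ * τ, P.mul_mem (P.inv_mem hσ) hτ, by simp [Equiv.Perm.mul_apply, e]⟩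
    · rintro ⟨τ, hτ, e⟩
      exact ⟨σ * τ, P.mul_mem hσ hτ, by simp [Equiv.Perm.mul_apply, e]⟩
  have hle : O.card ≤ 5 := (Finset.card_le_univ O).trans (by simp)
  have hpos : 0 < O.card := Finset.card_pos.2 ⟨0, (hmem 0).2 ⟨1, P.one_mem, rfl⟩⟩
  have hc : (Finset.univ \ O).card = 5 - O.card := by
    rw [Finset.card_sdiff, Finset.inter_univ]; simp
  have hinvc : ∀ σ ∈ P, ∀ x, x ∈ Finset.univ \ O → σ x ∈ Finset.univ \ O := fun σ hσ x hx => by
    simp only [Finset.mem_sdiff, Finset.mem_univ, true_and] at hx ⊢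
    rwa [hinv σ hσ x]
  have pairset : ∀ S : Finset (Fin 5), S.card = 2 → (∀ σ ∈ P, ∀ x ∈ S, σ x ∈ S) → False := by
    intro S hS hSi
    obtain ⟨a, b, hab, rfl⟩ := Finset.card_eq_two.1 hS
    refine pair a b hab fun σ hσ => ?_
    have ha := hSi σ hσ a (by simp)
    have hb := hSi σ hσ b (by simp)
    simp only [Finset.mem_insert, Finset.mem_singleton] at ha hb
    have hne : σ a ≠ σ b := fun e => hab (σ.injective e)
    rcases ha with ha | ha <;> rcases hb with hb | hb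
    · exact absurd (ha.trans hb.symm) hne
    · exact Or.inl ⟨ha, hb⟩
    · exact Or.inr ⟨ha, hb⟩
    · exact absurd (ha.trans hb.symm) hne
  rcases (show O.card = 1 ∨ O.card = 2 ∨ O.card = 3 ∨ O.card = 4 ∨ O.card = 5 by omega) with h|h|h|h|h
  · obtain ⟨q, hq⟩ := Finset.card_eq_one.1 h
    refine ⟨q, fun σ hσ => ?_⟩
    have := (hinv σ hσ q).2 (by simp [hq])
    simpa [hq] using this
  · exact (pairset O h fun σ hσ x hx => (hinv σ hσ x).2 hx).elim
  · exact (pairset _ (by rw [hc, h]) hinvc).elim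
  · obtain ⟨q, hq⟩ := Finset.card_eq_one.1 (hc.trans (by rw [h]))
    refine ⟨q, fun σ hσ => ?_⟩
    have := hinvc σ hσ q (by simp [hq])
    simpa [hq] using this
  · rw [h] at hdvd; omega

/-- The setting exists. -/
theorem Base.setting [Finite G] {z : G} {E : Subgroup G} (B : Base z E) :
    ∃ (v : G → B4) (π : G → S5) (a : G), Setting z E v π a := by
  obtain ⟨w0, hw0, hc0, hq0⟩ := B.chain
  obtain ⟨v0, hvm0, hvw0, hz00, huc0, hcb0⟩ := B.coords b4_form hw0 hc0
  have hsq0 := B.coords_sq (qq := q4) hw0 hvm0 hvw0 hz00 hcb0 (fun x y => by rw [q4_ad, b4_facts.1 y x])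
    (by decide +kernel) (fun i => by
      rw [hq0, show q4 (un i) = true by revert i; decide +kernel]; rfl)
  -- the singular representatives
  let r : B4 → G := uc w0
  have hr : ∀ c, r c ∈ E ∧ v0 (r c) = c := huc0
  let L : G → B4 → B4 := fun h c => v0 (h * r c * h⁻¹)
  have hdiff : ∀ x ∈ E, ∀ y ∈ E, v0 x = v0 y → ∃ k, (k = 1 ∨ k = z) ∧ x = k * y := by
    intro x hx y hy e
    refine ⟨x * y⁻¹, hz00 _ (E.mul_mem hx (E.inv_mem hy)) ?_, by group⟩
    have e' := hvm0 _ (E.mul_mem hx (E.inv_mem hy)) _ hy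
    rw [inv_mul_cancel_right, ← e] at e'
    have h0 := ad_facts.1
    calc v0 (x * y⁻¹) = ad (v0 (x * y⁻¹)) (ad (v0 x) (v0 x)) := by rw [(h0 (v0 x)).2.2, (h0 _).1]
      _ = ad (ad (v0 (x * y⁻¹)) (v0 x)) (v0 x) := by rw [ad_facts.2.2]
      _ = z4 := by rw [← e', (h0 (v0 x)).2.2]
  have hv1 : v0 1 = z4 := by
    have e := hvm0 1 E.one_mem 1 E.one_mem
    rw [one_mul, (ad_facts.1 (v0 1)).2.2] at e
    exact e
  have hvz : v0 z = z4 := b4_form.nondeg _ fun i => by
    rw [← hvw0 i, ← hcb0 z B.zE (w0 i) (hw0 i), B.cb_symm, B.cb_z (B.ecz _ (hw0 i))]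
  have hL : ∀ h ∈ Cz z, ∀ x ∈ E, v0 (h * x * h⁻¹) = L h (v0 x) := by
    intro h hh x hx
    obtain ⟨k, hk, hxk⟩ := hdiff x hx (r (v0 x)) (hr _).1 (hr _).2.symm
    have hkc : h * k = k * h := by rcases hk with rfl | rfl <;> simp [mem_Cz.1 hh]
    have hk0 : v0 k = z4 := by rcases hk with rfl | rfl <;> assumption
    have hkE : k ∈ E := B.kernel_two hk
    have e : h * x * h⁻¹ = k * (h * r (v0 x) * h⁻¹) := by
      calc h * x * h⁻¹ = h * (k * r (v0 x)) * h⁻¹ := by rw [← hxk]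
        _ = h * k * r (v0 x) * h⁻¹ := by group
        _ = k * (h * r (v0 x) * h⁻¹) := by rw [hkc]; group
    rw [e, hvm0 k hkE _ (B.enorm h hh _ (hr _).1), hk0]
    exact (ad_facts.1 _).2.1
  have hLadd : ∀ h ∈ Cz z, ∀ c d, L h (ad c d) = ad (L h c) (L h d) := by
    intro h hh c d
    rw [show ad c d = v0 (r c * r d) by rw [hvm0 _ (hr c).1 _ (hr d).1, (hr c).2, (hr d).2],
      ← hL h hh _ (E.mul_mem (hr c).1 (hr d).1),
      show h * (r c * r d) * h⁻¹ = h * r c * h⁻¹ * (h * r d * h⁻¹) by group]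
    exact hvm0 _ (B.enorm h hh _ (hr c).1) _ (B.enorm h hh _ (hr d).1)
  have hLq : ∀ h ∈ Cz z, ∀ c, q4 (L h c) = q4 c := by
    intro h hh c
    apply B.zb_inj
    rw [← hsq0 _ (B.enorm h hh _ (hr c).1)]
    calc h * r c * h⁻¹ * (h * r c * h⁻¹) = h * (r c * r c) * h⁻¹ := by group
      _ = zb z (q4 c) := by rw [hsq0 _ (hr c).1, (hr c).2, B.zb_comm hh, mul_inv_cancel_right]
  have hLmul : ∀ g ∈ Cz z, ∀ h ∈ Cz z, ∀ c, L (g * h) c = L g (L h c) := by
    intro g hg h hh c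
    show _ = L g (v0 (h * r c * h⁻¹))
    rw [← hL g hg _ (B.enorm h hh _ (hr c).1)]
    show v0 (g * h * r c * (g * h)⁻¹) = _
    rw [show g * h * r c * (g * h)⁻¹ = g * (h * r c * h⁻¹) * g⁻¹ by group]
  have hL1 : ∀ c, L 1 c = c := fun c => by
    show v0 (1 * r c * 1⁻¹) = c
    rw [one_mul, inv_one, mul_one, (hr c).2]
  have hex : ∀ (h : Cz z) (i : Fin 5), ∃ j, L h (sv i) = sv j := by
    intro h i
    refine (sv_facts.2.2 _ (by rw [hLq _ h.2]; exact (sv_facts.1 i).1)).resolve_left fun e => ?_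
    have h0 : L (h : G)⁻¹ z4 = z4 := by
      have e' := hLadd _ ((Cz z).inv_mem h.2) z4 z4
      rw [(ad_facts.1 z4).1, (ad_facts.1 (L (h : G)⁻¹ z4)).2.2] at e'
      exact e'
    have := hLmul _ ((Cz z).inv_mem h.2) h h.2 (sv i)
    rw [inv_mul_cancel, hL1, e, h0] at this
    exact (sv_facts.1 i).2 this
  choose σ hσ using hex
  have hσmul : ∀ g h i, σ (g * h) i = σ g (σ h i) := by
    intro g h i
    apply sv_facts.2.1
    rw [← hσ, ← hσ, ← hσ]
    exact hLmul _ g.2 _ h.2 _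
  have hσ1 : ∀ i, σ 1 i = i := fun i => sv_facts.2.1 _ _ (by rw [← hσ]; exact hL1 _)
  let π0 : Cz z →* S5 :=
    { toFun := fun h => ⟨σ h, σ h⁻¹, fun i => by rw [← hσmul, inv_mul_cancel, hσ1],
        fun i => by rw [← hσmul, mul_inv_cancel, hσ1]⟩
      map_one' := Equiv.ext fun i => hσ1 i
      map_mul' := fun g h => Equiv.ext fun i => hσmul g h i }
  have hact : ∀ (h : Cz z) c, L h c = act5 (π0 h) c := fun h c =>
    act5_un_span _ c _ (hLadd _ h.2) fun i => by rw [act5_sv]; exact hσ h i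
  have hker : π0.ker = E.subgroupOf (Cz z) := by
    ext h
    rw [MonoidHom.mem_ker, Subgroup.mem_subgroupOf]
    constructor
    · intro h1
      have hfix : ∀ x ∈ E, v0 ((h : G) * x * (h : G)⁻¹) = v0 x := fun x hx => by
        rw [hL _ h.2 x hx, hact, h1, act5_one]
      obtain ⟨c, hc⟩ := b4_form.surj fun i => decide ((h : G) * w0 i ≠ w0 i * h)
      obtain ⟨hu, hvu⟩ := huc0 c
      set u := uc w0 c
      have hw : ∀ i, u⁻¹ * h * w0 i = w0 i * (u⁻¹ * h) := by
        intro i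
        have hb : (h : G) * w0 i = w0 i * h * zb z (decide ((h : G) * w0 i ≠ w0 i * h)) := by
          by_cases hcm : (h : G) * w0 i = w0 i * h
          · simp [hcm, zb]
          · obtain ⟨k, hk, hke⟩ := hdiff _ (B.enorm _ h.2 _ (hw0 i)) _ (hw0 i) (hfix _ (hw0 i))
            have hkh : (h : G) * w0 i = k * w0 i * h := by rw [← hke]; group
            rcases hk with hk | hk <;> rw [hk] at hkh
            · exact absurd (by rwa [one_mul] at hkh) hcm
            · rw [decide_eq_true hcm, hkh, (mem_Cz.1 (B.ecz _ (hw0 i))).symm, mul_assoc _ z (h : G),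
                ← mem_Cz.1 h.2, ← mul_assoc]
              rfl
        have hu' : u * w0 i = w0 i * u * zb z (decide ((h : G) * w0 i ≠ w0 i * h)) := by
          rw [B.comm_cb hu (hw0 i), hcb0 u hu _ (hw0 i), hvu, hvw0, hc]
        set d := decide ((h : G) * w0 i ≠ w0 i * h)
        have hu2 : u⁻¹ * w0 i = w0 i * u⁻¹ * zb z d := by
          calc u⁻¹ * w0 i = u⁻¹ * (w0 i * u * zb z d) * (zb z d)⁻¹ * u⁻¹ := by group
            _ = u⁻¹ * (u * w0 i) * (zb z d)⁻¹ * u⁻¹ := by rw [← hu']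
            _ = w0 i * ((zb z d)⁻¹ * u⁻¹) := by group
            _ = w0 i * (zb z d * u⁻¹) := by rw [inv_eq_of_mul_eq_one_right (B.zb_sq d)]
            _ = w0 i * u⁻¹ * zb z d := by rw [← B.zb_comm ((Cz z).inv_mem (B.ecz u hu)), ← mul_assoc]
        calc u⁻¹ * h * w0 i = u⁻¹ * (h * w0 i) := by group
          _ = u⁻¹ * w0 i * (h * zb z d) := by rw [hb]; group
          _ = w0 i * u⁻¹ * zb z d * (zb z d * h) := by rw [hu2, B.zb_comm h.2]
          _ = w0 i * u⁻¹ * (zb z d * zb z d) * h := by group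
          _ = w0 i * (u⁻¹ * h) := by rw [B.zb_sq]; group
      have hmem : u⁻¹ * (h : G) ∈ Cz z := (Cz z).mul_mem ((Cz z).inv_mem (B.ecz u hu)) h.2
      have hcent : ∀ x ∈ E, u⁻¹ * (h : G) * x = x * (u⁻¹ * h) := by
        intro x hx
        obtain ⟨k, hk, hxk⟩ := hdiff x hx (r (v0 x)) (hr _).1 (hr _).2.symm
        have hb' : ∀ (b : Bool) i, Commute (u⁻¹ * (h : G)) (bif b then w0 i else 1) := by
          intro b i
          cases b
          · exact Commute.one_right _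
          · exact hw i
        have hk' : Commute (u⁻¹ * (h : G)) k := by
          rcases hk with rfl | rfl
          · exact Commute.one_right _
          · exact mem_Cz.1 hmem
        rw [hxk]
        exact hk'.mul_right ((((hb' _ 0).mul_right (hb' _ 1)).mul_right (hb' _ 2)).mul_right (hb' _ 3))
      have := E.mul_mem hu (B.cE _ hmem hcent)
      rwa [mul_inv_cancel_left] at this
    · intro hh
      refine Equiv.ext fun i => sv_facts.2.1 _ _ ?_
      show sv (σ h i) = sv i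
      rw [← hσ]
      show v0 ((h : G) * r (sv i) * (h : G)⁻¹) = _
      rw [hvm0 _ (E.mul_mem hh (hr _).1) _ (E.inv_mem hh), hvm0 _ hh _ (hr _).1, (hr _).2, ad_facts.2.1 (v0 (h : G)),
        ad_facts.2.2, ← hvm0 _ hh _ (E.inv_mem hh), mul_inv_cancel, hv1, (ad_facts.1 _).1]
  have hrange : Nat.card π0.range = 24 := by
    have h := π0.ker.card_mul_index
    rw [Subgroup.index_ker, hker, Nat.card_congr (Subgroup.subgroupOfEquivOfLe (fun x hx => B.ecz x hx)).toEquiv,
      B.card, B.cardH] at h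
    omega
  obtain ⟨p, hp⟩ := exists_fixed hrange
  set τ := Equiv.swap (0 : Fin 5) p with hτdef
  have hττ : τ * τ = 1 := Equiv.swap_mul_self 0 p
  refine ⟨fun x => act5 τ (v0 x), fun h => if hh : h ∈ Cz z then τ * π0 ⟨h, hh⟩ * τ else 1, r (act5 τ (sv 0)),
    { toBase := B, v_mul := ?_, v_z4 := ?_, v_surj := ?_, v_sq := ?_, v_comm := ?_, p_mul := ?_, p_one := ?_,
      p_act := ?_, p_zero := ?_, p_surj := ?_, aE := (hr _).1, va := ?_ }⟩
  · intro x hx y hy
    show act5 τ (v0 (x * y)) = _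
    rw [hvm0 x hx y hy, act5_lin]
  · intro x hx h
    refine hz00 x hx ?_
    have h' := congrArg (act5 τ) h
    rw [act5_comp, hττ, act5_one] at h'
    rw [h', hτdef]
    exact (show ∀ q : Fin 5, act5 (Equiv.swap 0 q) z4 = z4 by decide +kernel) p
  · exact fun c => ⟨r (act5 τ c), (hr _).1, by rw [(hr _).2, act5_comp, hττ, act5_one]⟩
  · intro x hx
    rw [hsq0 x hx, (act5_swap_form p (v0 x)).1]
  · intro x hx y hy
    rw [(act5_swap_form p (v0 x)).2, ← hcb0 x hx y hy]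
    exact B.comm_cb hx hy
  · intro g hg h hh
    rw [dif_pos ((Cz z).mul_mem hg hh), dif_pos hg, dif_pos hh,
      show (⟨g * h, (Cz z).mul_mem hg hh⟩ : Cz z) = ⟨g, hg⟩ * ⟨h, hh⟩ from rfl, map_mul]
    calc τ * (π0 ⟨g, hg⟩ * π0 ⟨h, hh⟩) * τ = τ * π0 ⟨g, hg⟩ * (τ * τ) * π0 ⟨h, hh⟩ * τ := by rw [hττ]; group
      _ = _ := by group
  · intro h hh
    rw [dif_pos hh, show (h ∈ E ↔ (⟨h, hh⟩ : Cz z) ∈ E.subgroupOf (Cz z)) from Iff.rfl, ← hker,
      MonoidHom.mem_ker]
    constructor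
    · intro e
      calc π0 ⟨h, hh⟩ = τ * τ * π0 ⟨h, hh⟩ * (τ * τ) := by rw [hττ]; group
        _ = τ * (τ * π0 ⟨h, hh⟩ * τ) * τ := by group
        _ = 1 := by rw [e, mul_one, hττ]
    · intro e; rw [e, mul_one, hττ]
  · intro h hh x hx
    show act5 τ (v0 (h * x * h⁻¹)) = _
    rw [dif_pos hh, hL h hh x hx, hact ⟨h, hh⟩, act5_comp, act5_comp, mul_assoc (τ * _) τ τ, hττ, mul_one]
  · intro h hh
    rw [dif_pos hh, Equiv.Perm.mul_apply, Equiv.Perm.mul_apply, Equiv.swap_apply_left,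
      hp _ ⟨_, rfl⟩, Equiv.swap_apply_right]
  · -- surjectivity
    intro s hs
    let P : Finset S5 := (Finset.univ.filter fun σ : S5 => σ ∈ π0.range).image fun σ => τ * σ * τ
    have hsub : P ⊆ Finset.univ.filter fun σ : S5 => σ 0 = 0 := by
      intro x hx
      obtain ⟨y, hy, rfl⟩ := Finset.mem_image.1 hx
      refine Finset.mem_filter.2 ⟨Finset.mem_univ _, ?_⟩
      rw [Equiv.Perm.mul_apply, Equiv.Perm.mul_apply, Equiv.swap_apply_left,
        hp _ (Finset.mem_filter.1 hy).2, Equiv.swap_apply_right]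
    have hP : P.card = 24 := by
      rw [Finset.card_image_of_injective _ fun a b h => mul_left_cancel (mul_right_cancel h),
        ← Fintype.card_subtype, ← hrange, Nat.card_eq_fintype_card]
    have heq := Finset.eq_of_subset_of_card_le hsub (by rw [hP, stab_zero_card])
    have hsP : s ∈ P := heq.symm ▸ Finset.mem_filter.2 ⟨Finset.mem_univ _, hs⟩
    obtain ⟨y, hy, rfl⟩ := Finset.mem_image.1 hsP
    obtain ⟨⟨h, hh⟩, e⟩ := (Finset.mem_filter.1 hy).2
    exact ⟨h, hh, by rw [dif_pos hh, e]⟩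
  · rw [(hr _).2, act5_comp, hττ, act5_one]

end CfsgLib.MinusFourSymFour
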