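import Cfsg.Agent.Lib.MinusFourSymFour.Pair

/-!
The fusion of the central involution in its centraliser.
-/

set_option autoImplicit false
set_option linter.unusedSectionVars false
set_option synthInstance.maxSize 2000
set_option synthInstance.maxHeartbeats 100000

namespace CfsgLib.MinusFourSymFour

theorem sq_dbl : ∀ σ : S5, σ 0 = 0 → σ * σ * (σ * σ) = 1 → σ * σ ≠ 1 → Dbl (σ * σ) := by decide +kernel

theorem tr_comm : ∀ τ : S5, Tr τ → ∀ r : S5, r 0 = 0 → r * r = 1 → r * τ = τ * r →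
    r = 1 ∨ r = τ ∨ Dbl r ∨ Dbl (r * τ) := by decide +kernel

theorem tr_dbl : ∀ τ : S5, Tr τ → ∀ δ : S5, Dbl δ → τ * δ = δ * τ →
    ∀ d, act5 δ (ad d (act5 τ d)) = ad d (act5 τ d) := by decide +kernel

theorem tr_dbl_ne : ∀ τ : S5, Tr τ → ∀ δ : S5, Dbl δ → δ * τ ≠ 1 := by decide +kernel

theorem dbl_no_fix {σ : S5} (h : Dbl σ) {i : Fin 5} (hi : i ≠ 0) : σ i ≠ i := fun e => hi (h.2.2 i e)

namespace Setting

variable {G : Type*} [Group G] {z : G} {E : Subgroup G} {v : G → B4} {π : G → S5} {a : G}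
  (S : Setting z E v π a)
include S

/-- the elements of the pair of the centre -/
theorem pair_cases {x : G} (hx : x ∈ E) (h : v x = sv 0) : x = a ∨ x = a * z :=
  S.mem_of_v hx S.aE (h.trans S.va.symm)

theorem pair_E {x : G} (h : x = a ∨ x = a * z) : x ∈ E ∧ v x = sv 0 := by
  rcases h with rfl | rfl
  exacts [⟨S.aE, S.va⟩, ⟨E.mul_mem S.aE S.zE, (S.v_mul_z S.aE).trans S.va⟩]

theorem a_conj_az : IsConj a (a * z) := by
  obtain ⟨y, -, h⟩ := S.flip S.aE (by rw [S.va]; exact (sv_facts.1 0).2)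
  exact isConj_iff.2 ⟨y, h⟩

/-- singular classes other than the distinguished one are not conjugate to `z` -/
theorem b_not_z {b : G} (hb : b ∈ E) {i : Fin 5} (hi : i ≠ 0) (hvb : v b = sv i) : ¬ IsConj z b := by
  intro hzb
  obtain ⟨-, E', v', π', a', S', -, -, -⟩ := S.at_conj hzb
  have hzE' : z ∈ E' := S.z_mem S' hb hvb
  have hzb1 : z ≠ b := fun e => by
    rw [← e, S.v_z] at hvb
    exact (sv_facts.1 i).2 hvb.symm
  obtain ⟨j, hvz⟩ : ∃ j, v' z = sv j :=
    ((S'.invol_E hzE' S.z2).resolve_left S.z1).resolve_left hzb1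
  obtain ⟨c, hq, hc⟩ := four_vec j
  obtain ⟨y, hy, hvy⟩ := S'.v_surj c
  obtain ⟨σ, h0, hσi, h3, h1⟩ := three_vec i
  obtain ⟨r, hr, r3, r1, -, hrb⟩ := S.exists_three h0 hσi h3 h1 hb hvb
  have hyz : y ∈ Cz z := mem_Cz.2 (S'.commE hy hzE' (by rw [hvy, hvz]; exact hc))
  have hrb' : r ∈ Cz b := mem_Cz.2 hrb
  have y8 : y ^ 8 = 1 := by rw [show 8 = 4 + 4 from rfl, pow_add, S'.E_pow4 hy, one_mul]
  have w8 : (y * r * y * r⁻¹) ^ 8 = 1 := by
    have hw : y * r * y * r⁻¹ ∈ E' := by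
      rw [show y * r * y * r⁻¹ = y * (r * y * r⁻¹) by group]
      exact E'.mul_mem hy (S'.enorm r hrb' y hy)
    rw [show 8 = 4 + 4 from rfl, pow_add, S'.E_pow4 hw, one_mul]
  have hyb : y * b = b * y := mem_Cz.1 (S'.ecz y hy)
  have hfix : π y i = i := by
    have h : y * b * y⁻¹ = b := mul_inv_eq_iff_eq_mul.2 hyb
    have e := S.p_act y hyz b hb
    rw [h, hvb, act5_sv] at e
    exact (sv_facts.2.1 _ _ e).symm
  have hyE : y ∈ E := by
    rcases S.trick hyz hr r3 r1 y8 w8 with e | e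
    · exact (S.p_one y hyz).1 e
    · exact absurd hfix (dbl_no_fix e hi)
  have hyy : y * y = b := by rw [S'.v_sq y hy, hvy, hq]; rfl
  rcases S.sq y hyE with e | e
  · exact S'.z1 (hyy.symm.trans e)
  · exact hzb1 (e.symm.trans hyy)

/-- conjugates of `z` in the extraspecial group -/
theorem conj_E {u : G} (hu : u ∈ E) (hc : IsConj z u) (hne : u ≠ z) : u = a ∨ u = a * z := by
  obtain ⟨g, hg⟩ := isConj_iff.1 hc
  have u2 : u * u = 1 := by
    rw [← hg, ← S.conj_mul, S.z2]; group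
  have u1 : u ≠ 1 := fun e => S.z1 (conj_eq_one_iff.1 (hg.trans e))
  obtain ⟨i, hi⟩ := ((S.invol_E hu u2).resolve_left u1).resolve_left hne
  by_cases h : i = 0
  · exact S.pair_cases hu (h ▸ hi)
  · exact absurd hc (S.b_not_z hu h hi)

variable {u : G} {E' : Subgroup G} {v' : G → B4} {π' : G → S5} {a' : G} (S' : Setting u E' v' π' a')
include S'

/-- the pairs are symmetric -/
theorem pair_sym (hc : IsConj z u) (hu : u = a ∨ u = a * z) : z = a' ∨ z = a' * u := by
  obtain ⟨huE, hvu⟩ := S.pair_E hu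
  refine S'.conj_E (S.z_mem S' huE hvu) hc.symm fun e => ?_
  rw [← e, S.v_z] at hvu
  exact (sv_facts.1 0).2 hvu.symm

omit S' in
theorem conj_pair_E {t : G} (hc : IsConj z t) (ht : t ∈ Cz z) (htE : t ∉ E) : ∀ (g : G) (F : Subgroup G)
    (w : G → B4) (ρ : G → S5) (b : G), Setting t F w ρ b → g * z * g⁻¹ = t → z ∉ F := by
  intro g F w ρ b T _ hzF
  have hne : z ≠ t := fun e => htE (e ▸ S.zE)
  exact htE (S.pair_E (T.pair_sym S hc.symm (T.conj_E hzF hc.symm hne))).1

omit S' in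
/-- conjugates of `z` in its centraliser do not induce transpositions -/
theorem no_tr {t : G} (hc : IsConj z t) (ht : t ∈ Cz z) (htr : Tr (π t)) : False := by
  obtain ⟨g, hg⟩ := isConj_iff.1 hc
  have S' := S.map g
  rw [hg] at S'
  generalize hE' : E.map (MulAut.conj g).toMonoidHom = E' at S'
  generalize hv' : (fun x => v (g⁻¹ * x * g)) = v' at S'
  generalize ha' : g * a * g⁻¹ = a' at S'
  generalize hp' : (fun x => π (g⁻¹ * x * g)) = π' at S'
  have t2 : t * t = 1 := S'.z2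
  have htE : t ∉ E := fun h => htr.2.2.1 (S.p_E h)
  have hzt : z ∈ Cz t := mem_Cz.2 (mem_Cz.1 ht).symm
  have hzE' : z ∉ E' := S.conj_pair_E hc ht htE g E' v' π' a' S' hg
  have hpz1 : π' z ≠ 1 := fun e => hzE' ((S'.p_one z hzt).1 e)
  -- `z` induces a double transposition
  obtain ⟨f, hf, hff, hft⟩ := S.tr_four ht t2 htr
  have hft' : f ∈ Cz t := mem_Cz.2 hft
  have hzd : Dbl (π' z) := by
    have h2 : π' f * π' f = π' z := by rw [← S'.p_mul f hft' f hft', hff]
    rw [← h2]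
    refine sq_dbl _ (S'.p_zero f hft') ?_ (h2 ▸ hpz1)
    rw [h2, ← S'.p_mul z hzt z hzt, S.z2, S'.p1]
  -- all involutions inducing double transpositions are conjugate to `z`
  have hall : ∀ d : G, d ∈ Cz z → d * d = 1 → Dbl (π d) → IsConj z d := by
    intro d hd d2 hdd
    have hd' : g * d * g⁻¹ ∈ Cz t := by
      rw [mem_Cz, ← hg, ← S.conj_mul, ← S.conj_mul, mem_Cz.1 hd]
    have hdd' : Dbl (π' (g * d * g⁻¹)) := by
      rw [← hp']
      show Dbl (π (g⁻¹ * (g * d * g⁻¹) * g))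
      rwa [show g⁻¹ * (g * d * g⁻¹) * g = d by group]
    obtain ⟨h, -, hh⟩ := S'.dbl_conj' hzt S.z2 hzd hd' (by rw [← S.conj_mul, d2]; group) hdd'
    exact (isConj_iff.2 ⟨h, hh⟩).trans (isConj_iff.2 ⟨g, rfl⟩).symm
  have ha'z : z * a' = a' * z := S'.dbl_a hzt S.z2 hzd
  have ha'C : a' ∈ Cz z := mem_Cz.2 ha'z.symm
  have ha't : a' * t = t * a' := mem_Cz.1 S'.aH
  -- the two products
  have hzu : ∀ u : G, u = a' ∨ u = a' * t → IsConj z (z * u) := by
    intro u hu
    obtain ⟨huE, hvu⟩ := S'.pair_E hu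
    have huC : u ∈ Cz t := S'.ecz u huE
    have huz : z * u = u * z := by
      rcases hu with rfl | rfl
      · exact ha'z
      · rw [← mul_assoc, ha'z, mul_assoc, ← mem_Cz.1 ht, mul_assoc]
    have hpi : π' (z * u) = π' z := S'.p_mulE hzt huE
    have h2 : z * u * (z * u) = 1 := by
      have u2 : u * u = 1 := by rw [S'.v_sq u huE, hvu, (sv_facts.1 0).1]; rfl
      calc z * u * (z * u) = z * (u * z) * u := by group
        _ = z * z * (u * u) := by rw [← huz]; group
        _ = 1 := by rw [S.z2, u2, one_mul]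
    obtain ⟨h, -, hh⟩ := S'.dbl_conj' hzt S.z2 hzd ((Cz t).mul_mem hzt huC) h2 (hpi ▸ hzd)
    exact isConj_iff.2 ⟨h, hh⟩
  have haz : IsConj z a → ∀ w : G, w = a ∨ w = a * z → IsConj z w := by
    intro h w hw
    rcases hw with rfl | rfl
    exacts [h, h.trans S.a_conj_az]
  have inE : ∀ u : G, u = a' ∨ u = a' * t → u ∈ E → False := by
    intro u hu huE
    obtain ⟨huE', hvu⟩ := S'.pair_E hu
    have u1 : u ≠ 1 := fun e => by rw [e, S'.v_one] at hvu; exact (sv_facts.1 0).2 hvu.symm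
    have hne : z * u ≠ z := fun e => u1 (mul_eq_left.1 e)
    have hzua := S.conj_E (E.mul_mem S.zE huE) (hzu u hu) hne
    have hzuv := (S.pair_E hzua).2
    rw [mem_Cz.1 (S.ecz u huE) |>.symm, S.v_mul_z huE] at hzuv
    have hua := S.pair_cases huE hzuv
    have hza : IsConj z a := by
      rcases hzua with e | e
      · exact e ▸ hzu u hu
      · exact (e ▸ hzu u hu).trans S.a_conj_az.symm
    have hcu := haz hza u hua
    obtain ⟨-, F, w, ρ, b, T, -, -, -⟩ := S.at_conj hcu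
    have hz' := S.pair_sym T hcu hua
    have ht' := S'.pair_sym T (hc.symm.trans hcu) hu
    have : t = z ∨ t = z * u := by
      rcases hz' with e | e <;> rcases ht' with e' | e'
      · exact Or.inl (e'.trans e.symm)
      · exact Or.inr (by rw [e', e])
      · exact Or.inr (by rw [e', e, mul_assoc, T.z2, mul_one])
      · exact Or.inl (e'.trans e.symm)
    rcases this with e | e
    · exact htE (e ▸ S.zE)
    · exact htE (e ▸ E.mul_mem S.zE huE)
  have hr2 : π a' * π a' = 1 := S.p_invol ha'C S'.a2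
  have hrt : π a' * π t = π t * π a' := by rw [← S.p_mul a' ha'C t ht, ha't, S.p_mul t ht a' ha'C]
  rcases tr_comm _ htr _ (S.p_zero a' ha'C) hr2 hrt with e | e | e | e
  · exact inE a' (Or.inl rfl) ((S.p_one a' ha'C).1 e)
  · refine inE (a' * t) (Or.inr rfl) ((S.p_one _ ((Cz z).mul_mem ha'C ht)).1 ?_)
    rw [S.p_mul a' ha'C t ht, e, S.p_invol ht t2]
  all_goals
    obtain ⟨d, hd, hdd⟩ : ∃ d, (d = a' ∨ d = a' * t) ∧ Dbl (π d) := by
      first
      | exact ⟨a', Or.inl rfl, e⟩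
      | exact ⟨a' * t, Or.inr rfl, by rw [S.p_mul a' ha'C t ht]; exact e⟩
    obtain ⟨hdE', hvd⟩ := S'.pair_E hd
    have hdC : d ∈ Cz z := by
      rcases hd with rfl | rfl
      exacts [ha'C, (Cz z).mul_mem ha'C ht]
    have d2 : d * d = 1 := by rw [S'.v_sq d hdE', hvd, (sv_facts.1 0).1]; rfl
    have hdt : d * t = t * d := mem_Cz.1 (S'.ecz d hdE')
    have hcd : IsConj z d := hall d hdC d2 hdd
    obtain ⟨gd, F, w, ρ, b, T, hgd, -, -⟩ := S.at_conj hcd
    have htp := S'.pair_sym T (hc.symm.trans hcd) hd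
    obtain ⟨u, hu⟩ : ∃ u, u = t * d := ⟨_, rfl⟩
    have hup : u = b ∨ u = b * d := by
      rcases htp with h | h
      · exact Or.inr (by rw [hu, h])
      · exact Or.inl (by rw [hu, h, mul_assoc, T.z2, mul_one])
    have hcu : IsConj d u := by
      have hb : IsConj d b := by
        rcases htp with h | h
        · exact h ▸ hcd.symm.trans hc
        · exact (h ▸ hcd.symm.trans hc).trans T.a_conj_az.symm
      rcases hup with h' | h'
      · exact h'.symm ▸ hb
      · exact h'.symm ▸ hb.trans T.a_conj_az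
    obtain ⟨-, K, wu, ρu, au, U, -, -, -⟩ := S.at_conj (hcd.trans hcu)
    have hdp : d = au ∨ d = au * u := T.pair_sym U hcu hup
    obtain ⟨d0, hq⟩ := tr_vec _ htr
    obtain ⟨x, hx, hvx⟩ := S.v_surj (ad d0 (act5 (π t) d0))
    have htx : t * x * t⁻¹ = x * z := by
      have h := S.twist ht t2 hx hvx
      rw [hvx, hq] at h
      exact h
    have hdx : d * x * d⁻¹ = x * z := by
      have hcm : π t * π d = π d * π t := by rw [← S.p_mul t ht d hdC, ← hdt, S.p_mul d hdC t ht]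
      have h := S.dbl_twist hdC d2 hdd hx (by rw [hvx]; exact tr_dbl _ htr _ hdd hcm d0)
      rw [hvx, hq] at h
      exact h
    have sw : ∀ s : G, s ∈ Cz z → s * s = 1 → s * x * s⁻¹ = x * z → x * s * x⁻¹ = s * z := by
      intro s hs s2 h
      have si : s⁻¹ = s := inv_eq_of_mul_eq_one_right s2
      calc x * s * x⁻¹ = s * (s * x * s⁻¹) * x⁻¹ := by
            rw [si, show s * (s * x * s) * x⁻¹ = s * s * x * s * x⁻¹ by group, s2, one_mul]
        _ = s * (z * x) * x⁻¹ := by rw [h, mem_Cz.1 (S.ecz x hx)]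
        _ = s * z := by group
    have hxt := sw t ht t2 htx
    have hxd := sw d hdC d2 hdx
    have hxu : x * u * x⁻¹ = u := by
      rw [hu, S.conj_mul, hxt, hxd, show t * z * (d * z) = t * (z * d) * z by group, ← mem_Cz.1 hdC,
        show t * (d * z) * z = t * d * (z * z) by group, S.z2, mul_one]
    have hxU : x ∈ Cz u := mem_Cz.2 (mul_inv_eq_iff_eq_mul.1 hxu)
    obtain ⟨hdK, hvdK⟩ := U.pair_E hdp
    have hdz : d * z = d ∨ d * z = d * u := by
      have h := U.mem_of_v (U.enorm x hxU d hdK) hdK (by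
        rw [U.p_act x hxU d hdK, hvdK, act5_sv, U.p_zero x hxU])
      rwa [hxd] at h
    rcases hdz with h | h
    · exact S.z1 (mul_eq_left.1 h)
    · have hzu : z = u := mul_left_cancel h
      have : π u = 1 := hzu ▸ S.p_z
      rw [hu, S.p_mul t ht d hdC] at this
      refine tr_dbl_ne _ htr _ hdd ?_
      rw [← this, ← S.p_mul t ht d hdC, ← hdt, S.p_mul d hdC t ht]

omit S' in
/-- the conjugates of `z` in its centraliser -/
theorem conj_C {t : G} (hc : IsConj z t) (ht : t ∈ Cz z) :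
    t = z ∨ t = a ∨ t = a * z ∨ Dbl (π t) := by
  obtain ⟨g, hg⟩ := isConj_iff.1 hc
  have t2 : t * t = 1 := by rw [← hg, ← S.conj_mul, S.z2]; group
  rcases invol_cases _ (S.p_zero t ht) (S.p_invol ht t2) with e | e | e
  · by_cases h : t = z
    · exact Or.inl h
    rcases S.conj_E ((S.p_one t ht).1 e) hc h with h' | h'
    exacts [Or.inr (Or.inl h'), Or.inr (Or.inr (Or.inl h'))]
  · exact Or.inr (Or.inr (Or.inr e))
  · exact (S.no_tr hc ht e).elim

omit S' in
/-- a non-isolated centre is conjugate to `a` -/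
theorem z_conj_a {t : G} (hc : IsConj z t) (ht : t ∈ Cz z) (hne : t ≠ z) : IsConj z a := by
  rcases S.conj_C hc ht with h | h | h | hd
  · exact absurd h hne
  · exact h ▸ hc
  · exact (h ▸ hc).trans S.a_conj_az.symm
  obtain ⟨g, hg⟩ := isConj_iff.1 hc
  have S' := S.map g
  rw [hg] at S'
  generalize hE' : E.map (MulAut.conj g).toMonoidHom = E' at S'
  generalize hv' : (fun x => v (g⁻¹ * x * g)) = v' at S'
  generalize ha' : g * a * g⁻¹ = a' at S'
  generalize hp' : (fun x => π (g⁻¹ * x * g)) = π' at S'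
  have htE : t ∉ E := fun h => dbl_ne_one hd (S.p_E h)
  have hzE' : z ∉ E' := S.conj_pair_E hc ht htE g E' v' π' a' S' hg
  have hzt : z ∈ Cz t := mem_Cz.2 (mem_Cz.1 ht).symm
  have hzd : Dbl (π' z) := by
    rcases S'.conj_C hc.symm hzt with h | h | h | h
    · exact absurd h.symm (fun e => htE (e ▸ S.zE))
    · exact absurd (h ▸ S'.aE) hzE'
    · exact absurd (h ▸ E'.mul_mem S'.aE S'.zE) hzE'
    · exact h
  have haz : z * a' = a' * z := S'.dbl_a hzt S.z2 hzd
  have ha'C : a' ∈ Cz z := mem_Cz.2 haz.symm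
  have h2 : z * a' * (z * a') = 1 := by
    calc z * a' * (z * a') = z * (a' * z) * a' := by group
      _ = z * z * (a' * a') := by rw [← haz]; group
      _ = 1 := by rw [S.z2, S'.a2, one_mul]
  obtain ⟨h, -, hh⟩ := S'.dbl_conj' hzt S.z2 hzd ((Cz t).mul_mem hzt S'.aH) h2
    ((S'.p_mulE hzt S'.aE).symm ▸ hzd)
  have hcza : IsConj z (z * a') := isConj_iff.2 ⟨h, hh⟩
  have a'1 : a' ≠ 1 := S'.a1
  rcases S.conj_C hcza ((Cz z).mul_mem S.zH ha'C) with e | e | e | e
  · exact absurd (mul_eq_left.1 e) a'1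
  · exact e ▸ hcza
  · exact (e ▸ hcza).trans S.a_conj_az.symm
  · have hpa : π (z * a') = π a' := by rw [S.p_mul z S.zH a' ha'C, S.p_z, one_mul]
    obtain ⟨k, -, hk⟩ := S.dbl_conj' ((Cz z).mul_mem S.zH ha'C) h2 e ha'C S'.a2 (hpa ▸ e)
    have hza' : IsConj z a' := hcza.trans (isConj_iff.2 ⟨k, hk⟩)
    rw [← ha'] at hza'
    exact hza'.trans (isConj_iff.2 ⟨g, rfl⟩).symm

end Setting

end CfsgLib.MinusFourSymFour
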