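import Cfsg.Agent.Lib.MinusFourSymFour.Simple

/-!
Identification of the simple normal subgroup.
-/

set_option autoImplicit false
set_option linter.unusedSectionVars false
set_option linter.style.haveILetI false
set_option synthInstance.maxSize 2000
set_option synthInstance.maxHeartbeats 100000

namespace CfsgLib.MinusFourSymFour

/-- no projective line group over a prime field has a Sylow two-subgroup of order sixty-four -/
theorem no_prime_line {q n k : ℕ} (hn : n * 2 = q * ((q - 1) * (q + 1))) (hq : q.Prime) (h64 : 64 ∣ n)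
    (h128 : ¬ 128 ∣ n) (hk : q = 2 ^ k + 1 ∨ q + 1 = 2 ^ k) : False := by
  rcases le_or_gt k 6 with h | h
  · obtain ⟨j, rfl⟩ := h64
    have hq' : q ∈ [0, 1, 2, 3, 5, 7, 9, 15, 17, 31, 33, 63, 65] := by
      interval_cases k <;> simp at hk ⊢ <;> omega
    fin_cases hq' <;> first | (norm_num at hq; done) | (norm_num at hn; omega)
  · apply h128
    have hdiv : 2 ^ k ∣ (q - 1) ∨ 2 ^ k ∣ (q + 1) := by
      rcases hk with e | e
      · exact Or.inl ⟨1, by omega⟩
      · exact Or.inr ⟨1, by omega⟩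
    have heven : 2 ∣ q - 1 ∧ 2 ∣ q + 1 := by
      obtain ⟨j, hj⟩ : 2 ∣ 2 ^ k := dvd_pow_self 2 (by omega)
      rcases hk with e | e <;> constructor <;> omega
    have h8 : 2 ^ 8 ∣ (q - 1) * (q + 1) := by
      rcases hdiv with d | d
      · exact (show (2 : ℕ) ^ 7 * 2 = 2 ^ 8 by norm_num) ▸
          Nat.mul_dvd_mul ((Nat.pow_dvd_pow 2 (by omega)).trans d) heven.2
      · exact (show (2 : ℕ) * 2 ^ 7 = 2 ^ 8 by norm_num) ▸
          Nat.mul_dvd_mul heven.1 ((Nat.pow_dvd_pow 2 (by omega)).trans d)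
    have : 128 * 2 ∣ n * 2 := hn ▸ (h8.trans (dvd_mul_left _ _))
    exact Nat.dvd_of_mul_dvd_mul_right (by norm_num) this

open scoped MatrixGroups in
/-- a field isomorphism gives an isomorphism of the projective special linear groups -/
noncomputable def pslEquiv {K F : Type*} [Field K] [Field F] (f : K ≃+* F) :
    Matrix.ProjectiveSpecialLinearGroup (Fin 3) K ≃* Matrix.ProjectiveSpecialLinearGroup (Fin 3) F :=
  let e : SL(3, K) ≃* SL(3, F) :=
    { toFun := Matrix.SpecialLinearGroup.map f.toRingHom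
      invFun := Matrix.SpecialLinearGroup.map f.symm.toRingHom
      left_inv := fun s => by ext i j; simp
      right_inv := fun s => by ext i j; simp
      map_mul' := map_mul _ }
  QuotientGroup.congr (Subgroup.center SL(3, K)) (Subgroup.center SL(3, F)) e (by
    ext x
    constructor
    · rintro ⟨y, hy, rfl⟩
      refine Subgroup.mem_center_iff.2 fun w => ?_
      obtain ⟨w', rfl⟩ := e.surjective w
      exact (map_mul e w' y).symm.trans ((congrArg e (Subgroup.mem_center_iff.1 hy w')).trans (map_mul e y w'))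
    · intro hx
      obtain ⟨y, rfl⟩ := e.surjective x
      refine ⟨y, Subgroup.mem_center_iff.2 fun w => e.injective ?_, rfl⟩
      rw [map_mul, map_mul]
      exact Subgroup.mem_center_iff.1 hx (e w))

namespace Setting

variable {G : Type*} [Group G] {z : G} {E : Subgroup G} {v : G → B4} {π : G → S5} {a : G}
  (S : Setting z E v π a) {X : Subgroup G} (D : Even S X)
include S D

/-- the simple normal subgroup containing the involutions of `X` -/
theorem exists_N [Finite G] (hns : ¬ Group.IsSolvable G) : ∃ (N : Subgroup G) (L : Subgroup G),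
    N.Normal ∧ IsSimpleGroup N ∧ (∃ a b : N, a * b ≠ b * a) ∧ N ≤ L ∧ L ≤ X ∧
    (∀ x ∈ X, ∀ l ∈ L, x * l * x⁻¹ ∈ L) ∧ L ⊓ Cz z = S.U ∧ 3 * Nat.card L ≤ Nat.card X ∧
    (∀ u ∈ X, u * u = 1 → u ∈ N) := by
  classical
  haveI : Fact (Nat.Prime 2) := ⟨Nat.prime_two⟩
  haveI := D.normal
  obtain ⟨r, L, hr, r3, r1, hLX, hLn, hLr, hL2, hLU⟩ := S.exists_L D
  have hrX : r ∈ X := D.three r hr r3
  have hinvL : ∀ u ∈ X, u * u = 1 → u ∈ L := fun u hu u2 => hL2 u hu (by
    rw [show u ^ 8 = (u * u) ^ 4 by rw [← pow_two, ← pow_mul], u2, one_pow])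
  have hcit : CfsgLib.CIT.IsCIT L := by
    intro t ht g
    have t2 : (t : G) * t = 1 := by
      rw [← pow_two, ← Subgroup.coe_pow, show t ^ 2 = 1 by rw [← ht, pow_orderOf_eq_one], Subgroup.coe_one]
    have t1 : (t : G) ≠ 1 := fun e => by
      rw [show t = 1 from Subtype.ext e, orderOf_one] at ht; omega
    refine ⟨3, Subtype.ext (Subtype.ext ?_)⟩
    simpa using S.L_cent8 D hLX hLn hLU t.2 t2 t1 g.1.2
      (congrArg Subtype.val (Subgroup.mem_centralizer_singleton_iff.1 g.2))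
  have hnsL : ¬ Group.IsSolvable L := by
    intro hL
    apply hns
    haveI hn : (L.subgroupOf X).Normal := ⟨fun l hl x => by
      rw [Subgroup.mem_subgroupOf] at hl ⊢
      exact hLn x x.2 l hl⟩
    haveI : Group.IsSolvable (L.subgroupOf X) :=
      Group.isSolvable_of_isSolvable_injective (f := (Subgroup.subgroupOfEquivOfLe hLX).toMonoidHom)
        (Subgroup.subgroupOfEquivOfLe hLX).injective
    haveI : Group.IsSolvable (X ⧸ L.subgroupOf X) := Group.isSolvable_of_comm fun p q => by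
      have hgen : ∀ y : X ⧸ L.subgroupOf X, ∃ k : ℕ,
          y = (QuotientGroup.mk' (L.subgroupOf X) ⟨r, hrX⟩ ^ k)⁻¹ := fun y => by
        obtain ⟨x, rfl⟩ := QuotientGroup.mk'_surjective (L.subgroupOf X) y
        obtain ⟨k, hk⟩ := hLr x x.2
        refine ⟨k, eq_inv_of_mul_eq_one_left ?_⟩
        rw [← map_pow, ← map_mul, QuotientGroup.mk'_apply, QuotientGroup.eq_one_iff, Subgroup.mem_subgroupOf]
        exact hk
      obtain ⟨j, rfl⟩ := hgen p
      obtain ⟨k, rfl⟩ := hgen q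
      exact ((Commute.pow_pow_self _ j k).inv_left.inv_right).eq
    haveI : Group.IsSolvable X := Group.isSolvable_of_ker_le_range (L.subgroupOf X).subtype
      (QuotientGroup.mk' (L.subgroupOf X)) (by rw [QuotientGroup.ker_mk', Subgroup.range_subtype])
    haveI : Group.IsSolvable (G ⧸ X) := by
      haveI := (IsPGroup.of_card (p := 2) (n := 2) (G := G ⧸ X) (by
        rw [← Subgroup.index_eq_card, S.index_X D]; norm_num)).isNilpotent
      infer_instance
    exact Group.isSolvable_of_ker_le_range X.subtype (QuotientGroup.mk' X)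
      (by rw [QuotientGroup.ker_mk', Subgroup.range_subtype])
  obtain ⟨c, hc, d, hd, c2, d2, hcd⟩ := S.exists_noncomm_invol D
  have c1 : c ≠ 1 := fun e => hcd (by rw [e]; group)
  have d1 : d ≠ 1 := fun e => hcd (by rw [e]; group)
  have hO : Cfsg.pCore 2 L = ⊥ := by
    by_contra hne
    haveI := CfsgLib.Fitting.pCore_normal (G := L) 2
    haveI : (Cfsg.pCore 2 L).Characteristic := CfsgLib.PSolvable.pCore_characteristic 2
    set P := (Cfsg.pCore 2 L).map L.subtype with hPdef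
    have hPp : IsPGroup 2 P := (CfsgLib.Fitting.pCore_isPGroup (G := L) 2).map _
    have hPne : P ≠ ⊥ := by rwa [hPdef, Ne, Subgroup.map_eq_bot_iff_of_injective _ L.subtype_injective]
    have hPinv : ∀ x ∈ X, ∀ p ∈ P, x * p * x⁻¹ ∈ P := by
      rintro x hx _ ⟨p, hp, rfl⟩
      let ρ : MulAut L :=
        { toFun := fun l => ⟨x * l * x⁻¹, hLn x hx l l.2⟩
          invFun := fun l => ⟨x⁻¹ * l * x⁻¹⁻¹, hLn _ (X.inv_mem hx) l l.2⟩
          left_inv := fun l => Subtype.ext (by show x⁻¹ * (x * (l : G) * x⁻¹) * x⁻¹⁻¹ = l; group)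
          right_inv := fun l => Subtype.ext (by show x * (x⁻¹ * (l : G) * x⁻¹⁻¹) * x⁻¹ = l; group)
          map_mul' := fun l m => Subtype.ext (by
            show x * ((l : G) * m) * x⁻¹ = x * l * x⁻¹ * (x * m * x⁻¹); group) }
      refine ⟨ρ p, ?_, rfl⟩
      have := Subgroup.characteristic_iff_map_eq.1 (inferInstance : (Cfsg.pCore 2 L).Characteristic) ρ
      rw [← this]
      exact ⟨p, hp, rfl⟩
    obtain ⟨t, ht, t2, t1, htc⟩ := CfsgLib.CIT.exists_central_invol hPp hPne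
    have hPL : P ≤ L := Subgroup.map_subtype_le _
    have hall : ∀ u ∈ X, u * u = 1 → u ≠ 1 → u ∈ P ∧ ∀ p ∈ P, Commute u p := by
      intro u hu u2 u1
      obtain ⟨y, hy, hyt⟩ := S.X_invol D (hLX (hPL ht)) t2 t1
      obtain ⟨w, hw, hwu⟩ := S.X_invol D hu u2 u1
      have hx : w * y⁻¹ ∈ X := X.mul_mem hw (X.inv_mem hy)
      have hxu : u = w * y⁻¹ * t * (w * y⁻¹)⁻¹ := by rw [← hwu, ← hyt]; group
      refine ⟨hxu ▸ hPinv _ hx t ht, fun p hp => ?_⟩
      have h1 : Commute t ((w * y⁻¹)⁻¹ * p * (w * y⁻¹)) := htc _ (by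
        have := hPinv _ (X.inv_mem hx) p hp
        rwa [inv_inv] at this)
      show u * p = p * u
      calc u * p = w * y⁻¹ * (t * ((w * y⁻¹)⁻¹ * p * (w * y⁻¹))) * (w * y⁻¹)⁻¹ := by rw [hxu]; group
        _ = w * y⁻¹ * ((w * y⁻¹)⁻¹ * p * (w * y⁻¹) * t) * (w * y⁻¹)⁻¹ := by rw [h1.eq]
        _ = p * u := by rw [hxu]; group
    exact hcd ((hall c (D.U_le hc) c2 c1).2 d (hall d (D.U_le hd) d2 d1).1).eq
  obtain ⟨N', hN'n, hN's, ⟨n1, n2, hn12⟩, -⟩ := CfsgLib.CIT.exists_simple_normal hcit hnsL hO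
  have hN'ns : ¬ Group.IsSolvable N' := fun h => hn12 (IsSimpleGroup.comm_iff_isSolvable.2 h n1 n2)
  obtain ⟨t', ht', t2', t1'⟩ := CfsgLib.CIT.exists_invol_of_not_solvable hN'ns
  have hinvN : ∀ u ∈ X, u * u = 1 → ∀ hu : u ∈ L, (⟨u, hu⟩ : L) ∈ N' := by
    intro u hu u2 huL
    by_cases u1 : u = 1
    · rw [show (⟨u, huL⟩ : L) = 1 from Subtype.ext u1]; exact N'.one_mem
    obtain ⟨y, hy, hyt⟩ := S.X_invol D (hLX t'.2) (congrArg Subtype.val t2') (fun e => t1' (Subtype.ext e))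
    obtain ⟨w, hw, hwu⟩ := S.X_invol D hu u2 u1
    obtain ⟨i, hi⟩ := hLr w hw
    obtain ⟨j, hj⟩ := hLr y hy
    have hrC : ∀ n : ℕ, r ^ n * z * (r ^ n)⁻¹ = z := fun n => S.conj_z ((Cz z).pow_mem hr n)
    set l := w * r ^ i * (y * r ^ j)⁻¹
    have hl : l ∈ L := L.mul_mem hi (L.inv_mem hj)
    have hlu : l * (t' : G) * l⁻¹ = u := by
      rw [← hyt, ← hwu]
      calc l * (y * z * y⁻¹) * l⁻¹
          = w * (r ^ i * ((r ^ j)⁻¹ * z * r ^ j) * (r ^ i)⁻¹) * w⁻¹ := by simp only [l]; group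
        _ = w * z * w⁻¹ := by
          rw [show (r ^ j)⁻¹ * z * r ^ j = z by
            calc (r ^ j)⁻¹ * z * r ^ j = (r ^ j)⁻¹ * (r ^ j * z * (r ^ j)⁻¹) * r ^ j := by rw [hrC]
              _ = z := by group, hrC]
    rw [show (⟨u, huL⟩ : L) = ⟨l, hl⟩ * t' * ⟨l, hl⟩⁻¹ from Subtype.ext hlu.symm]
    exact hN'n.conj_mem _ ht' _
  set N := N'.map L.subtype with hNdef
  -- it is generated by the involutions of `X`
  set I := Subgroup.closure {u : G | u ∈ X ∧ u * u = 1}
  have hIN : I ≤ N := (Subgroup.closure_le _).2 fun u hu =>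
    ⟨⟨u, hinvL u hu.1 hu.2⟩, hinvN u hu.1 hu.2 _, rfl⟩
  haveI hIn : I.Normal := ⟨fun w hw g => by
    have hle : I.map (MulAut.conj g).toMonoidHom ≤ I := by
      rw [MonoidHom.map_closure, Subgroup.closure_le]
      rintro _ ⟨u, ⟨hu, u2⟩, rfl⟩
      refine Subgroup.subset_closure ⟨D.normal.conj_mem u hu g, ?_⟩
      show g * u * g⁻¹ * (g * u * g⁻¹) = 1
      rw [← S.conj_mul, u2]; group
    exact hle ⟨w, hw, rfl⟩⟩
  have hNI : N = I := by
    refine le_antisymm ?_ hIN
    have hnn : ((I.subgroupOf L).subgroupOf N').Normal := inferInstance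
    rcases hN's.eq_bot_or_eq_top_of_normal _ hnn with h | h
    · exfalso
      apply c1
      have hmem : (⟨⟨c, hinvL c (D.U_le hc) c2⟩, hinvN c (D.U_le hc) c2 _⟩ : N') ∈ (I.subgroupOf L).subgroupOf N' :=
        Subgroup.mem_subgroupOf.2 (Subgroup.mem_subgroupOf.2 (Subgroup.subset_closure ⟨D.U_le hc, c2⟩))
      rw [h, Subgroup.mem_bot] at hmem
      exact congrArg (fun t : N' => ((t : L) : G)) hmem
    · rintro _ ⟨x, hx, rfl⟩
      exact Subgroup.mem_subgroupOf.1 (Subgroup.mem_subgroupOf.1 (h.ge (Subgroup.mem_top (⟨x, hx⟩ : N'))))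
  let eN : N' ≃* N := N'.equivMapOfInjective L.subtype L.subtype_injective
  refine ⟨N, L, hNI ▸ hIn, ?_, ⟨eN n1, eN n2, ?_⟩, Subgroup.map_subtype_le _, hLX, hLn, hLU, ?_,
    fun u hu u2 => hNI ▸ Subgroup.subset_closure ⟨hu, u2⟩⟩
  · haveI := hN's
    exact eN.symm.isSimpleGroup
  · rw [← map_mul, ← map_mul]; exact fun h => hn12 (eN.injective h)
  · let f : Fin 3 × L → X := fun p => ⟨r ^ (p.1 : ℕ) * p.2, X.mul_mem (X.pow_mem hrX _) (hLX p.2.2)⟩
    have hf : Function.Injective f := by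
      rintro ⟨i, l⟩ ⟨j, m⟩ h
      have e : r ^ (i : ℕ) * (l : G) = r ^ (j : ℕ) * m := congrArg Subtype.val h
      have hij : (r ^ (j : ℕ))⁻¹ * r ^ (i : ℕ) ∈ L ⊓ Cz z := by
        refine ⟨?_, (Cz z).mul_mem ((Cz z).inv_mem ((Cz z).pow_mem hr _)) ((Cz z).pow_mem hr _)⟩
        rw [show (r ^ (j : ℕ))⁻¹ * r ^ (i : ℕ) = (m : G) * (l : G)⁻¹ by
          rw [eq_mul_inv_iff_mul_eq, mul_assoc, e]; group]
        exact L.mul_mem m.2 (L.inv_mem l.2)
      rw [hLU] at hij
      set y := (r ^ (j : ℕ))⁻¹ * r ^ (i : ℕ) with hy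
      have y3 : y ^ 3 = 1 := by
        rw [hy, ((Commute.refl r).pow_pow _ _).inv_left.mul_pow, inv_pow, ← pow_mul, ← pow_mul, mul_comm (j : ℕ),
          mul_comm (i : ℕ), pow_mul, pow_mul, r3, one_pow, one_pow]; group
      have y1 : y = 1 := by
        calc y = (y ^ 3) ^ 3 * (y ^ 8)⁻¹ := by group
          _ = 1 := by rw [y3, S.U_pow8 hij]; group
      have hpow : r ^ (i : ℕ) = r ^ (j : ℕ) := (inv_mul_eq_one.1 y1).symm
      have hi : (i : ℕ) = j := pow_injOn_Iio_orderOf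
        (by rw [Set.mem_Iio, orderOf_eq_prime (p := 3) r3 r1]; exact i.2)
        (by rw [Set.mem_Iio, orderOf_eq_prime (p := 3) r3 r1]; exact j.2) hpow
      obtain rfl : i = j := Fin.ext hi
      exact Prod.ext rfl (Subtype.ext (mul_left_cancel e))
    have := Nat.card_le_card_of_injective f hf
    rwa [Nat.card_prod, Nat.card_fin] at this

/-- the simple normal subgroup is the projective special linear group -/
theorem N_iso [Finite G] {F : Type*} [Field F] [Fintype F] (hF : Fintype.card F = 4) {N L : Subgroup G}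
    [IsSimpleGroup N] (hncomm : ∃ a b : N, a * b ≠ b * a) (hNL : N ≤ L) (hLX : L ≤ X)
    (hLn : ∀ x ∈ X, ∀ l ∈ L, x * l * x⁻¹ ∈ L) (hLU : L ⊓ Cz z = S.U) (hinv : ∀ u ∈ X, u * u = 1 → u ∈ N) :
    Nonempty (N ≃* Matrix.ProjectiveSpecialLinearGroup (Fin 3) F) := by
  classical
  haveI : Fact (Nat.Prime 2) := ⟨Nat.prime_two⟩
  have hUN : S.U ≤ N := S.U_gen D hinv
  have hcit : ∀ t : N, orderOf t = 2 → IsPGroup 2 (Subgroup.centralizer ({t} : Set N)) := by
    intro t ht g
    have t2 : (t : G) * t = 1 := by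
      rw [← pow_two, ← Subgroup.coe_pow, show t ^ 2 = 1 by rw [← ht, pow_orderOf_eq_one], Subgroup.coe_one]
    have t1 : (t : G) ≠ 1 := fun e => by
      rw [show t = 1 from Subtype.ext e, orderOf_one] at ht; omega
    refine ⟨3, Subtype.ext (Subtype.ext ?_)⟩
    simpa using S.L_cent8 D hLX hLn hLU (hNL t.2) t2 t1 (hNL g.1.2)
      (congrArg Subtype.val (Subgroup.mem_centralizer_singleton_iff.1 g.2))
  obtain ⟨P, hP⟩ := (IsPGroup.of_card (p := 2) (n := 6) (G := S.U.subgroupOf N) (by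
    rw [Nat.card_congr (Subgroup.subgroupOfEquivOfLe hUN).toEquiv, S.card_U]; norm_num)).exists_le_sylow
  have hPU : (P : Subgroup N) = S.U.subgroupOf N := by
    have h := S.U_max D hLX hLn hLU (P := (P : Subgroup N).map N.subtype) (P.2.map _)
      ((Subgroup.map_subtype_le _).trans hNL) (fun u hu => ⟨⟨u, hUN hu⟩, hP (Subgroup.mem_subgroupOf.2 hu), rfl⟩)
    rw [← h, ← Subgroup.comap_subtype, Subgroup.comap_map_eq_self_of_injective N.subtype_injective]
  have hP64 : Nat.card (P : Subgroup N) = 64 := by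
    rw [hPU, Nat.card_congr (Subgroup.subgroupOfEquivOfLe hUN).toEquiv, S.card_U]
  have h64 : 64 ∣ Nat.card N := hP64 ▸ Subgroup.card_subgroup_dvd_card _
  have h128 : ¬ 128 ∣ Nat.card N := by
    intro h
    have e := P.card_mul_index
    rw [hP64] at e
    rw [← e, show 128 = 64 * 2 by norm_num] at h
    exact P.not_dvd_index (Nat.dvd_of_mul_dvd_mul_left (by norm_num) h)
  obtain ⟨c, hc, d, hd, -, -, hcd⟩ := S.exists_noncomm_invol D
  rcases CfsgLib.CIT.classification_iso hncomm hcit with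
    ⟨K, _, _, hK, ⟨e⟩⟩ | ⟨K, _, _, hK, ⟨e⟩⟩ | ⟨K, _, _, m, hm, hK, ⟨e⟩⟩
  · exfalso
    rcases hK with h9 | ⟨n, hn⟩ | ⟨hp, k, hk⟩
    · have h := CfsgLib.SL2.card_PSL (F := K)
      rw [← Nat.card_congr e.toEquiv, Nat.card_eq_fintype_card (α := K), h9] at h
      norm_num at h
      omega
    · haveI : CharP K 2 := CfsgLib.Suzuki.charP_two_of_card hn
      let P' : Sylow 2 (Matrix.ProjectiveSpecialLinearGroup (Fin 2) K) :=
        P.mapSurjective (f := e.toMonoidHom) e.surjective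
      obtain ⟨P'', hP''⟩ : ∃ Q : Sylow 2 (⊤ : Subgroup (Matrix.ProjectiveSpecialLinearGroup (Fin 2) K)),
          (Q : Subgroup (⊤ : Subgroup (Matrix.ProjectiveSpecialLinearGroup (Fin 2) K))) =
            (P' : Subgroup (Matrix.ProjectiveSpecialLinearGroup (Fin 2) K)).subgroupOf ⊤ :=
        ⟨P'.subtype le_top, rfl⟩
      have mem : ∀ u (hu : u ∈ S.U), (⟨e ⟨u, hUN hu⟩, Subgroup.mem_top _⟩ : (⊤ : Subgroup _)) ∈ (P'' : Subgroup _) := by
        intro u hu
        rw [hP'', Subgroup.mem_subgroupOf]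
        show e ⟨u, hUN hu⟩ ∈ (P : Subgroup N).map e.toMonoidHom
        exact ⟨⟨u, hUN hu⟩, hP (Subgroup.mem_subgroupOf.2 hu), rfl⟩
      have h := congrArg Subtype.val (CfsgLib.SL2.sylow_comm 2 ⊤ P'' _ (mem c hc) _ (mem d hd)).eq
      change e ⟨c, hUN hc⟩ * e ⟨d, hUN hd⟩ = e ⟨d, hUN hd⟩ * e ⟨c, hUN hc⟩ at h
      rw [← map_mul, ← map_mul] at h
      exact hcd (congrArg Subtype.val (e.injective h))
    · have h := CfsgLib.SL2.card_PSL (F := K)
      rw [← Nat.card_congr e.toEquiv, Nat.card_eq_fintype_card (α := K)] at h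
      by_cases h2 : Fintype.card K = 2
      · rw [h2] at h; norm_num at h; omega
      have hg : Nat.gcd 2 (Fintype.card K - 1) = 2 := by
        obtain ⟨j, hj⟩ := hp.odd_of_ne_two h2
        rw [hj, Nat.add_sub_cancel]
        exact Nat.gcd_mul_right_right 1 2 ▸ by simp
      rw [hg, mul_comm] at h
      exact no_prime_line h hp h64 h128 hk
  · let eK : K ≃+* F := FiniteField.ringEquivOfCardEq (hK.trans hF.symm)
    exact ⟨e.trans (pslEquiv eK)⟩
  · exfalso
    haveI : CharP K 2 := CfsgLib.Suzuki.charP_two_of_card hK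
    haveI : CfsgLib.Suzuki.Param K m := ⟨hm, hK⟩
    let e' : N ≃* ↥(Cfsg.Sz K m) := e.trans (CfsgLib.Suzuki.lieEquiv K m).symm
    let P' : Sylow 2 ↥(Cfsg.Sz K m) := P.mapSurjective (f := e'.toMonoidHom) e'.surjective
    obtain ⟨hcard, -, -, hcen⟩ := Cfsg.Agent.S0330.result hm hK P'
    let ePU : (P : Subgroup N) ≃* S.U := (MulEquiv.subgroupCongr hPU).trans (Subgroup.subgroupOfEquivOfLe hUN)
    let eP : ↥(P' : Subgroup ↥(Cfsg.Sz K m)) ≃* S.U :=
      ((P : Subgroup N).equivMapOfInjective e'.toMonoidHom e'.injective).symm.trans ePU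
    rw [Nat.card_congr eP.toEquiv, S.card_U] at hcard
    rw [Nat.card_congr (Subgroup.centerCongr eP).toEquiv] at hcen
    have hle : (Subgroup.center S.U).map S.U.subtype ≤ S.fourV := by
      rintro _ ⟨u, hu, rfl⟩
      exact S.cent_U D u.2.1 fun w hw => (congrArg Subtype.val (Subgroup.mem_center_iff.1 hu ⟨w, hw⟩)).symm
    have h4 := Subgroup.card_le_of_le hle
    rw [Subgroup.card_map_of_injective S.U.subtype_injective, hcen, S.card_V] at h4
    have : 2 ^ 3 ≤ 2 ^ (2 * m + 1) := Nat.pow_le_pow_right (by norm_num) (by omega)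
    omega

end Setting

end CfsgLib.MinusFourSymFour
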