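import Cfsg.Agent.Lib.MinusFourSymFour.Frame

/-!
Facts inside the centraliser of the involution.
-/

set_option autoImplicit false
set_option linter.unusedSectionVars false
set_option synthInstance.maxSize 2000
set_option synthInstance.maxHeartbeats 100000

namespace CfsgLib.MinusFourSymFour

/-- a double transposition fixing zero -/
abbrev Dbl (σ : S5) : Prop := σ 0 = 0 ∧ σ * σ = 1 ∧ ∀ i, σ i = i → i = 0

/-- a transposition fixing zero -/
abbrev Tr (σ : S5) : Prop := σ 0 = 0 ∧ σ * σ = 1 ∧ σ ≠ 1 ∧ ∃ i, i ≠ 0 ∧ σ i = i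

theorem invol_cases : ∀ σ : S5, σ 0 = 0 → σ * σ = 1 → σ = 1 ∨ Dbl σ ∨ Tr σ := by decide +kernel

theorem dbl_ne_one {σ : S5} (h : Dbl σ) : σ ≠ 1 := fun e => by
  have := h.2.2 1 (by rw [e]; rfl)
  exact absurd this (by decide)

theorem dbl_image : ∀ σ : S5, Dbl σ → ∀ c, act5 σ c = c → ∃ d, c = ad d (act5 σ d) := by decide +kernel

theorem dbl_flip_vec : ∀ σ : S5, Dbl σ →
    ∃ c, act5 σ c = c ∧ q4 c = true ∧ b4 c (sv 0) = false := by decide +kernel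

theorem dbl_conj : ∀ σ τ : S5, Dbl σ → Dbl τ → ∃ g : S5, g 0 = 0 ∧ g * σ = τ * g := by decide +kernel

theorem tr_vec : ∀ σ : S5, Tr σ → ∃ d, q4 (ad d (act5 σ d)) = true := by decide +kernel

theorem tr_fix : ∀ σ : S5, Tr σ → ∃ c d, act5 σ c = c ∧ act5 σ d = d ∧
    q4 c = true ∧ q4 d = true ∧ q4 (ad c d) = true := by decide +kernel

namespace Setting

variable {G : Type*} [Group G] {z : G} {E : Subgroup G} {v : G → B4} {π : G → S5} {a : G}
  (S : Setting z E v π a)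
include S

theorem zH : z ∈ Cz z := mem_Cz.2 rfl

theorem aH : a ∈ Cz z := S.ecz a S.aE

theorem v_one : v 1 = z4 := by
  have e := S.v_mul 1 E.one_mem 1 E.one_mem
  rw [one_mul, (ad_facts.1 (v 1)).2.2] at e
  exact e

theorem v_z : v z = z4 := by
  refine b4_form.nondeg _ fun i => ?_
  obtain ⟨y, hy, hvy⟩ := S.v_surj (un i)
  have h := S.v_comm z S.zE y hy
  rw [hvy] at h
  rw [← mem_Cz.1 (S.ecz y hy)] at h
  refine S.zb_inj (c := false) ?_
  exact (mul_eq_left.1 h.symm).trans rfl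

theorem v_inv {x : G} (hx : x ∈ E) : v x⁻¹ = v x := by
  have e := S.v_mul _ (E.inv_mem hx) x hx
  rw [inv_mul_cancel, S.v_one] at e
  have h0 := ad_facts.1
  calc v x⁻¹ = ad (v x⁻¹) (ad (v x) (v x)) := by rw [(h0 (v x)).2.2, (h0 _).1]
    _ = ad (ad (v x⁻¹) (v x)) (v x) := by rw [ad_facts.2.2]
    _ = v x := by rw [← e, (h0 (v x)).2.1]

theorem v_mul_z {x : G} (hx : x ∈ E) : v (x * z) = v x := by
  rw [S.v_mul x hx z S.zE, S.v_z, (ad_facts.1 _).1]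

theorem mem_of_v {x y : G} (hx : x ∈ E) (hy : y ∈ E) (h : v x = v y) : x = y ∨ x = y * z := by
  have hk : v (y⁻¹ * x) = z4 := by
    rw [S.v_mul _ (E.inv_mem hy) x hx, S.v_inv hy, h, (ad_facts.1 _).2.2]
  rcases S.v_z4 _ (E.mul_mem (E.inv_mem hy) hx) hk with e | e
  · exact Or.inl (inv_mul_eq_one.1 e).symm
  · exact Or.inr (inv_mul_eq_iff_eq_mul.1 e)

theorem conj_z {h : G} (hh : h ∈ Cz z) : h * z * h⁻¹ = z := by
  rw [mem_Cz.1 hh, mul_inv_cancel_right]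

theorem conj_zb {h : G} (hh : h ∈ Cz z) (b : Bool) : h * zb z b * h⁻¹ = zb z b := by
  rw [S.zb_comm hh, mul_inv_cancel_right]

theorem conj_mul {g x y : G} : g * (x * y) * g⁻¹ = g * x * g⁻¹ * (g * y * g⁻¹) := by group

theorem q4_act {h : G} (hh : h ∈ Cz z) (c : B4) : q4 (act5 (π h) c) = q4 c := by
  obtain ⟨x, hx, rfl⟩ := S.v_surj c
  apply S.zb_inj
  rw [← S.p_act h hh x hx, ← S.v_sq _ (S.enorm h hh x hx), ← S.conj_mul, S.v_sq x hx, S.conj_zb hh]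

theorem b4_act {h : G} (hh : h ∈ Cz z) (c d : B4) : b4 (act5 (π h) c) (act5 (π h) d) = b4 c d := by
  have e1 := q4_ad (act5 (π h) c) (act5 (π h) d)
  rw [← act5_lin, S.q4_act hh, S.q4_act hh, S.q4_act hh, q4_ad] at e1
  exact (Bool.xor_right_inj.1 e1).symm

theorem p1 : π 1 = 1 := by
  have e := S.p_mul 1 (Cz z).one_mem 1 (Cz z).one_mem
  rw [one_mul] at e
  exact left_eq_mul.1 e

theorem p_inv {h : G} (hh : h ∈ Cz z) : π h⁻¹ = (π h)⁻¹ := by
  refine eq_inv_of_mul_eq_one_left ?_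
  rw [← S.p_mul _ ((Cz z).inv_mem hh) h hh, inv_mul_cancel, S.p1]

theorem p_conj {g h : G} (hg : g ∈ Cz z) (hh : h ∈ Cz z) : π (g * h * g⁻¹) = π g * π h * (π g)⁻¹ := by
  rw [S.p_mul _ ((Cz z).mul_mem hg hh) _ ((Cz z).inv_mem hg), S.p_mul g hg h hh, S.p_inv hg]

theorem p_E {x : G} (hx : x ∈ E) : π x = 1 := (S.p_one x (S.ecz x hx)).2 hx

theorem p_mulE {h x : G} (hh : h ∈ Cz z) (hx : x ∈ E) : π (h * x) = π h := by
  rw [S.p_mul h hh x (S.ecz x hx), S.p_E hx, mul_one]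

theorem p_z : π z = 1 := S.p_E S.zE

theorem p_a : π a = 1 := S.p_E S.aE

theorem a2 : a * a = 1 := by
  rw [S.v_sq a S.aE, S.va, (sv_facts.1 0).1]
  rfl

theorem a1 : a ≠ 1 := fun e => by
  have := S.va
  rw [e, S.v_one] at this
  exact (sv_facts.1 0).2 this.symm

theorem az_ne : a ≠ z := fun e => by
  have := S.va
  rw [e, S.v_z] at this
  exact (sv_facts.1 0).2 this.symm

theorem za : z * a = a * z := (mem_Cz.1 S.aH).symm

theorem conj_a {h : G} (hh : h ∈ Cz z) : h * a * h⁻¹ = a ∨ h * a * h⁻¹ = a * z := by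
  refine S.mem_of_v (S.enorm h hh a S.aE) S.aE ?_
  rw [S.p_act h hh a S.aE, S.va, act5_sv, S.p_zero h hh]

theorem anti {x y : G} (hx : x ∈ E) (hy : y ∈ E) (h : b4 (v x) (v y) = true) : x * y * x⁻¹ = y * z := by
  rw [S.v_comm x hx y hy, h]
  show y * x * z * x⁻¹ = y * z
  rw [mul_assoc y x z, mem_Cz.1 (S.ecz x hx)]
  group

theorem commE {x y : G} (hx : x ∈ E) (hy : y ∈ E) (h : b4 (v x) (v y) = false) : x * y = y * x := by
  rw [S.v_comm x hx y hy, h]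
  exact mul_one _

theorem bit_comm {x y : G} (hx : x ∈ E) (hy : y ∈ E) (h : x * y = y * x) : b4 (v x) (v y) = false := by
  have e := S.v_comm x hx y hy
  rw [h] at e
  exact S.zb_inj (c := false) ((mul_eq_left.1 e.symm).trans rfl)

theorem flip {x : G} (hx : x ∈ E) (h : v x ≠ z4) : ∃ y ∈ E, y * x * y⁻¹ = x * z := by
  have : ∀ c : B4, c ≠ z4 → ∃ d, b4 d c = true := by decide +kernel
  obtain ⟨d, hd⟩ := this _ h
  obtain ⟨y, hy, rfl⟩ := S.v_surj d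
  exact ⟨y, hy, S.anti hy hx hd⟩

theorem E_pow4 {x : G} (hx : x ∈ E) : x ^ 4 = 1 := by
  rw [show x ^ 4 = x * x * (x * x) by simp only [pow_succ, pow_zero, one_mul, mul_assoc], S.v_sq x hx]
  exact S.zb_sq _

theorem pow8 {h : G} (hh : h ∈ Cz z) (h2 : π h * π h = 1) : h ^ 8 = 1 := by
  rw [show h ^ 8 = (h * h) ^ 4 by rw [← pow_two, ← pow_mul]]
  exact S.E_pow4 ((S.p_one _ ((Cz z).mul_mem hh hh)).1 (by rw [S.p_mul h hh h hh, h2]))

/-- the four group on the two-element centre -/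
def inV (_S : Setting z E v π a) (x : G) : Prop := x = 1 ∨ x = z ∨ x = a ∨ x = a * z

theorem inV_of_v {x : G} (hx : x ∈ E) (h : v x = z4 ∨ v x = sv 0) : S.inV x := by
  rcases h with h | h
  · rcases S.v_z4 x hx h with e | e
    exacts [Or.inl e, Or.inr (Or.inl e)]
  · rcases S.mem_of_v hx S.aE (h.trans S.va.symm) with e | e
    exacts [Or.inr (Or.inr (Or.inl e)), Or.inr (Or.inr (Or.inr e))]

theorem inV_mem {x : G} (h : S.inV x) : x ∈ E := by
  rcases h with rfl | rfl | rfl | rfl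
  exacts [E.one_mem, S.zE, S.aE, E.mul_mem S.aE S.zE]

theorem inV_v {x : G} (h : S.inV x) : v x = z4 ∨ v x = sv 0 := by
  rcases h with rfl | rfl | rfl | rfl
  exacts [Or.inl S.v_one, Or.inl S.v_z, Or.inr S.va, Or.inr ((S.v_mul_z S.aE).trans S.va)]

theorem invol_E {x : G} (hx : x ∈ E) (h2 : x * x = 1) : x = 1 ∨ x = z ∨ ∃ i, v x = sv i := by
  have hq : q4 (v x) = false := S.zb_inj (c := false) (by rw [← S.v_sq x hx, h2]; rfl)
  rcases sv_facts.2.2 _ hq with h | h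
  · rcases S.v_z4 x hx h with e | e
    exacts [Or.inl e, Or.inr (Or.inl e)]
  · exact Or.inr (Or.inr h)

theorem p_invol {t : G} (ht : t ∈ Cz z) (t2 : t * t = 1) : π t * π t = 1 := by
  rw [← S.p_mul t ht t ht, t2, S.p1]

theorem twist {t : G} (ht : t ∈ Cz z) (t2 : t * t = 1) {f : G} (hf : f ∈ E) {c : B4}
    (hc : v f = ad c (act5 (π t) c)) : t * f * t⁻¹ = f * zb z (q4 (v f)) := by
  obtain ⟨x, hx, hvx⟩ := S.v_surj c
  have ti : t⁻¹ = t := inv_eq_of_mul_eq_one_right t2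
  set y := t * x * t⁻¹ with hy
  have hyE : y ∈ E := S.enorm t ht x hx
  have hvy : v y = act5 (π t) c := by rw [hy, S.p_act t ht x hx, hvx]
  have hty : t * y * t⁻¹ = x := by
    rw [hy, ti, show t * (t * x * t) * t = t * t * x * (t * t) by group, t2, one_mul, mul_one]
  have hq : q4 (v f) = b4 (act5 (π t) c) c := by
    rw [hc, q4_ad, S.q4_act ht, Bool.xor_self, Bool.false_xor, b4_facts.1]
  have key : t * (x * y) * t⁻¹ = x * y * zb z (q4 (v f)) := by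
    rw [S.conj_mul, hty, ← hy, hq, S.v_comm y hyE x hx, hvy, hvx]
  rcases S.mem_of_v hf (E.mul_mem hx hyE) (by rw [hc, S.v_mul x hx y hyE, hvx, hvy]) with e | e
  · rw [e] at key ⊢; exact key
  · rw [e] at key ⊢
    rw [S.conj_mul, key, S.conj_z ht, mul_assoc, ← S.zb_comm S.zH, ← mul_assoc]

theorem coset_conj {t : G} (ht : t ∈ Cz z) (t2 : t * t = 1) {y : G} (hy : y ∈ E) (hyt : y * t * y⁻¹ = t * z)
    {e : G} (he : e ∈ E) {c : B4} (hc : v e = ad c (act5 (π t) c)) :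
    ∃ x ∈ E, x * t * x⁻¹ = t * e := by
  obtain ⟨x, hx, hvx⟩ := S.v_surj c
  have hd : t⁻¹ * x * t * x⁻¹ ∈ E := by
    refine E.mul_mem ?_ (E.inv_mem hx)
    have := S.enorm t⁻¹ ((Cz z).inv_mem ht) x hx
    rwa [inv_inv] at this
  have hvd : v (t⁻¹ * x * t * x⁻¹) = v e := by
    have ti : t⁻¹ = t := inv_eq_of_mul_eq_one_right t2
    have h1 : t * x * t ∈ E := by have := S.enorm t ht x hx; rwa [ti] at this
    rw [ti, S.v_mul _ h1 _ (E.inv_mem hx), S.v_inv hx, hc, hvx]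
    have := S.p_act t ht x hx
    rw [ti] at this
    rw [this, hvx, ad_facts.2.1]
  have hxt : x * t * x⁻¹ = t * (t⁻¹ * x * t * x⁻¹) := by group
  rcases S.mem_of_v hd he hvd with h | h
  · exact ⟨x, hx, by rw [hxt, h]⟩
  · refine ⟨x * y, E.mul_mem hx hy, ?_⟩
    rw [show x * y * t * (x * y)⁻¹ = x * (y * t * y⁻¹) * x⁻¹ by group, hyt, S.conj_mul, hxt, h,
      S.conj_z (S.ecz x hx), mul_assoc t, mul_assoc e, S.z2, mul_one]

section dbl

variable {t : G} (ht : t ∈ Cz z) (t2 : t * t = 1) (hd : Dbl (π t))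
include ht t2 hd

theorem dbl_twist {x : G} (hx : x ∈ E) (hfix : act5 (π t) (v x) = v x) :
    t * x * t⁻¹ = x * zb z (q4 (v x)) := by
  obtain ⟨d, hd'⟩ := dbl_image _ hd _ hfix
  exact S.twist ht t2 hx hd'

theorem dbl_a : t * a = a * t := by
  have h := S.dbl_twist ht t2 hd S.aE (by rw [S.va, act5_sv, hd.1])
  rw [S.va, (sv_facts.1 0).1] at h
  exact mul_inv_eq_iff_eq_mul.1 (h.trans (mul_one a))

theorem dbl_flip : ∃ y ∈ E, y * a = a * y ∧ y * t * y⁻¹ = t * z := by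
  obtain ⟨c, hc, hq, hb⟩ := dbl_flip_vec _ hd
  obtain ⟨y, hy, rfl⟩ := S.v_surj c
  refine ⟨y, hy, S.commE hy S.aE (by rw [S.va]; exact hb), ?_⟩
  have h := S.dbl_twist ht t2 hd hy hc
  rw [hq] at h
  change t * y * t⁻¹ = y * z at h
  have ti : t⁻¹ = t := inv_eq_of_mul_eq_one_right t2
  calc y * t * y⁻¹ = t * (t * y * t⁻¹) * y⁻¹ := by
        rw [ti, show t * (t * y * t) * y⁻¹ = t * t * y * t * y⁻¹ by group, t2, one_mul]
    _ = t * (z * y) * y⁻¹ := by rw [h, mem_Cz.1 (S.ecz y hy)]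
    _ = t * z := by group

theorem dbl_cent {x : G} (hx : x ∈ E) (hc : t * x = x * t) : S.inV x := by
  have h0 : t * x * t⁻¹ = x := mul_inv_eq_iff_eq_mul.2 hc
  have hfix : act5 (π t) (v x) = v x := by rw [← S.p_act t ht x hx, h0]
  have h := S.dbl_twist ht t2 hd hx hfix
  rw [h0] at h
  have hq : q4 (v x) = false := S.zb_inj (c := false) (mul_eq_left.1 h.symm)
  refine S.inV_of_v hx ?_
  rcases sv_facts.2.2 _ hq with e | ⟨i, e⟩
  · exact Or.inl e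
  · rw [e, act5_sv] at hfix
    rw [hd.2.2 i (sv_facts.2.1 _ _ hfix)] at e
    exact Or.inr e

theorem dbl_coset {e : G} (he : e ∈ E) (h2 : t * e * (t * e) = 1) : ∃ x ∈ E, x * t * x⁻¹ = t * e := by
  have ti : t⁻¹ = t := inv_eq_of_mul_eq_one_right t2
  have h : t * e * t⁻¹ = e⁻¹ := by
    rw [ti]
    exact eq_inv_of_mul_eq_one_left (by rw [← h2]; group)
  have hfix : act5 (π t) (v e) = v e := by rw [← S.p_act t ht e he, h, S.v_inv he]
  obtain ⟨d, hd'⟩ := dbl_image _ hd _ hfix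
  obtain ⟨y, hy, -, hyt⟩ := S.dbl_flip ht t2 hd
  exact S.coset_conj ht t2 hy hyt he hd'

end dbl

theorem dbl_conj' {t t' : G} (ht : t ∈ Cz z) (t2 : t * t = 1) (hd : Dbl (π t)) (ht' : t' ∈ Cz z)
    (t2' : t' * t' = 1) (hd' : Dbl (π t')) : ∃ h ∈ Cz z, h * t * h⁻¹ = t' := by
  obtain ⟨σ, hσ0, hσ⟩ := dbl_conj _ _ hd hd'
  obtain ⟨g, hg, hgσ⟩ := S.p_surj σ hσ0
  set u := g * t * g⁻¹
  have hu : u ∈ Cz z := (Cz z).mul_mem ((Cz z).mul_mem hg ht) ((Cz z).inv_mem hg)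
  have u2 : u * u = 1 := by rw [← S.conj_mul, t2]; group
  have hpu : π u = π t' := by rw [S.p_conj hg ht, hgσ, hσ, mul_inv_cancel_right]
  have he : u⁻¹ * t' ∈ E := (S.p_one _ ((Cz z).mul_mem ((Cz z).inv_mem hu) ht')).1 (by
    rw [S.p_mul _ ((Cz z).inv_mem hu) t' ht', S.p_inv hu, hpu, inv_mul_cancel])
  obtain ⟨x, hx, hxu⟩ := S.dbl_coset hu u2 (hpu ▸ hd') he (by rw [mul_inv_cancel_left]; exact t2')
  refine ⟨x * g, (Cz z).mul_mem (S.ecz x hx) hg, ?_⟩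
  rw [show x * g * t * (x * g)⁻¹ = x * u * x⁻¹ by simp only [u]; group, hxu, mul_inv_cancel_left]

section tr

variable {t : G} (ht : t ∈ Cz z) (t2 : t * t = 1) (hd : Tr (π t))
include ht t2 hd

theorem tr_flip : ∃ x ∈ E, t * x * t⁻¹ = x * z := by
  obtain ⟨d, hq⟩ := tr_vec _ hd
  obtain ⟨x, hx, hvx⟩ := S.v_surj (ad d (act5 (π t) d))
  refine ⟨x, hx, ?_⟩
  have h := S.twist ht t2 hx hvx
  rw [hvx, hq] at h
  exact h

theorem tr_four : ∃ f ∈ E, f * f = z ∧ f * t = t * f := by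
  obtain ⟨c, d, hc, hd', qc, qd, qcd⟩ := tr_fix _ hd
  obtain ⟨x, hx, rfl⟩ := S.v_surj c
  obtain ⟨y, hy, rfl⟩ := S.v_surj d
  have sq : ∀ f ∈ E, q4 (v f) = true → f * f = z := fun f hf h => by rw [S.v_sq f hf, h]; rfl
  have two : ∀ f ∈ E, act5 (π t) (v f) = v f → t * f * t⁻¹ = f ∨ t * f * t⁻¹ = f * z := fun f hf h =>
    S.mem_of_v (S.enorm t ht f hf) hf (by rw [S.p_act t ht f hf, h])
  have cm : ∀ f : G, t * f * t⁻¹ = f → f * t = t * f := fun f h => (mul_inv_eq_iff_eq_mul.1 h).symm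
  rcases two x hx hc with h | h
  · exact ⟨x, hx, sq x hx qc, cm x h⟩
  rcases two y hy hd' with h' | h'
  · exact ⟨y, hy, sq y hy qd, cm y h'⟩
  refine ⟨x * y, E.mul_mem hx hy, sq _ (E.mul_mem hx hy) (by rw [S.v_mul x hx y hy, qcd]), cm _ ?_⟩
  rw [S.conj_mul, h, h', show x * z * (y * z) = x * (z * y) * z by group, ← mem_Cz.1 (S.ecz y hy),
    show x * (y * z) * z = x * y * (z * z) by group, S.z2, mul_one]

end tr

/-- every permutation fixing zero is induced by an element centralising `a` -/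
theorem lift_a {σ : S5} (h : σ 0 = 0) : ∃ g ∈ Cz z, g * a = a * g ∧ π g = σ := by
  obtain ⟨g, hg, rfl⟩ := S.p_surj σ h
  rcases S.conj_a hg with e | e
  · exact ⟨g, hg, mul_inv_eq_iff_eq_mul.1 e, rfl⟩
  · obtain ⟨y, hy, hya⟩ := S.flip S.aE (by rw [S.va]; exact (sv_facts.1 0).2)
    refine ⟨g * y, (Cz z).mul_mem hg (S.ecz y hy), mul_inv_eq_iff_eq_mul.1 ?_, S.p_mulE hg hy⟩
    rw [show g * y * a * (g * y)⁻¹ = g * (y * a * y⁻¹) * g⁻¹ by group, hya, S.conj_mul, e, S.conj_z hg,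
      mul_assoc, S.z2, mul_one]

end Setting

end CfsgLib.MinusFourSymFour
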