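import Cfsg.Agent.S0813
import Cfsg.Agent.Lib.AutPSL.BalanceField
import Cfsg.Agent.Lib.Classical.Transvection
import Cfsg.Agent.Lib.Classical.Card

/-!
The automorphisms of the projective general linear group of degree three are those of the special one.
-/

set_option autoImplicit false
set_option linter.unusedSectionVars false
set_option linter.style.haveILetI false

namespace CfsgLib.MinusFourSymFour

open Matrix
open scoped MatrixGroups

variable {F : Type*} [Field F] [Fintype F]

theorem mulAut_psl_pgl :
    Nonempty (MulAut (Matrix.ProjectiveSpecialLinearGroup (Fin 3) F) ≃*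
      MulAut (GL (Fin 3) F ⧸ Subgroup.center (GL (Fin 3) F))) := by
  obtain ⟨p, hc⟩ := CharP.exists F
  haveI := hc
  haveI : Fact p.Prime := ⟨CharP.char_is_prime F p⟩
  set J := (CfsgLib.AutPSL.delta : GL (Fin 3) F →* MulAut PSL(3, F)).range with hJ
  haveI hJn : J.Normal := by
    rw [hJ, ← CfsgLib.AutPSL.ker_component (F := F) p (le_refl 3)]
    infer_instance
  let eP : (GL (Fin 3) F ⧸ Subgroup.center (GL (Fin 3) F)) ≃* J :=
    (MonoidHom.ofInjective (f := (CfsgLib.AutPSL.deltaP : Matrix.ProjGenLinGroup (Fin 3) F →* _))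
      (CfsgLib.AutPSL.deltaP_injective p (by norm_num))).trans
      (MulEquiv.subgroupCongr CfsgLib.AutPSL.range_deltaP)
  have hinn : ∀ x : PSL(3, F), MulAut.conj x ∈ J := by
    intro x
    obtain ⟨s, rfl⟩ := CfsgLib.AutPSL.mkP_surjective x
    exact ⟨Matrix.SpecialLinearGroup.toGL s, CfsgLib.AutPSL.delta_toGL s⟩
  let c : PSL(3, F) →* J := MulAut.conj.codRestrict J hinn
  have hc1 : ∀ x, c x = 1 → x = 1 := fun x h =>
    CfsgLib.AutPSL.LocalBal.conj_eq_one (p := p) (by norm_num) x (congrArg Subtype.val h)
  have hcinj : Function.Injective c := (injective_iff_map_eq_one c).2 hc1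
  have hconj : ∀ (α : MulAut PSL(3, F)) (x : PSL(3, F)), α * MulAut.conj x * α⁻¹ = MulAut.conj (α x) :=
    fun α x => MulEquiv.ext fun y => by
      simp [MulAut.conj_apply, map_mul, map_inv]
  have hcomm : commutator J = c.range := by
    refine le_antisymm ?_ ?_
    · rw [commutator_def, Subgroup.commutator_le]
      rintro ⟨_, g, rfl⟩ - ⟨_, h, rfl⟩ -
      obtain ⟨x, hx⟩ := CfsgLib.AutPSL.mem_range_conj_of_delta (g * h * g⁻¹ * h⁻¹) (1 : Fˣ) (by
        rw [map_mul, map_mul, map_mul, map_inv, map_inv, one_pow, mul_comm (GeneralLinearGroup.det g) _,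
          mul_inv_cancel_right, mul_inv_cancel])
      refine ⟨x, Subtype.ext ?_⟩
      show MulAut.conj x = _
      rw [hx, map_mul, map_mul, map_mul, map_inv, map_inv]
      rfl
    · rw [MonoidHom.range_eq_map, ← CfsgLib.Classical.commutator_PSL_eq_top (Or.inl (by simp)),
        commutator_def, Subgroup.map_commutator, commutator_def]
      exact Subgroup.commutator_mono le_top le_top
  let Ψ : MulAut PSL(3, F) →* MulAut J := MulAut.conjNormal
  have hΨ : Function.Bijective Ψ := by
    constructor
    · refine (injective_iff_map_eq_one Ψ).2 fun α h => MulEquiv.ext fun x => ?_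
      have h1 := congrArg (fun f : MulAut J => ((f (c x) : J) : MulAut PSL(3, F))) h
      simp only [Ψ, MulAut.conjNormal_apply, MulAut.one_apply] at h1
      change α * MulAut.conj x * α⁻¹ = MulAut.conj x at h1
      rw [hconj] at h1
      show α x = x
      exact hcinj (Subtype.ext h1)
    · intro θ
      have hmem : ∀ x, ∃ y, c y = θ (c x) := by
        intro x
        have h1 : θ (c x) ∈ (commutator J).map θ.toMonoidHom := ⟨c x, by rw [hcomm]; exact ⟨x, rfl⟩, rfl⟩
        rw [commutator_def, Subgroup.map_commutator, Subgroup.map_top_of_surjective _ θ.surjective,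
          ← commutator_def, hcomm] at h1
        exact h1
      choose f hf using hmem
      let F' : PSL(3, F) →* PSL(3, F) :=
        { toFun := f
          map_one' := hcinj (by rw [hf, map_one, map_one])
          map_mul' := fun x y => hcinj (by rw [hf, map_mul, map_mul, map_mul, hf, hf]) }
      have hF' : Function.Bijective F' := by
        have hinj : Function.Injective F' := fun x y h => hcinj (θ.injective (by
          rw [← hf, ← hf]; exact congrArg c h))
        exact ⟨hinj, Finite.injective_iff_surjective.1 hinj⟩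
      let α : MulAut PSL(3, F) := MulEquiv.ofBijective F' hF'
      refine ⟨α, MulEquiv.ext fun j => Subtype.ext (MulEquiv.ext fun x => ?_)⟩
      obtain ⟨x', rfl⟩ := α.surjective x
      show (α * (j : MulAut PSL(3, F)) * α⁻¹) (α x') = (θ j : MulAut PSL(3, F)) (α x')
      rw [MulAut.mul_apply, MulAut.mul_apply, MulAut.inv_def, MulEquiv.symm_apply_apply]
      have h1 : j * c x' * j⁻¹ = c ((j : MulAut PSL(3, F)) x') := Subtype.ext (hconj _ _)
      have h2 := congrArg θ h1
      rw [map_mul, map_mul, map_inv, ← hf, ← hf] at h2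
      have h3 : c ((θ j : MulAut PSL(3, F)) (α x')) = c (α ((j : MulAut PSL(3, F)) x')) := by
        refine Eq.trans ?_ h2
        exact (Subtype.ext (hconj _ _)).symm
      exact (hcinj h3).symm
  exact ⟨(MulEquiv.ofBijective Ψ hΨ).trans (MulAut.congr eP).symm⟩

/-- the order of the automorphism group -/
theorem card_mulAut_psl_four (hF : Fintype.card F = 4) :
    Nat.card (MulAut (Matrix.ProjectiveSpecialLinearGroup (Fin 3) F)) = 241920 := by
  haveI : Fact (Nat.Prime 2) := ⟨Nat.prime_two⟩
  rw [Cfsg.Agent.S0813.result 2 2 (by norm_num) (by rw [hF]; norm_num) 3 (by norm_num) (by norm_num)]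
  rw [CfsgLib.Classical.card_PGL_eq_card_SL]
  have h := CfsgLib.Classical.sub_one_mul_card_SL (F := F) (n := 3) (by norm_num)
  rw [hF, Fin.prod_univ_three] at h
  norm_num at h
  simp
  omega

end CfsgLib.MinusFourSymFour
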