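import Cfsg.Agent.Lib.MinusFourSymFour.Identify
import Cfsg.Agent.Lib.MinusFourSymFour.PGLAut
import Cfsg.Agent.Lib.PSolvable.Omega
import Cfsg.Agent.S4337
import Cfsg.Prelude.Def_CaseTheorems

/-!
An involution centraliser which is an extension of the extraspecial group of minus type of order thirty-two
by the symmetric group of degree four.
-/

set_option autoImplicit false
set_option linter.unusedSectionVars false
set_option linter.style.haveILetI false
set_option synthInstance.maxSize 2000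
set_option synthInstance.maxHeartbeats 100000

namespace CfsgLib.MinusFourSymFour

variable {G : Type*} [Group G]

/-- the basic hypotheses from the statement -/
theorem base_of_hyp [Finite G] (z : G) (hz : orderOf z = 2) (E : Subgroup (Cz z)) [hEn : E.Normal]
    (hE : Cfsg.IsExtraspecial 2 E) (hE32 : Nat.card E = 32)
    (hEminus : ∀ A : Subgroup E, Cfsg.IsElementaryAbelian 2 A → Nat.card A ≠ 8)
    (hCE : Subgroup.centralizer (E : Set (Cz z)) ≤ E)
    (e : (Cz z ⧸ E) ≃* Equiv.Perm (Fin 4)) :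
    Base z (E.map (Cz z).subtype) ∧ Group.IsSolvable (Cz z) := by
  haveI : Fact (Nat.Prime 2) := ⟨Nat.prime_two⟩
  obtain ⟨⟨hp, hfr, hder⟩, hcard2⟩ := hE
  have z2 : z * z = 1 := by rw [← pow_two, ← hz, pow_orderOf_eq_one]
  have z1 : z ≠ 1 := fun h => by rw [h, orderOf_one] at hz; omega
  let zC : Cz z := ⟨z, mem_Cz.2 rfl⟩
  have hzE : zC ∈ E := hCE (Subgroup.mem_centralizer_iff.2 fun q _ => Subtype.ext (mem_Cz.1 q.2))
  let zO : E := ⟨zC, hzE⟩
  have hzc : zO ∈ Subgroup.center E := Subgroup.mem_center_iff.2 fun g =>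
    Subtype.ext (Subtype.ext (mem_Cz.1 (g : Cz z).2))
  have hcases : ∀ q : E, q ∈ Subgroup.center E → q = 1 ∨ q = zO := by
    intro q hq
    by_cases h1 : q = 1
    · exact Or.inl h1
    refine Or.inr ?_
    obtain ⟨y, -, huniq⟩ := (Nat.card_eq_two_iff' (1 : Subgroup.center E)).1 hcard2
    have a := huniq ⟨q, hq⟩ fun h => h1 (congrArg Subtype.val h)
    have b := huniq ⟨zO, hzc⟩ fun h => z1
      (congrArg (fun t : Subgroup.center E => (((t : E) : Cz z) : G)) h)
    exact congrArg Subtype.val (a.trans b.symm)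
  set E0 := E.map (Cz z).subtype with hE0
  have lift : ∀ x ∈ E0, ∃ q : E, ((q : Cz z) : G) = x := by
    rintro _ ⟨c, hc, rfl⟩; exact ⟨⟨c, hc⟩, rfl⟩
  have hmem : ∀ q : E, ((q : Cz z) : G) ∈ E0 := fun q => ⟨q, q.2, rfl⟩
  refine ⟨⟨z1, z2, ⟨zC, hzE, rfl⟩, fun x hx => (Subgroup.map_subtype_le _) hx, ?_, ?_, ?_, ?_, ?_, ?_, ?_, ?_⟩, ?_⟩
  · intro h hh x hx
    obtain ⟨q, rfl⟩ := lift x hx
    exact ⟨⟨h, hh⟩ * q * ⟨h, hh⟩⁻¹, hEn.conj_mem _ q.2 _, rfl⟩
  · intro a ha b hb
    obtain ⟨a, rfl⟩ := lift a ha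
    obtain ⟨b, rfl⟩ := lift b hb
    have hc : a * b * a⁻¹ * b⁻¹ ∈ Subgroup.center E := by
      rw [← hder, commutator_def]
      exact Subgroup.commutator_mem_commutator (Subgroup.mem_top a) (Subgroup.mem_top b)
    rcases hcases _ hc with h | h
    · left
      rw [mul_inv_eq_one, mul_inv_eq_iff_eq_mul] at h
      exact congrArg (fun t : E => ((t : Cz z) : G)) h
    · right
      rw [mul_inv_eq_iff_eq_mul, mul_inv_eq_iff_eq_mul] at h
      have h' : ((a : Cz z) : G) * b = z * b * a := congrArg (fun t : E => ((t : Cz z) : G)) h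
      rw [h', mul_assoc]
      exact (mem_Cz.1 ((Cz z).mul_mem (b : Cz z).2 (a : Cz z).2)).symm
  · intro a ha
    obtain ⟨a, rfl⟩ := lift a ha
    have hc : a * a ∈ Subgroup.center E := by
      rw [← hfr, ← pow_two]
      exact (CfsgLib.PSolvable.commutator_le_frattini hp).2 a
    rcases hcases _ hc with h | h
    · exact Or.inl (congrArg (fun t : E => ((t : Cz z) : G)) h)
    · exact Or.inr (congrArg (fun t : E => ((t : Cz z) : G)) h)
  · intro a ha hall
    obtain ⟨a, rfl⟩ := lift a ha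
    have hc : a ∈ Subgroup.center E := Subgroup.mem_center_iff.2 fun b =>
      Subtype.ext (Subtype.ext (hall _ (hmem b)).symm)
    rcases hcases _ hc with h | h
    · exact Or.inl (congrArg (fun t : E => ((t : Cz z) : G)) h)
    · exact Or.inr (congrArg (fun t : E => ((t : Cz z) : G)) h)
  · rw [hE0, Subgroup.card_map_of_injective (Cz z).subtype_injective, hE32]
  · intro A hA hA8 hA2
    have hAC : A ≤ Cz z := hA.trans (Subgroup.map_subtype_le _)
    have hAE : A.subgroupOf (Cz z) ≤ E := fun x hx => by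
      obtain ⟨q, hq⟩ := lift _ (hA (Subgroup.mem_subgroupOf.1 hx))
      exact Subtype.ext hq ▸ q.2
    refine hEminus ((A.subgroupOf (Cz z)).subgroupOf E) ⟨⟨⟨fun p q => ?_⟩⟩, fun p hp => ?_⟩ ?_
    · exact Subtype.ext (Subtype.ext (Subtype.ext (four_abelian (W := A) hA2 p.2 q.2)))
    · exact Subtype.ext (Subtype.ext (by rw [pow_two]; exact hA2 _ hp))
    · rw [Nat.card_congr (Subgroup.subgroupOfEquivOfLe hAE).toEquiv,
        Nat.card_congr (Subgroup.subgroupOfEquivOfLe hAC).toEquiv, hA8]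
  · intro h hh hc
    have : (⟨h, hh⟩ : Cz z) ∈ E := hCE (Subgroup.mem_centralizer_iff.2 fun q hq =>
      Subtype.ext (hc _ (hmem ⟨q, hq⟩)).symm)
    exact hmem ⟨_, this⟩
  · rw [Subgroup.card_eq_card_quotient_mul_card_subgroup E, Nat.card_congr e.toEquiv, hE32, Nat.card_perm,
      Nat.card_fin]
    rfl
  · haveI := hp.isNilpotent
    haveI := CfsgLib.SmallPerm.isSolvable_perm_fin_four
    haveI : Group.IsSolvable (Cz z ⧸ E) :=
      Group.isSolvable_of_isSolvable_injective (f := e.toMonoidHom) e.injective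
    exact Group.isSolvable_of_ker_le_range E.subtype (QuotientGroup.mk' E)
      (by rw [QuotientGroup.ker_mk', Subgroup.range_subtype])

/-- the odd core is inverted by `z` -/
theorem core_inverted [Finite G] {z : G} {E : Subgroup G} (B : Base z E) :
    (∀ o ∈ Cfsg.oddCore G, o ∈ Cz z → o = 1) ∧ (∀ o ∈ Cfsg.oddCore G, z * o * z⁻¹ = o⁻¹) := by
  haveI hn := CfsgLib.Transfer.pPrimeCore_normal 2 G
  have hodd : ∀ o ∈ Cfsg.oddCore G, Odd (orderOf o) := fun o ho =>
    CfsgLib.ZStar.odd_orderOf_of_mem_odd CfsgLib.ZStar.odd_card_core ho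
  have hfix : ∀ o ∈ Cfsg.oddCore G, o ∈ Cz z → o = 1 := by
    intro o ho hoz
    have hcE : ∀ x ∈ E, o * x = x * o := by
      intro x hx
      have h1 : x * o * x⁻¹ * o⁻¹ ∈ Cfsg.oddCore G :=
        (Cfsg.oddCore G).mul_mem (hn.conj_mem o ho x) ((Cfsg.oddCore G).inv_mem ho)
      have h2 : x * o * x⁻¹ * o⁻¹ ∈ E := by
        rw [show x * o * x⁻¹ * o⁻¹ = x * (o * x⁻¹ * o⁻¹) by group]
        exact E.mul_mem hx (B.enorm o hoz _ (E.inv_mem hx))
      have h4 : ∀ w ∈ E, w ^ 2 ^ 2 = 1 := fun w hw => by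
        show w ^ 4 = 1
        rw [show w ^ 4 = (w * w) * (w * w) by simp only [pow_succ, pow_zero, one_mul, mul_assoc]]
        rcases B.sq w hw with h | h <;> rw [h]
        · rw [one_mul]
        · exact B.z2
      have h := CfsgLib.CIT.eq_one_of_odd_two (k := 2) (hodd _ h1) (h4 _ h2)
      rw [mul_inv_eq_one, mul_inv_eq_iff_eq_mul] at h
      exact h.symm
    have hoE := B.cE o hoz hcE
    refine CfsgLib.CIT.eq_one_of_odd_two (k := 2) (hodd o ho) ?_
    show o ^ 4 = 1
    rw [show o ^ 4 = (o * o) * (o * o) by simp only [pow_succ, pow_zero, one_mul, mul_assoc]]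
    rcases B.sq o hoE with h | h <;> rw [h]
    · rw [one_mul]
    · exact B.z2
  refine ⟨hfix, ?_⟩
  let β : Cfsg.oddCore G →* Cfsg.oddCore G :=
    { toFun := fun x => ⟨z * x * z⁻¹, hn.conj_mem x x.2 z⟩
      map_one' := Subtype.ext (by simp)
      map_mul' := fun x y => Subtype.ext (by simp [mul_assoc]) }
  have hfpf : MonoidHom.FixedPointFree β := fun x hx => by
    have e : z * (x : G) * z⁻¹ = x := congrArg Subtype.val hx
    exact Subtype.ext (hfix x x.2 (mem_Cz.2 (mul_inv_eq_iff_eq_mul.1 e).symm))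
  have h2 : Function.Involutive β := fun x => Subtype.ext (by
    show z * (z * (x : G) * z⁻¹) * z⁻¹ = x
    rw [B.zinv, show z * (z * (x : G) * z) * z = z * z * x * (z * z) by group, B.z2]
    group)
  exact fun o ho => congrArg Subtype.val
    (congrFun (MonoidHom.FixedPointFree.coe_eq_inv_of_involutive (φ := β) hfpf h2) ⟨o, ho⟩)

theorem core_comm [Finite G] {z : G} {E : Subgroup G} (B : Base z E) :
    IsMulCommutative ↥(Cfsg.oddCore G) := by
  obtain ⟨-, hinv⟩ := core_inverted B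
  refine ⟨⟨fun x w => Subtype.ext ?_⟩⟩
  show (x : G) * w = w * x
  have e := hinv _ ((Cfsg.oddCore G).mul_mem x.2 w.2)
  rw [show z * ((x : G) * w) * z⁻¹ = z * x * z⁻¹ * (z * w * z⁻¹) by group, hinv _ x.2, hinv _ w.2,
    ← mul_inv_rev] at e
  exact (inv_injective e).symm

/-- a non-solvable group has a conjugate of `z` different from `z` commuting with it -/
theorem exists_conj_commuting [Finite G] {z : G} {E : Subgroup G} (B : Base z E)
    (hsolv : Group.IsSolvable (Cz z)) (hns : ¬ Group.IsSolvable G) :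
    ∃ t, IsConj z t ∧ t ∈ Cz z ∧ t ≠ z := by
  by_contra hcon
  push Not at hcon
  apply hns
  haveI hn := CfsgLib.Transfer.pPrimeCore_normal 2 G
  have hiso : Cfsg.IsIsolatedInvolution z :=
    ⟨orderOf_eq_prime (by rw [pow_two, B.z2]) B.z1, fun g hc =>
      hcon _ (isConj_iff.2 ⟨g, rfl⟩) (mem_Cz.2 hc.eq.symm)⟩
  have hco := CfsgLib.ZStar.commutatorsInCore_of_isolated hiso
  obtain ⟨-, hinv⟩ := core_inverted B
  haveI : Group.IsSolvable ↥(Cfsg.oddCore G) := by
    haveI := core_comm B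
    exact Group.isSolvable_of_comm fun a b => mul_comm' a b
  haveI := hsolv
  have hsurj : Function.Surjective ((QuotientGroup.mk' (Cfsg.oddCore G)).comp (Cz z).subtype) := by
    intro y
    obtain ⟨g, rfl⟩ := QuotientGroup.mk'_surjective (Cfsg.oddCore G) y
    have hw := hco g
    set w := z * g * z⁻¹ * g⁻¹ with hwdef
    obtain ⟨k, hk⟩ := CfsgLib.ZStar.exists_sqrt
      (CfsgLib.ZStar.odd_orderOf_of_mem_odd CfsgLib.ZStar.odd_card_core hw)
    have hh : w ^ k * g ∈ Cz z := by
      rw [mem_Cz, eq_comm, ← mul_inv_eq_iff_eq_mul]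
      calc z * (w ^ k * g) * z⁻¹ = z * w ^ k * z⁻¹ * (w * g) := by rw [hwdef]; group
        _ = (w ^ k)⁻¹ * (w ^ k * w ^ k * g) := by rw [hinv _ ((Cfsg.oddCore G).pow_mem hw k), hk]
        _ = w ^ k * g := by group
    refine ⟨⟨w ^ k * g, hh⟩, ?_⟩
    show QuotientGroup.mk' _ (w ^ k * g) = _
    rw [map_mul, show QuotientGroup.mk' (Cfsg.oddCore G) (w ^ k) = 1 from
      (QuotientGroup.eq_one_iff _).2 ((Cfsg.oddCore G).pow_mem hw k), one_mul]
  haveI : Group.IsSolvable (G ⧸ Cfsg.oddCore G) := Group.isSolvable_of_surjective hsurj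
  exact Group.isSolvable_of_ker_le_range (Cfsg.oddCore G).subtype (QuotientGroup.mk' (Cfsg.oddCore G))
    (by rw [QuotientGroup.ker_mk', Subgroup.range_subtype])

/-- the non-solvable case -/
theorem main [Finite G] {z : G} {E : Subgroup G} (B : Base z E) (hsolv : Group.IsSolvable (Cz z))
    (hns : ¬ Group.IsSolvable G) {F : Type*} [Field F] [Fintype F] (hF : Fintype.card F = 4) :
    Nonempty (G ≃* MulAut (GL (Fin 3) F ⧸ Subgroup.center (GL (Fin 3) F))) := by
  obtain ⟨v, π, a, S⟩ := B.setting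
  obtain ⟨t, htc, ht, htne⟩ := exists_conj_commuting B hsolv hns
  obtain ⟨X, D⟩ := S.exists_even (S.z_conj_a htc ht htne) hsolv hns
  obtain ⟨N, L, hNn, hNs, hncomm, hNL, hLX, hLn, hLU, hL3, hinv⟩ := S.exists_N D hns
  haveI := hNn
  haveI := hNs
  obtain ⟨e⟩ := S.N_iso D hF hncomm hNL hLX hLn hLU hinv
  obtain ⟨η⟩ := mulAut_psl_pgl (F := F)
  let Φ : G →* MulAut N := MulAut.conjNormal
  have hinj : Function.Injective Φ := by
    refine (injective_iff_map_eq_one Φ).2 fun g hg => ?_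
    have hcen : ∀ u ∈ N, g * u = u * g := fun u hu => by
      have h := congrArg (fun f : MulAut N => ((f ⟨u, hu⟩ : N) : G)) hg
      simp only [Φ, MulAut.conjNormal_apply, MulAut.one_apply] at h
      exact mul_inv_eq_iff_eq_mul.1 h
    have hUN : S.U ≤ N := S.U_gen D hinv
    have hgN : g ∈ N := hUN (S.inV_U (S.cent_U D (mem_Cz.2 (hcen z (hUN S.z_U))) fun u hu => hcen u (hUN hu)))
    rcases hNs.eq_bot_or_eq_top_of_normal (Subgroup.center N) inferInstance with h | h
    · have hm : (⟨g, hgN⟩ : N) ∈ Subgroup.center N :=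
        Subgroup.mem_center_iff.2 fun w => Subtype.ext (hcen w w.2).symm
      rw [h, Subgroup.mem_bot] at hm
      exact congrArg Subtype.val hm
    · obtain ⟨p, q, hpq⟩ := hncomm
      exact absurd (Subgroup.mem_center_iff.1 (h.ge (Subgroup.mem_top q)) p) hpq
  have hA : Nat.card (MulAut N) = 241920 := by
    rw [Nat.card_congr (MulAut.congr e).toEquiv, card_mulAut_psl_four hF]
  haveI : Finite (MulAut N) := Nat.finite_of_card_ne_zero (by rw [hA]; norm_num)
  have hN : Nat.card N = 20160 := by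
    rw [Nat.card_congr e.toEquiv]
    have h := CfsgLib.Classical.sub_one_mul_card_SL (F := F) (n := 3) (by norm_num)
    rw [CfsgLib.Classical.card_SL_eq_gcd_mul_card_PSL, Nat.card_eq_fintype_card (α := F), hF,
      Fintype.card_fin, Fin.prod_univ_three, show Nat.gcd 3 (4 - 1) = 3 from rfl] at h
    norm_num [-Nat.card_eq_fintype_card] at h
    omega
  have hG : Nat.card (MulAut N) ≤ Nat.card G := by
    have h1 := Subgroup.card_le_of_le hNL
    have h2 := X.card_mul_index
    rw [S.index_X D] at h2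
    omega
  exact ⟨((MulEquiv.ofBijective Φ (hinj.bijective_of_nat_card_le hG)).trans (MulAut.congr e)).trans η⟩

end CfsgLib.MinusFourSymFour
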