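import Mathlib

/-!
Bit model of the quadratic space of minus type in dimension four with the symmetric group of degree five.
-/

set_option autoImplicit false
set_option maxRecDepth 10000

namespace CfsgLib.MinusFourSymFour

/-- bit vectors of length four -/
abbrev B4 : Type := Fin 4 → Bool

/-- the permutations of five points -/
abbrev S5 : Type := Equiv.Perm (Fin 5)

/-- the sum -/
def ad (x y : B4) : B4 := fun i => xor (x i) (y i)

/-- the zero vector -/
def z4 : B4 := fun _ => false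

/-- unit vectors -/
def un (i : Fin 4) : B4 := fun j => decide (j = i)

/-- the form of a chain -/
def q4 (x : B4) : Bool :=
  xor (xor (xor (x 0) (x 1)) (xor (x 2) (x 3))) (xor (xor (x 0 && x 1) (x 1 && x 2)) (x 2 && x 3))

/-- the polar form of a chain -/
def b4 (x y : B4) : Bool :=
  xor (xor (xor (x 0 && y 1) (x 1 && y 0)) (xor (x 1 && y 2) (x 2 && y 1))) (xor (x 2 && y 3) (x 3 && y 2))

/-- the even subset of five points -/
def enc (x : B4) : Fin 5 → Bool := ![x 3, x 0, xor (x 0) (x 1), xor (x 1) (x 2), xor (x 2) (x 3)]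

/-- back -/
def dec (f : Fin 5 → Bool) : B4 := ![f 1, xor (f 1) (f 2), xor (f 0) (f 4), f 0]

/-- the action of the permutations -/
def act5 (σ : S5) (x : B4) : B4 := dec fun i => enc x (σ.symm i)

/-- the five singular vectors -/
def sv (i : Fin 5) : B4 := dec fun j => decide (j ≠ i)

theorem ad_facts : (∀ x, ad x z4 = x ∧ ad z4 x = x ∧ ad x x = z4) ∧ (∀ x y, ad x y = ad y x) ∧
    (∀ x y w, ad (ad x y) w = ad x (ad y w)) := by
  refine ⟨fun x => ⟨?_, ?_, ?_⟩, fun x y => ?_, fun x y w => ?_⟩ <;> funext i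
  · cases h : x i <;> simp [ad, z4, h]
  · cases h : x i <;> simp [ad, z4, h]
  · simp [ad, z4]
  · simp [ad, Bool.xor_comm]
  · simp [ad]

theorem q4_ad : ∀ x y, q4 (ad x y) = xor (xor (q4 x) (q4 y)) (b4 x y) := by decide +kernel

theorem b4_facts : (∀ x y, b4 x y = b4 y x) ∧ (∀ x, b4 x x = false) ∧ (∀ x y w, b4 (ad x y) w = xor (b4 x w) (b4 y w)) ∧
    (∀ x, (∀ i, b4 x (un i) = false) → x = z4) ∧
    (∀ c : Fin 4 → Bool, ∃ x, ∀ i, b4 x (un i) = c i) := by decide +kernel

theorem un_span : ∀ x : B4, x = ad (ad (ad (bif x 0 then un 0 else z4) (bif x 1 then un 1 else z4))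
    (bif x 2 then un 2 else z4)) (bif x 3 then un 3 else z4) := by decide +kernel

theorem sv_facts : (∀ i, q4 (sv i) = false ∧ sv i ≠ z4) ∧ (∀ i j, sv i = sv j → i = j) ∧
    (∀ x, q4 x = false → x = z4 ∨ ∃ i, x = sv i) := by decide +kernel

theorem un_sv : ∀ i : Fin 4, un i = ad (sv (![1, 2, 3, 4] i)) (sv (![2, 3, 4, 0] i)) := by decide +kernel

theorem act5_sv : ∀ (σ : S5) (i : Fin 5), act5 σ (sv i) = sv (σ i) := by decide +kernel

theorem act5_un : ∀ (σ : S5) (i : Fin 4),
    act5 σ (un i) = ad (sv (σ (![1, 2, 3, 4] i))) (sv (σ (![2, 3, 4, 0] i))) := by decide +kernel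

theorem act5_lin (σ : S5) (x y : B4) : act5 σ (ad x y) = ad (act5 σ x) (act5 σ y) := by
  have he : enc (ad x y) = fun i => xor (enc x i) (enc y i) := by
    revert x y; decide +kernel
  have hd : ∀ f g : Fin 5 → Bool, dec (fun i => xor (f i) (g i)) = ad (dec f) (dec g) := by decide +kernel
  rw [act5, he]
  exact hd (fun i => enc x (σ.symm i)) (fun i => enc y (σ.symm i))

theorem act5_chain : ∀ (p : Fin 5) (i j : Fin 4),
    q4 (act5 (Equiv.swap 0 p) (un i)) = true ∧
    b4 (act5 (Equiv.swap 0 p) (un i)) (act5 (Equiv.swap 0 p) (un j)) = b4 (un i) (un j) := by decide +kernel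

/-- the form with given values on a symplectic basis -/
def q0 (qv : Fin 4 → Bool) (x : B4) : Bool :=
  xor (xor (xor (x 0 && qv 0) (x 1 && qv 1)) (xor (x 2 && qv 2) (x 3 && qv 3))) (xor (x 0 && x 1) (x 2 && x 3))

/-- the symplectic form -/
def b0 (x y : B4) : Bool := xor (xor (x 0 && y 1) (x 1 && y 0)) (xor (x 2 && y 3) (x 3 && y 2))

theorem minus_chain : ∀ qv : Fin 4 → Bool,
    (∃ a, a ≠ z4 ∧ q0 qv a = false ∧ ∃ b, b ≠ z4 ∧ b ≠ a ∧ q0 qv b = false ∧ b0 a b = false) ∨
    (∃ a, q0 qv a = true ∧ ∃ b, q0 qv b = true ∧ b0 a b = true ∧ ∃ c, q0 qv c = true ∧ b0 a c = false ∧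
      b0 b c = true ∧ ∃ d, q0 qv d = true ∧ b0 a d = false ∧ b0 b d = false ∧ b0 c d = true) := by
  decide +kernel

theorem stab_pair_card : ∀ a b : Fin 5, a ≠ b →
    (Finset.univ.filter fun σ : S5 => (σ a = a ∧ σ b = b) ∨ (σ a = b ∧ σ b = a)).card = 12 := by decide +kernel

end CfsgLib.MinusFourSymFour
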