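import Cfsg.Agent.Lib.MinusFourSymFour.Local

/-!
Transport of the data to a conjugate involution, and pairs of commuting conjugates.
-/

set_option autoImplicit false
set_option linter.unusedSectionVars false
set_option synthInstance.maxSize 2000
set_option synthInstance.maxHeartbeats 100000

namespace CfsgLib.MinusFourSymFour

theorem trick_vec : ∀ σ : S5, σ 0 = 0 → σ * σ ≠ 1 ∨ Tr σ → ∀ r : S5, r 0 = 0 → r * r * r = 1 → r ≠ 1 →
    σ ^ 8 = 1 → (σ * r * σ * r⁻¹) ^ 8 = 1 → False := by decide +kernel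

theorem three_vec : ∀ i : Fin 5, ∃ σ : S5, σ 0 = 0 ∧ σ i = i ∧ σ * σ * σ = 1 ∧ σ ≠ 1 := by decide +kernel

theorem four_vec : ∀ i : Fin 5, ∃ c, q4 c = true ∧ b4 c (sv i) = false := by decide +kernel

variable {G : Type*} [Group G] {z : G} {E : Subgroup G} {v : G → B4} {π : G → S5} {a : G}

namespace Setting

/-- the elements of the normal four-extension inside the centraliser of the pair -/
def InU (_S : Setting z E v π a) (h : G) : Prop := h ∈ Cz z ∧ h * a = a * h ∧ (π h = 1 ∨ Dbl (π h))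

variable (S : Setting z E v π a)
include S

theorem trick {x r : G} (hx : x ∈ Cz z) (hr : r ∈ Cz z) (r3 : r ^ 3 = 1) (r1 : r ≠ 1)
    (x8 : x ^ 8 = 1) (y8 : (x * r * x * r⁻¹) ^ 8 = 1) : π x = 1 ∨ Dbl (π x) := by
  have ppow : ∀ g ∈ Cz z, ∀ n : ℕ, π (g ^ n) = π g ^ n := by
    intro g hg n
    induction n with
    | zero => rw [pow_zero, pow_zero, S.p1]
    | succ n ih => rw [pow_succ, pow_succ, S.p_mul _ ((Cz z).pow_mem hg n) g hg, ih]
  have hpr1 : π r ≠ 1 := by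
    intro e
    have := S.E_pow4 ((S.p_one r hr).1 e)
    rw [pow_succ, r3, one_mul] at this
    exact r1 this
  have hpr3 : π r * π r * π r = 1 := by
    rw [← S.p_mul r hr r hr, ← S.p_mul _ ((Cz z).mul_mem hr hr) r hr,
      show r * r * r = r ^ 3 by simp only [pow_succ, pow_zero, one_mul], r3, S.p1]
  by_contra hne
  push Not at hne
  have hc : π x * π x ≠ 1 ∨ Tr (π x) := by
    by_cases h : π x * π x = 1
    · rcases invol_cases _ (S.p_zero x hx) h with e | e | e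
      exacts [absurd e hne.1, absurd e hne.2, Or.inr e]
    · exact Or.inl h
  refine trick_vec _ (S.p_zero x hx) hc _ (S.p_zero r hr) hpr3 hpr1 (by rw [← ppow x hx, x8, S.p1]) ?_
  rw [← S.p_inv hr, ← S.p_mul x hx r hr, ← S.p_mul _ ((Cz z).mul_mem hx hr) x hx,
    ← S.p_mul _ ((Cz z).mul_mem ((Cz z).mul_mem hx hr) hx) _ ((Cz z).inv_mem hr),
    ← ppow _ ((Cz z).mul_mem ((Cz z).mul_mem ((Cz z).mul_mem hx hr) hx) ((Cz z).inv_mem hr)), y8, S.p1]

/-- transport along an inner automorphism -/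
theorem map (g : G) : Setting (g * z * g⁻¹) (E.map (MulAut.conj g).toMonoidHom)
    (fun x => v (g⁻¹ * x * g)) (fun x => π (g⁻¹ * x * g)) (g * a * g⁻¹) := by
  have hC : ∀ {h : G}, h ∈ Cz (g * z * g⁻¹) ↔ g⁻¹ * h * g ∈ Cz z := by
    intro h
    simp only [mem_Cz]
    constructor
    · intro e
      calc g⁻¹ * h * g * z = g⁻¹ * (h * (g * z * g⁻¹)) * g := by group
        _ = g⁻¹ * (g * z * g⁻¹ * h) * g := by rw [e]
        _ = z * (g⁻¹ * h * g) := by group
    · intro e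
      calc h * (g * z * g⁻¹) = g * (g⁻¹ * h * g * z) * g⁻¹ := by group
        _ = g * (z * (g⁻¹ * h * g)) * g⁻¹ := by rw [e]
        _ = g * z * g⁻¹ * h := by group
  have hE : ∀ {x : G}, x ∈ E.map (MulAut.conj g).toMonoidHom ↔ g⁻¹ * x * g ∈ E := by
    intro x
    constructor
    · rintro ⟨y, hy, rfl⟩
      show g⁻¹ * (g * y * g⁻¹) * g ∈ E
      rwa [show g⁻¹ * (g * y * g⁻¹) * g = y by group]
    · intro h
      exact ⟨_, h, show g * (g⁻¹ * x * g) * g⁻¹ = x by group⟩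
  have hm : ∀ x y : G, g⁻¹ * (x * y) * g = g⁻¹ * x * g * (g⁻¹ * y * g) := fun x y => by group
  have hzb : ∀ b, zb (g * z * g⁻¹) b = g * zb z b * g⁻¹ := fun b => by cases b <;> simp [zb]
  have inj : ∀ {x y : G}, g⁻¹ * x * g = y ↔ x = g * y * g⁻¹ := fun {x y} =>
    ⟨fun h => by rw [← h]; group, fun h => by rw [h]; group⟩
  refine { z1 := fun h => S.z1 (conj_eq_one_iff.1 h), z2 := by rw [← S.conj_mul, S.z2]; group,
           zE := hE.2 (by rw [show g⁻¹ * (g * z * g⁻¹) * g = z by group]; exact S.zE),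
           ecz := fun x hx => hC.2 (S.ecz _ (hE.1 hx)), enorm := ?_, comm := ?_, sq := ?_, cen := ?_,
           card := by rw [Subgroup.card_map_of_injective (MulAut.conj g).injective, S.card],
           noelem := ?_, cE := ?_, cardH := ?_, v_mul := ?_, v_z4 := ?_, v_surj := ?_, v_sq := ?_,
           v_comm := ?_, p_mul := ?_, p_one := ?_, p_act := ?_, p_zero := fun h hh => S.p_zero _ (hC.1 hh),
           p_surj := ?_, aE := hE.2 (by rw [show g⁻¹ * (g * a * g⁻¹) * g = a by group]; exact S.aE),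
           va := by show v (g⁻¹ * (g * a * g⁻¹) * g) = _; rw [show g⁻¹ * (g * a * g⁻¹) * g = a by group, S.va] }
  · intro h hh x hx
    refine hE.2 ?_
    rw [show g⁻¹ * (h * x * h⁻¹) * g = g⁻¹ * h * g * (g⁻¹ * x * g) * (g⁻¹ * h * g)⁻¹ by group]
    exact S.enorm _ (hC.1 hh) _ (hE.1 hx)
  · intro x hx y hy
    rcases S.comm _ (hE.1 hx) _ (hE.1 hy) with h | h
    · left; rw [← hm, ← hm, inj] at h; rw [h]; group
    · right; rw [← hm, ← hm, inj] at h; rw [h]; group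
  · intro x hx
    rcases S.sq _ (hE.1 hx) with h | h <;> rw [← hm, inj] at h
    · left; rw [h]; group
    · exact Or.inr h
  · intro x hx hall
    have := S.cen _ (hE.1 hx) fun y hy => by
      have e := hall (g * y * g⁻¹) (hE.2 (by rw [show g⁻¹ * (g * y * g⁻¹) * g = y by group]; exact hy))
      calc g⁻¹ * x * g * y = g⁻¹ * (x * (g * y * g⁻¹)) * g := by group
        _ = g⁻¹ * (g * y * g⁻¹ * x) * g := by rw [e]
        _ = y * (g⁻¹ * x * g) := by group
    rcases this with h | h <;> rw [inj] at h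
    · left; rw [h]; group
    · exact Or.inr h
  · intro A hA h8 hinv
    refine S.noelem (A.map (MulAut.conj g⁻¹).toMonoidHom) ?_
      (by rw [Subgroup.card_map_of_injective (MulAut.conj g⁻¹).injective, h8]) ?_
    · rintro _ ⟨x, hx, rfl⟩
      have := hE.1 (hA hx)
      show g⁻¹ * x * g⁻¹⁻¹ ∈ E
      rwa [inv_inv]
    · rintro _ ⟨x, hx, rfl⟩
      show (MulAut.conj g⁻¹) x * (MulAut.conj g⁻¹) x = 1
      rw [← map_mul, hinv x hx, map_one]
  · intro h hh hall
    refine hE.2 (S.cE _ (hC.1 hh) fun x hx => ?_)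
    have e := hall (g * x * g⁻¹) (hE.2 (by rw [show g⁻¹ * (g * x * g⁻¹) * g = x by group]; exact hx))
    calc g⁻¹ * h * g * x = g⁻¹ * (h * (g * x * g⁻¹)) * g := by group
      _ = g⁻¹ * (g * x * g⁻¹ * h) * g := by rw [e]
      _ = x * (g⁻¹ * h * g) := by group
  · rw [← S.cardH]
    refine Nat.card_congr ⟨fun h => ⟨g⁻¹ * h * g, hC.1 h.2⟩, fun h => ⟨g * h * g⁻¹, hC.2 ?_⟩, ?_, ?_⟩
    · rw [show g⁻¹ * (g * (h : G) * g⁻¹) * g = h by group]; exact h.2
    · intro h; exact Subtype.ext (show g * (g⁻¹ * (h : G) * g) * g⁻¹ = h by group)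
    · intro h; exact Subtype.ext (show g⁻¹ * (g * (h : G) * g⁻¹) * g = h by group)
  · intro x hx y hy
    show v (g⁻¹ * (x * y) * g) = _
    rw [hm]
    exact S.v_mul _ (hE.1 hx) _ (hE.1 hy)
  · intro x hx h
    rcases S.v_z4 _ (hE.1 hx) h with e | e <;> rw [inj] at e
    · left; rw [e]; group
    · exact Or.inr e
  · intro c
    obtain ⟨x, hx, hvx⟩ := S.v_surj c
    refine ⟨g * x * g⁻¹, hE.2 ?_, ?_⟩
    · rwa [show g⁻¹ * (g * x * g⁻¹) * g = x by group]
    · show v (g⁻¹ * (g * x * g⁻¹) * g) = c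
      rwa [show g⁻¹ * (g * x * g⁻¹) * g = x by group]
  · intro x hx
    have h := S.v_sq _ (hE.1 hx)
    rw [← hm, inj] at h
    rw [h, hzb]
  · intro x hx y hy
    have h := S.v_comm _ (hE.1 hx) _ (hE.1 hy)
    rw [← hm, inj] at h
    rw [h, hzb]
    group
  · intro x hx y hy
    show π (g⁻¹ * (x * y) * g) = _
    rw [hm]
    exact S.p_mul _ (hC.1 hx) _ (hC.1 hy)
  · intro h hh
    rw [S.p_one _ (hC.1 hh), hE]
  · intro h hh x hx
    show v (g⁻¹ * (h * x * h⁻¹) * g) = _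
    rw [show g⁻¹ * (h * x * h⁻¹) * g = g⁻¹ * h * g * (g⁻¹ * x * g) * (g⁻¹ * h * g)⁻¹ by group]
    exact S.p_act _ (hC.1 hh) _ (hE.1 hx)
  · intro σ hσ
    obtain ⟨h, hh, hπ⟩ := S.p_surj σ hσ
    refine ⟨g * h * g⁻¹, hC.2 ?_, ?_⟩
    · rwa [show g⁻¹ * (g * h * g⁻¹) * g = h by group]
    · show π (g⁻¹ * (g * h * g⁻¹) * g) = σ
      rwa [show g⁻¹ * (g * h * g⁻¹) * g = h by group]

theorem at_conj {u : G} (hu : IsConj z u) : ∃ (g : G) (E' : Subgroup G) (v' : G → B4) (π' : G → S5) (a' : G),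
    Setting u E' v' π' a' ∧ g * z * g⁻¹ = u ∧ a' = g * a * g⁻¹ ∧ π' = (fun x => π (g⁻¹ * x * g)) := by
  obtain ⟨g, rfl⟩ := isConj_iff.1 hu
  exact ⟨g, _, _, _, _, S.map g, rfl, rfl, rfl⟩

/-- an element of order three over a given permutation fixing a singular class -/
theorem exists_three {i : Fin 5} {σ : S5} (h0 : σ 0 = 0) (hi : σ i = i) (h3 : σ * σ * σ = 1) (h1 : σ ≠ 1)
    {x : G} (hx : x ∈ E) (hvx : v x = sv i) :
    ∃ r ∈ Cz z, r ^ 3 = 1 ∧ r ≠ 1 ∧ π r = σ ∧ r * x = x * r := by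
  obtain ⟨h, hh, rfl⟩ := S.p_surj σ h0
  have ppow : ∀ n : ℕ, π (h ^ n) = π h ^ n := by
    intro n
    induction n with
    | zero => rw [pow_zero, pow_zero, S.p1]
    | succ n ih => rw [pow_succ, pow_succ, S.p_mul _ ((Cz z).pow_mem hh n) h hh, ih]
  have hE3 : h ^ 3 ∈ E := (S.p_one _ ((Cz z).pow_mem hh 3)).1 (by
    rw [ppow, show π h ^ 3 = π h * π h * π h by simp only [pow_succ, pow_zero, one_mul], h3])
  have hr3 : (h ^ 4) ^ 3 = 1 := by rw [← pow_mul, show 4 * 3 = 3 * 4 from rfl, pow_mul, S.E_pow4 hE3]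
  have hpr : π (h ^ 4) = π h := by
    rw [ppow, show π h ^ 4 = π h * π h * π h * π h by simp only [pow_succ, pow_zero, one_mul], h3, one_mul]
  have hr : h ^ 4 ∈ Cz z := (Cz z).pow_mem hh 4
  refine ⟨h ^ 4, hr, hr3, fun e => h1 (by rw [← hpr, e, S.p1]), hpr, ?_⟩
  set r := h ^ 4
  rcases S.mem_of_v (S.enorm r hr x hx) hx (by rw [S.p_act r hr x hx, hpr, hvx, act5_sv, hi]) with e | e
  · exact mul_inv_eq_iff_eq_mul.1 e
  · exfalso
    have step : r * (x * z) * r⁻¹ = x := by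
      rw [S.conj_mul, e, S.conj_z hr, mul_assoc, S.z2, mul_one]
    have : r ^ 3 * x * (r ^ 3)⁻¹ = x * z := by
      calc r ^ 3 * x * (r ^ 3)⁻¹ = r * (r * (r * x * r⁻¹) * r⁻¹) * r⁻¹ := by
            simp only [pow_succ, pow_zero, one_mul, mul_inv_rev, mul_assoc]
        _ = x * z := by rw [e, step, e]
    rw [hr3, one_mul, inv_one, mul_one] at this
    exact S.z1 (mul_eq_left.1 this.symm)

variable {u : G} {E' : Subgroup G} {v' : G → B4} {π' : G → S5} {a' : G} (S' : Setting u E' v' π' a')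
include S'

/-- a singular class of `E` which is the centre of another setting: `z` lies in the other group -/
theorem z_mem {i : Fin 5} (hu : u ∈ E) (hvu : v u = sv i) : z ∈ E' := by
  obtain ⟨c, hq, hb⟩ := four_vec i
  obtain ⟨x, hx, hvx⟩ := S.v_surj c
  obtain ⟨σ, h0, hi, h3, h1⟩ := three_vec i
  obtain ⟨r, hr, r3, r1, -, hru⟩ := S.exists_three h0 hi h3 h1 hu hvu
  have hxu : x ∈ Cz u := mem_Cz.2 (S.commE hx hu (by rw [hvx, hvu]; exact hb))
  have hru' : r ∈ Cz u := mem_Cz.2 hru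
  have x8 : x ^ 8 = 1 := by rw [show 8 = 4 + 4 from rfl, pow_add, S.E_pow4 hx, one_mul]
  have y8 : (x * r * x * r⁻¹) ^ 8 = 1 := by
    have hy : x * r * x * r⁻¹ ∈ E := by
      rw [show x * r * x * r⁻¹ = x * (r * x * r⁻¹) by group]
      exact E.mul_mem hx (S.enorm r hr x hx)
    rw [show 8 = 4 + 4 from rfl, pow_add, S.E_pow4 hy, one_mul]
  have hxx : x * x = z := by rw [S.v_sq x hx, hvx, hq]; rfl
  have hzu : z ∈ Cz u := mem_Cz.2 (mem_Cz.1 (S.ecz u hu)).symm
  refine (S'.p_one z hzu).1 ?_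
  rw [← hxx, S'.p_mul x hxu x hxu]
  rcases S'.trick hxu hru' r3 r1 x8 y8 with e | e
  · rw [e, one_mul]
  · exact e.2.1

end Setting

end CfsgLib.MinusFourSymFour
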