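import Cfsg.Agent.Lib.MinusFourSymFour.ThreeFive
import Cfsg.Agent.Lib.ZStar.Main
import Cfsg.Agent.Lib.ZStar.IsolatedConseq

/-!
The centraliser of a singular element outside `X`: its odd core and the retraction onto the centraliser of `z`.
-/

set_option autoImplicit false
set_option linter.unusedSectionVars false
set_option linter.style.haveILetI false
set_option synthInstance.maxSize 2000
set_option synthInstance.maxHeartbeats 100000

namespace CfsgLib.MinusFourSymFour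

theorem three_moves : ∀ r : S5, r 0 = 0 → r * r * r = 1 → r ≠ 1 → ∀ i : Fin 5, i ≠ 0 →
    ∃ c, b4 c (sv i) = false ∧ act5 r c ≠ c := by decide +kernel

theorem stab_three : ∀ r : S5, r 0 = 0 → r * r * r = 1 → r ≠ 1 → ∀ i : Fin 5, i ≠ 0 → r i = i →
    ∀ σ : S5, σ 0 = 0 → Equiv.Perm.sign σ = 1 → σ i = i → σ = 1 ∨ σ = r ∨ σ = r * r := by decide +kernel

/-- the solutions of `x * x = 1` are even in number in a group of even order -/
theorem even_card_sol {Γ : Type*} [Group Γ] [Fintype Γ] [DecidableEq Γ] (h : 2 ∣ Nat.card Γ) :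
    2 ∣ Nat.card {x : Γ // x * x = 1} := by
  haveI : Fact (Nat.Prime 2) := ⟨Nat.prime_two⟩
  have h2 : (Equiv.inv Γ : Equiv.Perm Γ) ^ 2 ^ 1 = 1 := by
    ext x
    show (x⁻¹)⁻¹ = x
    exact inv_inv x
  have e := Equiv.Perm.card_compl_support_modEq h2
  rw [Nat.card_eq_fintype_card] at h ⊢
  have hset : (Equiv.inv Γ : Equiv.Perm Γ).supportᶜ = Finset.univ.filter fun x : Γ => x * x = 1 := by
    ext x
    simp [Equiv.Perm.mem_support, inv_eq_iff_mul_eq_one]
  rw [Fintype.card_subtype, ← hset]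
  exact Nat.modEq_zero_iff_dvd.1 (e.trans (Nat.modEq_zero_iff_dvd.2 h))

namespace Setting

variable {G : Type*} [Group G] {z : G} {E : Subgroup G} {v : G → B4} {π : G → S5} {a : G}
  (S : Setting z E v π a) {X : Subgroup G} (D : Even S X)
include S D

theorem index_X [Finite G] : X.index = 4 := by
  haveI := D.normal
  have hsurj : Function.Surjective ((QuotientGroup.mk' X).comp (Cz z).subtype) := by
    intro y
    obtain ⟨g, rfl⟩ := QuotientGroup.mk'_surjective X y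
    obtain ⟨h, hh, hX⟩ := D.cover g
    exact ⟨⟨h, hh⟩, QuotientGroup.eq.2 hX⟩
  have hker : ((QuotientGroup.mk' X).comp (Cz z).subtype).ker = (X ⊓ Cz z).subgroupOf (Cz z) := by
    ext x
    simp [MonoidHom.mem_ker, Subgroup.mem_subgroupOf]
  have h := ((QuotientGroup.mk' X).comp (Cz z).subtype).ker.card_mul_index
  rw [Subgroup.index_ker, MonoidHom.range_eq_top.2 hsurj, Subgroup.card_top, hker,
    Nat.card_congr (Subgroup.subgroupOfEquivOfLe inf_le_right).toEquiv, S.card_XH D, S.cardH,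
    ← Subgroup.index_eq_card] at h
  omega

theorem odd_mem_X [Finite G] {x : G} (h : Odd (orderOf x)) : x ∈ X := by
  haveI := D.normal
  obtain ⟨k, hk⟩ := h
  have h4 : x ^ 4 ∈ X := S.index_X D ▸ X.pow_index_mem x
  have h4' : Nat.Coprime 4 (orderOf x) := by
    rw [hk]
    exact (show Nat.Coprime 2 (2 * k + 1) from Nat.coprime_two_left.2 ⟨k, rfl⟩).pow_left 2
  obtain ⟨m, hm⟩ := exists_pow_eq_self_of_coprime h4'
  rw [← hm]
  exact X.pow_mem h4 m

variable {b : G} (hb : b ∈ E) {i : Fin 5} (hi : i ≠ 0) (hvb : v b = sv i)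
include hb hi hvb

theorem z_Cb : z ∈ Cz b := mem_Cz.2 (mem_Cz.1 (S.ecz b hb)).symm

/-- the odd core of the centraliser of `b` -/
theorem exists_core [Finite G] : ∃ O : Subgroup G, O ≤ Cz b ∧ O ≤ X ∧ Odd (Nat.card O) ∧
    (∀ g ∈ Cz b, ∀ o ∈ O, g * o * g⁻¹ ∈ O) ∧ (∀ o ∈ O, o ∈ Cz z → o = 1) ∧
    (∀ o ∈ O, z * o * z⁻¹ = o⁻¹) ∧ (∀ g ∈ Cz b, ∃ o ∈ O, o⁻¹ * g ∈ Cz z) := by
  classical
  haveI : Fact (Nat.Prime 3) := ⟨Nat.prime_three⟩
  haveI hn := CfsgLib.Transfer.pPrimeCore_normal 2 ↥(Cz b)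
  set O := (Cfsg.pPrimeCore 2 ↥(Cz b)).map (Cz b).subtype with hOdef
  have hOle : O ≤ Cz b := Subgroup.map_subtype_le _
  have hodd : Odd (Nat.card O) := by
    rw [hOdef, Subgroup.card_map_of_injective (Cz b).subtype_injective]
    exact CfsgLib.ZStar.odd_card_core
  have hord : ∀ o ∈ O, Odd (orderOf o) := fun o ho => hodd.of_dvd_nat (Subgroup.orderOf_dvd_natCard O ho)
  have hOX : O ≤ X := fun o ho => S.odd_mem_X D (hord o ho)
  have hnorm : ∀ g ∈ Cz b, ∀ o ∈ O, g * o * g⁻¹ ∈ O := by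
    rintro g hg _ ⟨o, ho, rfl⟩
    exact ⟨⟨g, hg⟩ * o * ⟨g, hg⟩⁻¹, hn.conj_mem o ho _, rfl⟩
  have hfix : ∀ o ∈ O, o ∈ Cz z → o = 1 := by
    intro o ho hoz
    by_contra o1
    have hXH : o ∈ X ⊓ Cz z := ⟨hOX ho, hoz⟩
    have h3 : o ^ 3 = 1 := by
      have hd : orderOf o ∣ 192 := S.card_XH D ▸ Subgroup.orderOf_dvd_natCard _ hXH
      have hc : Nat.Coprime (orderOf o) 64 :=
        Nat.Coprime.pow_right 6 (Nat.coprime_two_right.2 (hord o ho))
      exact orderOf_dvd_iff_pow_eq_one.1 (hc.dvd_of_dvd_mul_left (show orderOf o ∣ 64 * 3 from hd))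
    obtain ⟨p3, p1'⟩ := S.three_image hoz h3 o1
    obtain ⟨c, hc, hmv⟩ := three_moves _ (S.p_zero o hoz) p3 p1' i hi
    obtain ⟨x, hx, rfl⟩ := S.v_surj c
    apply hmv
    have hxb : x ∈ Cz b := mem_Cz.2 (S.commE hx hb (by rw [hvb]; exact hc))
    have hcom : x * o * x⁻¹ * o⁻¹ = 1 := by
      have h1 : x * o * x⁻¹ * o⁻¹ ∈ O := O.mul_mem (hnorm x hxb o ho) (O.inv_mem ho)
      have h2 : x * o * x⁻¹ * o⁻¹ ∈ E := by
        rw [show x * o * x⁻¹ * o⁻¹ = x * (o * x⁻¹ * o⁻¹) by group]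
        exact E.mul_mem hx (S.enorm o hoz _ (E.inv_mem hx))
      exact CfsgLib.CIT.eq_one_of_odd_two (k := 2) (hord _ h1) (S.E_pow4 h2)
    have hox : o * x * o⁻¹ = x := by
      calc o * x * o⁻¹ = (x * o * x⁻¹ * o⁻¹)⁻¹ * x := by group
        _ = x := by rw [hcom]; group
    rw [← S.p_act o hoz x hx, hox]
  have hzb := S.z_Cb D hb hi hvb
  have hiso : Cfsg.IsIsolatedInvolution (⟨z, hzb⟩ : Cz b) := by
    refine ⟨?_, fun g hc => ?_⟩
    · rw [← Subgroup.orderOf_coe]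
      exact orderOf_eq_prime (by rw [pow_two, S.z2]) S.z1
    · refine Subtype.ext ?_
      show (g : G) * z * (g : G)⁻¹ = z
      refine S.b_isolated hb hi hvb (isConj_iff.2 ⟨g, rfl⟩) (mem_Cz.2 (congrArg Subtype.val hc.eq).symm) ?_
      exact mem_Cz.1 ((Cz b).mul_mem ((Cz b).mul_mem g.2 hzb) ((Cz b).inv_mem g.2))
  have hcomm : ∀ g ∈ Cz b, z * g * z⁻¹ * g⁻¹ ∈ O := fun g hg =>
    ⟨_, CfsgLib.ZStar.commutatorsInCore_of_isolated hiso ⟨g, hg⟩, rfl⟩
  have hinv : ∀ o ∈ O, z * o * z⁻¹ = o⁻¹ := by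
    let β : O →* O :=
      { toFun := fun x => ⟨z * x * z⁻¹, hnorm z hzb x x.2⟩
        map_one' := Subtype.ext (by simp)
        map_mul' := fun x y => Subtype.ext (by simp [mul_assoc]) }
    have hfpf : MonoidHom.FixedPointFree β := fun x hx => by
      have e : z * (x : G) * z⁻¹ = x := congrArg Subtype.val hx
      exact Subtype.ext (hfix x x.2 (mem_Cz.2 (mul_inv_eq_iff_eq_mul.1 e).symm))
    have h2 : Function.Involutive β := fun x => Subtype.ext (by
      show z * (z * (x : G) * z⁻¹) * z⁻¹ = x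
      rw [S.zinv, show z * (z * (x : G) * z) * z = z * z * x * (z * z) by group, S.z2]
      group)
    exact fun o ho => congrArg Subtype.val
      (congrFun (MonoidHom.FixedPointFree.coe_eq_inv_of_involutive (φ := β) hfpf h2) ⟨o, ho⟩)
  refine ⟨O, hOle, hOX, hodd, hnorm, hfix, hinv, fun g hg => ?_⟩
  set w := z * g * z⁻¹ * g⁻¹ with hw
  have hwO : w ∈ O := hcomm g hg
  obtain ⟨k, hk⟩ := CfsgLib.ZStar.exists_sqrt (hord w hwO)
  refine ⟨(w ^ k)⁻¹, O.inv_mem (O.pow_mem hwO k), ?_⟩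
  rw [inv_inv, mem_Cz, eq_comm, ← mul_inv_eq_iff_eq_mul]
  calc z * (w ^ k * g) * z⁻¹ = z * w ^ k * z⁻¹ * (w * g) := by rw [hw]; group
    _ = (w ^ k)⁻¹ * (w ^ k * w ^ k * g) := by rw [hinv _ (O.pow_mem hwO k), hk]
    _ = w ^ k * g := by group

end Setting

end CfsgLib.MinusFourSymFour
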