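import Cfsg.Agent.Lib.MinusFourSymFour.ThreeTransfer
import Cfsg.Agent.Lib.CIT.Radical
import Cfsg.Agent.Lib.CIT.Iso
import Cfsg.Agent.Lib.SL2.PSLCensus
import Cfsg.Agent.Lib.Suzuki.LieEquiv
import Cfsg.Agent.S0330

/-!
The simple normal subgroup: it is the projective special linear group of degree three over four elements.
-/

set_option autoImplicit false
set_option linter.unusedSectionVars false
set_option linter.style.haveILetI false
set_option synthInstance.maxSize 2000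
set_option synthInstance.maxHeartbeats 100000

namespace CfsgLib.MinusFourSymFour

theorem dbl_centralised : ∀ σ : S5, σ 0 = 0 → (∀ δ : S5, Dbl δ → σ * δ = δ * σ) → σ = 1 ∨ Dbl σ := by
  decide +kernel

theorem perp_radical : ∀ x : B4, (∀ y, b4 y (sv 0) = false → b4 x y = false) → x = z4 ∨ x = sv 0 := by
  decide +kernel

theorem ad_sv0_ne : ∀ c : B4, ad c (sv 0) ≠ c := by decide +kernel

namespace Setting

variable {G : Type*} [Group G] {z : G} {E : Subgroup G} {v : G → B4} {π : G → S5} {a : G}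
  (S : Setting z E v π a) {X : Subgroup G} (D : Even S X)
include S D

/-- the centraliser of `U` in the centraliser of `z` -/
theorem cent_U {g : G} (hg : g ∈ Cz z) (hc : ∀ u ∈ S.U, g * u = u * g) : S.inV g := by
  have hU : ∀ c, b4 c (sv 0) = false → ∃ x ∈ S.U, x ∈ E ∧ v x = c := fun c hc' => by
    obtain ⟨x, hx, rfl⟩ := S.v_surj c
    exact ⟨x, S.E_U hx (S.commE hx S.aE (by rw [S.va]; exact hc')), hx, rfl⟩
  have h1 : π g = 1 ∨ Dbl (π g) := dbl_centralised _ (S.p_zero g hg) fun δ hδ => by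
    obtain ⟨d, hd, -, rfl⟩ := S.dbl_lift D hδ
    rw [← S.p_mul g hg d hd.1, hc d hd, S.p_mul d hd.1 g hg]
  rcases h1 with e | e
  · have hgE := (S.p_one g hg).1 e
    refine S.inV_of_v hgE (perp_radical _ fun y hy => ?_)
    obtain ⟨x, hxU, hx, rfl⟩ := hU y hy
    exact S.bit_comm hgE hx (hc x hxU)
  · exfalso
    obtain ⟨c, -, hb, -, -, -, -, hmv, -⟩ := dbl_moves _ e
    obtain ⟨x, hxU, hx, rfl⟩ := hU c hb
    refine ad_sv0_ne (v x) ?_
    rw [← hmv, ← S.p_act g hg x hx, mul_inv_eq_iff_eq_mul.2 (hc x hxU)]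

/-- data used repeatedly -/
theorem exists_frame [Finite G] : ∃ σ r : G, σ ∈ X ⊓ Subgroup.normalizer (S.fourV : Set G) ∧
    r ∈ Cz z ∧ Nine σ r ∧ σ ∉ Cz z := by
  obtain ⟨r, hr, r3, r1, -⟩ := S.exists_three_a
  obtain ⟨σ, hσ, s3, hσr, hσz⟩ := S.exists_nine D hr r3 r1
  exact ⟨σ, r, hσ, hr, ⟨s3, r3, r1, hσr, fun h => hσz (Subgroup.zpowers_le.2 hr h)⟩, hσz⟩

/-- `U` is generated by involutions -/
theorem U_gen [Finite G] {N : Subgroup G} (h : ∀ u ∈ X, u * u = 1 → u ∈ N) : S.U ≤ N := by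
  obtain ⟨σ, r, hσ, hr, T, hσz⟩ := S.exists_frame D
  intro u hu
  obtain ⟨c, hc, hx⟩ := S.U_decomp D hr T.r3 T.r1 hσ T hσz hu
  have hk : ∀ k, c k ∈ N := fun k =>
    h _ (D.U_le (hc k).1) (S.cent_tau D hr T.r3 T.r1 hσ T hσz (hc k).1 (hc k).2)
  have := N.mul_mem (N.mul_mem (N.mul_mem (hk 0) (hk 1)) (hk 2)) (h _ (D.U_le (S.inV_U hx)) (S.inV_sq hx))
  rwa [mul_inv_cancel_left] at this

/-- two non-commuting involutions in `U` -/
theorem exists_noncomm_invol [Finite G] : ∃ c ∈ S.U, ∃ d ∈ S.U, c * c = 1 ∧ d * d = 1 ∧ c * d ≠ d * c := by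
  obtain ⟨σ, r, hσ, hr, T, hσz⟩ := S.exists_frame D
  obtain ⟨k, m, -, c, hc, d, hd, hck, hdm, hne⟩ := S.exists_pair D hr T.r3 T.r1 hσ T hσz
  exact ⟨c, hc, d, hd, S.cent_tau D hr T.r3 T.r1 hσ T hσz hc hck,
    S.cent_tau D hr T.r3 T.r1 hσ T hσz hd hdm, hne⟩

variable {L : Subgroup G} (hLX : L ≤ X) (hLn : ∀ x ∈ X, ∀ l ∈ L, x * l * x⁻¹ ∈ L) (hLU : L ⊓ Cz z = S.U)
include hLX hLn hLU

/-- centralisers of involutions in `L` are two-groups -/
theorem L_cent8 [Finite G] {t g : G} (ht : t ∈ L) (t2 : t * t = 1) (t1 : t ≠ 1) (hg : g ∈ L)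
    (hgt : g * t = t * g) : g ^ 8 = 1 := by
  obtain ⟨x, hx, rfl⟩ := S.X_invol D (hLX ht) t2 t1
  have h : x⁻¹ * g * x ∈ L ⊓ Cz z := by
    refine ⟨?_, mem_Cz.2 ?_⟩
    · have := hLn _ (X.inv_mem hx) g hg
      rwa [inv_inv] at this
    · calc x⁻¹ * g * x * z = x⁻¹ * (g * (x * z * x⁻¹)) * x := by group
        _ = x⁻¹ * (x * z * x⁻¹ * g) * x := by rw [hgt]
        _ = z * (x⁻¹ * g * x) := by group
  rw [hLU] at h
  have h8 := S.U_pow8 h
  rw [show x⁻¹ * g * x = x⁻¹ * g * x⁻¹⁻¹ by rw [inv_inv], conj_pow] at h8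
  exact conj_eq_one_iff.1 h8

/-- `U` is a maximal two-subgroup of `L` -/
theorem U_max [Finite G] {P : Subgroup G} (hP : IsPGroup 2 P) (hPL : P ≤ L) (hUP : S.U ≤ P) : P = S.U := by
  have hne : P ≠ ⊥ := fun e => S.z1 (Subgroup.mem_bot.1 (e ▸ hUP S.z_U))
  obtain ⟨t, ht, t2, t1, htc⟩ := CfsgLib.CIT.exists_central_invol hP hne
  have htC : t ∈ L ⊓ Cz z := ⟨hPL ht, mem_Cz.2 (htc z (hUP S.z_U)).eq⟩
  rw [hLU] at htC
  have htV := S.cent_U D htC.1 fun u hu => (htc u (hUP hu)).eq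
  obtain ⟨g, hg, -⟩ := S.V_setting D.hza htV t1
  obtain ⟨x, hx, hxt⟩ := S.X_invol D (hLX (hPL ht)) t2 t1
  have hle : P.map (MulAut.conj x⁻¹).toMonoidHom ≤ S.U := by
    rintro _ ⟨p, hp, rfl⟩
    show x⁻¹ * p * x⁻¹⁻¹ ∈ S.U
    rw [← hLU]
    refine ⟨hLn _ (X.inv_mem hx) p (hPL hp), mem_Cz.2 ?_⟩
    rw [inv_inv]
    calc x⁻¹ * p * x * z = x⁻¹ * (p * (x * z * x⁻¹)) * x := by group
      _ = x⁻¹ * (x * z * x⁻¹ * p) * x := by rw [hxt, (htc p hp).eq]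
      _ = z * (x⁻¹ * p * x) := by group
  refine (Subgroup.eq_of_le_of_card_ge hUP ?_).symm
  have := Subgroup.card_le_of_le hle
  rwa [Subgroup.card_map_of_injective (MulAut.conj x⁻¹).injective] at this

end Setting

end CfsgLib.MinusFourSymFour
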