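import Cfsg.Agent.Lib.MinusFourSymFour.Count
import Cfsg.Agent.Lib.MinusFourSymFour.Four

/-!
The centraliser of an element of order three of the centraliser of the involution.
-/

set_option autoImplicit false
set_option linter.unusedSectionVars false
set_option linter.style.haveILetI false
set_option synthInstance.maxSize 2000
set_option synthInstance.maxHeartbeats 100000

namespace CfsgLib.MinusFourSymFour

namespace Setting

variable {G : Type*} [Group G] {z : G} {E : Subgroup G} {v : G → B4} {π : G → S5} {a : G}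
  (S : Setting z E v π a)
include S

theorem fourV_le : S.fourV ≤ Cz z := fun _ hx => S.ecz _ (S.inV_mem hx)

theorem V_le_U : S.fourV ≤ S.U := fun _ hx => S.inV_U hx

theorem V_conj (hza : IsConj z a) {c : G} (hc : S.inV c) (h1 : c ≠ 1) : IsConj z c := by
  rcases hc with h | h | h | h
  · exact absurd h h1
  · exact h ▸ IsConj.refl z
  · exact h ▸ hza
  · exact h ▸ hza.trans S.a_conj_az

/-- every element of the four group is the centre of a setting with the same four group -/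
theorem V_setting (hza : IsConj z a) {c : G} (hc : S.inV c) (h1 : c ≠ 1) :
    ∃ g : G, g * z * g⁻¹ = c ∧ ∀ x, (S.map g).inV x → S.inV x := by
  by_cases hcz : c = z
  · refine ⟨1, by rw [hcz]; group, fun x hx => ?_⟩
    have e1 : (1 : G) * z * 1⁻¹ = z := by group
    have e2 : (1 : G) * a * 1⁻¹ = a := by group
    rcases hx with h | h | h | h
    · exact Or.inl h
    · exact Or.inr (Or.inl (h.trans e1))
    · exact Or.inr (Or.inr (Or.inl (h.trans e2)))
    · exact Or.inr (Or.inr (Or.inr (h.trans (by rw [e1, e2]))))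
  · obtain ⟨g, hg⟩ := isConj_iff.1 (S.V_conj hza hc h1)
    have hcp : c = a ∨ c = a * z := (hc.resolve_left h1).resolve_left hcz
    have hp : g * z * g⁻¹ = a ∨ g * z * g⁻¹ = a * z := hg.symm ▸ hcp
    have hcc : IsConj z (g * z * g⁻¹) := isConj_iff.2 ⟨g, rfl⟩
    have hs := S.pair_sym (S.map g) hcc hp
    have hzc : S.inV (g * z * g⁻¹) := hg.symm ▸ hc
    have hzv : S.inV z := Or.inr (Or.inl rfl)
    have hga : S.inV (g * a * g⁻¹) := by
      rcases hs with e | e
      · exact e ▸ hzv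
      · have : g * a * g⁻¹ = z * (g * z * g⁻¹) := by
          calc g * a * g⁻¹ = g * a * g⁻¹ * (g * z * g⁻¹) * (g * z * g⁻¹) := by
                rw [mul_assoc (g * a * g⁻¹), (S.map g).z2, mul_one]
            _ = z * (g * z * g⁻¹) := by rw [← e]
        exact this ▸ S.inV_mul hzv hzc
    refine ⟨g, hg, fun x hx => ?_⟩
    rcases hx with h | h | h | h <;> rw [h]
    exacts [Or.inl rfl, hzc, hga, S.inV_mul hga hzc]

variable {X : Subgroup G}

theorem three_ne_V {r : G} (r3 : r ^ 3 = 1) {x : G} (hx : S.inV x) (hxr : x ∈ Subgroup.zpowers r) :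
    x = 1 := by
  obtain ⟨k, hk⟩ := Subgroup.mem_zpowers_iff.1 hxr
  have h3 : x ^ 3 = 1 := by
    rw [← hk, ← zpow_natCast, ← zpow_mul, mul_comm, zpow_mul, zpow_natCast, r3, one_zpow]
  rwa [pow_succ, pow_two, S.inV_sq hx, one_mul] at h3

/-- the centraliser of `r` modulo `r` has a self-centralising four group -/
theorem three_cent_pair (hza : IsConj z a) (K : Kill S X) {r : G} (hr : r ∈ Cz z) (r3 : r ^ 3 = 1)
    (r1 : r ≠ 1) {c : G} (hc : S.inV c) (hc1 : c ≠ 1) {d : G} (hdX : d ∈ X) (hdr : d * r = r * d)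
    (hcomm : d * c * d⁻¹ * c⁻¹ ∈ Subgroup.zpowers r) :
    ∃ x, S.inV x ∧ d * x⁻¹ ∈ Subgroup.zpowers r := by
  have hrc : r * c = c * r := by
    rcases hc with h | h | h | h <;> rw [h]
    · group
    · exact mem_Cz.1 hr
    · exact S.three_a hr r3
    · exact (Commute.mul_right (show Commute r a from S.three_a hr r3) (show Commute r z from mem_Cz.1 hr)).eq
  obtain ⟨k, hk⟩ := Subgroup.mem_zpowers_iff.1 hcomm
  have hdc : d * c * d⁻¹ = r ^ k * c := by rw [hk]; group
  have hk1 : r ^ k = 1 := by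
    have h2 : r ^ k * c * (r ^ k * c) = 1 := by
      rw [← hdc, ← S.conj_mul, S.inV_sq hc]; group
    have hcm : Commute (r ^ k) c := (show Commute r c from hrc).zpow_left k
    rw [hcm.symm.mul_mul_mul_comm, S.inV_sq hc, mul_one] at h2
    have h3 : (r ^ k) ^ 3 = 1 := by rw [← zpow_natCast, ← zpow_mul, mul_comm, zpow_mul, zpow_natCast, r3, one_zpow]
    rwa [pow_succ, pow_two, h2, one_mul] at h3
  rw [hk1, one_mul, mul_inv_eq_iff_eq_mul] at hdc
  obtain ⟨g, hg, hgV⟩ := S.V_setting hza hc hc1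
  obtain ⟨n, hn⟩ := (S.map g).cent_three (K.conjMap g) (r := r) (h := d)
    (by rw [mem_Cz, hg]; exact hrc) r3 r1 hdX (by rw [mem_Cz, hg]; exact hdc) hdr
  refine ⟨d * (r ^ n)⁻¹, hgV _ hn, ?_⟩
  rw [mul_inv_rev, inv_inv]
  have hcm : Commute d (r ^ n) := (show Commute d r from hdr).pow_right n
  rw [← mul_assoc, hcm.eq, mul_inv_cancel_right]
  exact Subgroup.pow_mem _ (Subgroup.mem_zpowers r) n

/-- the quotient of the centraliser of `r` -/
theorem three_quot (hza : IsConj z a) (K : Kill S X) {r : G} (hr : r ∈ Cz z) (r3 : r ^ 3 = 1) (r1 : r ≠ 1) :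
    S.fourV ≤ X ⊓ Cz r ∧ ∃ _hn : ((Subgroup.zpowers r).subgroupOf (X ⊓ Cz r)).Normal,
      ∃ W : Subgroup (↥(X ⊓ Cz r) ⧸ (Subgroup.zpowers r).subgroupOf (X ⊓ Cz r)),
        W = (S.fourV.subgroupOf (X ⊓ Cz r)).map
          (QuotientGroup.mk' ((Subgroup.zpowers r).subgroupOf (X ⊓ Cz r))) ∧
        Nat.card W = 4 ∧ (∀ w ∈ W, w * w = 1) ∧
        (∀ w ∈ W, w ≠ 1 → Subgroup.centralizer ({w} : Set _) = W) := by
  have hVD : S.fourV ≤ X ⊓ Cz r := fun x hx => ⟨K.U_le (S.inV_U hx), mem_Cz.2 (by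
    rcases (show S.inV x from hx) with h | h | h | h <;> rw [h]
    · group
    · exact (mem_Cz.1 hr).symm
    · exact (S.three_a hr r3).symm
    · exact (Commute.mul_left (show Commute a r from (S.three_a hr r3).symm)
        (show Commute z r from (mem_Cz.1 hr).symm)).eq)⟩
  have hn : ((Subgroup.zpowers r).subgroupOf (X ⊓ Cz r)).Normal := ⟨fun n hn d => by
    rw [Subgroup.mem_subgroupOf] at hn ⊢
    obtain ⟨k, hk⟩ := Subgroup.mem_zpowers_iff.1 hn
    show (d : G) * n * (d : G)⁻¹ ∈ _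
    rw [← hk, ((show Commute (d : G) r from mem_Cz.1 d.2.2).zpow_right k).eq, mul_inv_cancel_right]
    exact Subgroup.zpow_mem _ (Subgroup.mem_zpowers r) k⟩
  refine ⟨hVD, hn, ?_⟩
  exact quot_four hVD (fun x hx hxr => S.three_ne_V r3 hx hxr) S.card_V (fun x hx => S.inV_sq hx)
    fun c hc hc1 d hd h => by
      obtain ⟨x, hx, hdx⟩ := S.three_cent_pair hza K hr r3 r1 hc hc1 hd.1 (mem_Cz.1 hd.2) h
      exact ⟨x, hx, hdx⟩

/-- the centraliser of `r` in `X` has order at most 180 -/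
theorem three_le [Finite G] (hza : IsConj z a) (K : Kill S X) {r : G} (hr : r ∈ Cz z) (r3 : r ^ 3 = 1)
    (r1 : r ≠ 1) : Nat.card (X ⊓ Cz r : Subgroup G) ≤ 180 := by
  haveI : Fact (Nat.Prime 3) := ⟨Nat.prime_three⟩
  obtain ⟨hVD, hn, W, -, hW4, hW2, hWC⟩ := S.three_quot hza K hr r3 r1
  haveI := hn
  have hrD : Subgroup.zpowers r ≤ X ⊓ Cz r := Subgroup.zpowers_le.2 ⟨K.three r hr r3, mem_Cz.2 rfl⟩
  have hR : Nat.card ((Subgroup.zpowers r).subgroupOf (X ⊓ Cz r)) = 3 := by
    rw [Nat.card_congr (Subgroup.subgroupOfEquivOfLe hrD).toEquiv, Nat.card_zpowers, orderOf_eq_prime r3 r1]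
  rw [Subgroup.card_eq_card_quotient_mul_card_subgroup ((Subgroup.zpowers r).subgroupOf (X ⊓ Cz r)), hR]
  by_cases htop : W = ⊤
  · rw [← Subgroup.card_top, ← htop, hW4]; norm_num
  rcases four_cases hW4 hW2 hWC htop with ⟨-, h⟩ | ⟨⟨e⟩⟩
  · rw [h]; norm_num
  · rw [Nat.card_congr e.toEquiv, CfsgLib.J2Type.card_alt5]

end Setting

end CfsgLib.MinusFourSymFour
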