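import Cfsg.Agent.Lib.MinusFourSymFour.Even
import Cfsg.Agent.Lib.MinusFourSymFour.Three

/-!
The subgroup of order nine in the normaliser of the four group and its action on the group of order sixty-four.
-/

set_option autoImplicit false
set_option linter.unusedSectionVars false
set_option linter.style.haveILetI false
set_option synthInstance.maxSize 2000
set_option synthInstance.maxHeartbeats 100000

namespace CfsgLib.MinusFourSymFour

theorem even_eight : ∀ σ : S5, σ 0 = 0 → Equiv.Perm.sign σ = 1 → σ ^ 8 = 1 → σ = 1 ∨ Dbl σ := by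
  decide +kernel

theorem even_no_inv : ∀ r : S5, r 0 = 0 → r * r * r = 1 → r ≠ 1 → ∀ σ : S5, σ 0 = 0 →
    Equiv.Perm.sign σ = 1 → σ * r ≠ r * r * σ := by decide +kernel

theorem dbl_sum : ∀ δ : S5, Dbl δ → ∀ c, b4 c (sv 0) = false →
    ad (act5 δ c) c = z4 ∨ ad (act5 δ c) c = sv 0 := by decide +kernel

theorem U_noncomm : ∃ c d, b4 c (sv 0) = false ∧ b4 d (sv 0) = false ∧ b4 c d = true := by decide +kernel

namespace Setting

variable {G : Type*} [Group G] {z : G} {E : Subgroup G} {v : G → B4} {π : G → S5} {a : G}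
  (S : Setting z E v π a) {X : Subgroup G} (D : Even S X)
include S

theorem p_pow {h : G} (hh : h ∈ Cz z) (n : ℕ) : π (h ^ n) = π h ^ n := by
  induction n with
  | zero => rw [pow_zero, pow_zero, S.p1]
  | succ n ih => rw [pow_succ, pow_succ, S.p_mul _ ((Cz z).pow_mem hh n) h hh, ih]

theorem inV_fix {u x : G} (hu : u ∈ S.U) (hx : S.inV x) : u * x = x * u := by
  rcases hx with e | e | e | e <;> rw [e]
  · group
  · exact mem_Cz.1 hu.1
  · exact hu.2.1
  · exact (Commute.mul_right (show Commute u a from hu.2.1) (show Commute u z from mem_Cz.1 hu.1)).eq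

include D

theorem mem_U_iff {u : G} : u ∈ S.U ↔ u ∈ X ∧ u ∈ Cz z ∧ u ^ 8 = 1 := by
  constructor
  · exact fun hu => ⟨D.U_le hu, hu.1, S.U_pow8 hu⟩
  · rintro ⟨hX, hC, h8⟩
    obtain ⟨ha, hs⟩ := (D.memH u hC).1 hX
    exact ⟨hC, ha, even_eight _ (S.p_zero u hC) hs (by rw [← S.p_pow hC, h8, S.p1])⟩

theorem norm_inV {n : G} (hn : n ∈ X ⊓ Subgroup.normalizer (S.fourV : Set G)) {y : G} (hy : S.inV y) :
    S.inV (n * y * n⁻¹) := (Subgroup.mem_normalizer_iff.1 hn.2 y).1 hy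

/-- the cube of an element normalising the four group fixes `z` -/
theorem cube_fix {n : G} (hn : n ∈ X ⊓ Subgroup.normalizer (S.fourV : Set G)) : n ^ 3 ∈ Cz z := by
  set c1 := n * z * n⁻¹ with hc1
  by_cases h0 : c1 = z
  · exact (Cz z).pow_mem (mem_Cz.2 (mul_inv_eq_iff_eq_mul.1 h0)) 3
  set c2 := n * c1 * n⁻¹ with hc2
  set c3 := n * c2 * n⁻¹ with hc3
  have v1 : S.inV c1 := S.norm_inV D hn (Or.inr (Or.inl rfl))
  have v2 : S.inV c2 := S.norm_inV D hn v1
  have v3 : S.inV c3 := S.norm_inV D hn v2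
  have ne1 : ∀ x : G, x ≠ 1 → n * x * n⁻¹ ≠ 1 := fun x hx e => hx (conj_eq_one_iff.1 e)
  have n1 : c1 ≠ 1 := ne1 z S.z1
  have n2 : c2 ≠ 1 := ne1 c1 n1
  have n3 : c3 ≠ 1 := ne1 c2 n2
  have moved : ∀ c : G, S.inV c → c ≠ 1 → n * c * n⁻¹ ≠ c := fun c hc hc1' e => h0 (by
    rw [hc1, S.fix_all D hn.1 hc hc1' (mul_inv_eq_iff_eq_mul.1 e), mul_inv_cancel_right])
  have h12 : c2 ≠ c1 := moved c1 v1 n1
  have h23 : c3 ≠ c2 := moved c2 v2 n2
  have h2z : c2 ≠ z := fun e => by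
    have hc : S.inV (c1 * z) := S.inV_mul v1 (Or.inr (Or.inl rfl))
    refine moved (c1 * z) hc (fun e' => h0 (by rw [eq_inv_of_mul_eq_one_left e', S.zinv])) ?_
    rw [S.conj_mul, ← hc2, e, ← hc1]
    exact mem_Cz.1 (S.ecz _ (S.inV_mem v1)) |>.symm
  have h31 : c3 ≠ c1 := fun e => h2z (mul_left_cancel (mul_right_cancel (e : n * c2 * n⁻¹ = n * z * n⁻¹)))
  have h3 : c3 = z := by
    rcases v1.resolve_left n1 with e1 | e1 | e1
    · exact absurd e1 h0
    all_goals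
      rcases v2.resolve_left n2 with e2 | e2 | e2
      · exact absurd e2 h2z
      all_goals
        rcases v3.resolve_left n3 with e3 | e3 | e3
        · exact e3
        all_goals
          first
            | exact absurd (e2.trans e1.symm) h12
            | exact absurd (e3.trans e1.symm) h31
            | exact absurd (e3.trans e2.symm) h23
  rw [mem_Cz, ← mul_inv_eq_iff_eq_mul]
  calc n ^ 3 * z * (n ^ 3)⁻¹ = n * (n * (n * z * n⁻¹) * n⁻¹) * n⁻¹ := by
        simp only [pow_succ, pow_zero, one_mul, mul_inv_rev, mul_assoc]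
    _ = c3 := by rw [hc3, hc2]
    _ = z := h3

theorem norm_U {n u : G} (hn : n ∈ X ⊓ Subgroup.normalizer (S.fourV : Set G)) (hu : u ∈ S.U) :
    n * u * n⁻¹ ∈ S.U := by
  refine (S.mem_U_iff D).2 ⟨X.mul_mem (X.mul_mem hn.1 (D.U_le hu)) (X.inv_mem hn.1), ?_, ?_⟩
  · have h := S.norm_inV D ((X ⊓ _).inv_mem hn) (y := z) (Or.inr (Or.inl rfl))
    rw [inv_inv] at h
    rw [mem_Cz]
    calc n * u * n⁻¹ * z = n * (u * (n⁻¹ * z * n)) * n⁻¹ := by group
      _ = n * (n⁻¹ * z * n * u) * n⁻¹ := by rw [S.inV_fix hu h]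
      _ = z * (n * u * n⁻¹) := by group
  · rw [conj_pow, S.U_pow8 hu]; group

/-- an involution inducing a given double transposition -/
theorem dbl_lift {δ : S5} (hδ : Dbl δ) : ∃ d ∈ S.U, d * d = 1 ∧ π d = δ := by
  obtain ⟨d, hd, d2, hdd⟩ := S.exists_dbl D.hza
  obtain ⟨σ, hσ0, hσ⟩ := dbl_conj _ _ hdd hδ
  obtain ⟨g, hg, rfl⟩ := S.p_surj σ hσ0
  have hC : g * d * g⁻¹ ∈ Cz z := (Cz z).mul_mem ((Cz z).mul_mem hg hd) ((Cz z).inv_mem hg)
  have hp : π (g * d * g⁻¹) = δ := by rw [S.p_conj hg hd, hσ, mul_inv_cancel_right]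
  have h2 : g * d * g⁻¹ * (g * d * g⁻¹) = 1 := by rw [← S.conj_mul, d2]; group
  exact ⟨_, S.dbl_U hC h2 (hp.symm ▸ hδ), h2, hp⟩

/-- squares in `U` lie in the four group -/
theorem U_sq {u : G} (hu : u ∈ S.U) : S.inV (u * u) := by
  rcases hu.2.2 with e | e
  · rcases S.sq u ((S.p_one u hu.1).1 e) with h | h
    · exact Or.inl h
    · exact Or.inr (Or.inl h)
  · obtain ⟨d, hdU, d2, hd⟩ := S.dbl_lift D e
    have hU : d * u ∈ S.U := S.U.mul_mem hdU hu
    have hx : d * u ∈ E := (S.p_one _ hU.1).1 (by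
      rw [S.p_mul d hdU.1 u hu.1, hd, ← S.p_mul u hu.1 u hu.1]
      exact (S.p_mul u hu.1 u hu.1).trans e.2.1)
    set x := d * u
    have huu : u * u = d * x * d⁻¹ * x := by
      rw [inv_eq_of_mul_eq_one_right d2, show d * x * d * x = d * d * u * (d * d) * u by simp only [x]; group, d2]
      group
    have hxd : d * x * d⁻¹ ∈ E := S.enorm d hdU.1 x hx
    rw [huu]
    refine S.inV_of_v (E.mul_mem hxd hx) ?_
    rw [S.v_mul _ hxd x hx, S.p_act d hdU.1 x hx, hd]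
    exact dbl_sum _ e _ (by rw [← S.va]; exact S.bit_comm hx S.aE hU.2.1)

theorem U_noncomm' : ∃ u ∈ S.U, ∃ w ∈ S.U, u * w ≠ w * u := by
  obtain ⟨c, d, hc, hd, hcd⟩ := U_noncomm
  obtain ⟨x, hx, rfl⟩ := S.v_surj c
  obtain ⟨y, hy, rfl⟩ := S.v_surj d
  exact ⟨x, S.E_U hx (S.commE hx S.aE (by rw [S.va]; exact hc)), y,
    S.E_U hy (S.commE hy S.aE (by rw [S.va]; exact hd)), fun e => by
      rw [S.bit_comm hx hy e] at hcd; exact Bool.noConfusion hcd⟩

theorem no_inv_local {n r : G} (hn : n ∈ X ⊓ Subgroup.normalizer (S.fourV : Set G)) (hr : r ∈ Cz z)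
    (r3 : r ^ 3 = 1) (r1 : r ≠ 1) : n * r * n⁻¹ ≠ r⁻¹ := by
  intro e
  have h3 : n ^ 3 * r * (n ^ 3)⁻¹ = r⁻¹ := by
    calc n ^ 3 * r * (n ^ 3)⁻¹ = n * (n * (n * r * n⁻¹) * n⁻¹) * n⁻¹ := by
          simp only [pow_succ, pow_zero, one_mul, mul_inv_rev, mul_assoc]
      _ = n * (n * r⁻¹ * n⁻¹) * n⁻¹ := by rw [e]
      _ = n * (n * r * n⁻¹)⁻¹ * n⁻¹ := by group
      _ = n * r * n⁻¹ := by rw [congrArg (·⁻¹) e, inv_inv]
      _ = r⁻¹ := e
  have hC := S.cube_fix D hn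
  obtain ⟨p3, p1'⟩ := S.three_image hr r3 r1
  have hs := ((D.memH _ hC).1 (X.pow_mem hn.1 3)).2
  refine even_no_inv _ (S.p_zero r hr) p3 p1' _ (S.p_zero _ hC) hs ?_
  have h := congrArg π h3
  rw [S.p_conj hC hr, S.p_inv hr, mul_inv_eq_iff_eq_mul] at h
  rw [h, ← eq_inv_of_mul_eq_one_left p3]

variable {r : G} (hr : r ∈ Cz z) (r3 : r ^ 3 = 1) (r1 : r ≠ 1)
include hr r3 r1

/-- the centraliser of `r` in `U` is the four group -/
theorem U_cent_r {u : G} (hu : u ∈ S.U) (h : u * r = r * u) : S.inV u := by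
  obtain ⟨n, hn⟩ := S.cent_three D.toKill hr r3 r1 (D.U_le hu) hu.1 h
  have hx : r ^ n ∈ S.U := by
    have := S.U.mul_mem (S.U.inv_mem (S.inV_U hn)) hu
    rwa [show (u * (r ^ n)⁻¹)⁻¹ * u = r ^ n by group] at this
  have h1 : r ^ n = 1 := by
    have h8 := S.U_pow8 hx
    have h3 : (r ^ n) ^ 3 = 1 := by rw [← pow_mul, mul_comm, pow_mul, r3, one_pow]
    calc r ^ n = ((r ^ n) ^ 3) ^ 3 * ((r ^ n) ^ 8)⁻¹ := by group
      _ = 1 := by rw [h8, h3]; group
  rwa [h1, inv_one, mul_one] at hn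

/-- the three-part of `X ∩ C(z)` -/
theorem XH_three [Finite G] {x : G} (hx : x ∈ X) (hxC : x ∈ Cz z) (x3 : x ^ 3 = 1) (x1 : x ≠ 1) :
    ∃ h ∈ X, h ∈ Cz z ∧ (x = h * r * h⁻¹ ∨ x = h * r⁻¹ * h⁻¹) := by
  haveI : Fact (Nat.Prime 3) := ⟨Nat.prime_three⟩
  set K := X ⊓ Cz z
  have hcard : Nat.card K = 192 := S.card_XH D
  have hrK : r ∈ K := ⟨D.three r hr r3, hr⟩
  have key : ∀ y : K, y ≠ 1 → y ^ 3 = 1 → ∃ P : Sylow 3 K, (P : Subgroup K) = Subgroup.zpowers y := by
    intro y y1 y3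
    have hc : Nat.card (Subgroup.zpowers y) = 3 := by rw [Nat.card_zpowers, orderOf_eq_prime y3 y1]
    obtain ⟨P, hP⟩ := (IsPGroup.of_card (p := 3) (n := 1) (by rw [hc, pow_one])).exists_le_sylow
    refine ⟨P, (Subgroup.eq_of_le_of_card_ge hP ?_).symm⟩
    rw [hc, Sylow.card_eq_multiplicity, hcard]
    have : (192 : ℕ).factorization 3 ≤ 1 := by
      by_contra h
      have h9 : 3 ^ 2 ∣ 192 := (Nat.prime_three.pow_dvd_iff_le_factorization (by norm_num)).2 (by omega)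
      norm_num at h9
    calc 3 ^ (192 : ℕ).factorization 3 ≤ 3 ^ 1 := Nat.pow_le_pow_right (by norm_num) this
      _ = 3 := pow_one 3
  obtain ⟨P, hP⟩ := key ⟨r, hrK⟩ (fun e => r1 (congrArg Subtype.val e)) (Subtype.ext r3)
  obtain ⟨Q, hQ⟩ := key ⟨x, hx, hxC⟩ (fun e => x1 (congrArg Subtype.val e)) (Subtype.ext x3)
  obtain ⟨h, hh⟩ := MulAction.exists_smul_eq K P Q
  have hQx : (⟨x, hx, hxC⟩ : K) ∈ ((h • P : Sylow 3 K) : Subgroup K) := by
    rw [hh, hQ]; exact Subgroup.mem_zpowers _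
  rw [Sylow.coe_subgroup_smul, Subgroup.mem_pointwise_smul_iff_inv_smul_mem, hP] at hQx
  obtain ⟨k, hk⟩ := Subgroup.mem_zpowers_iff.1 hQx
  have hk' : r ^ k = (h : G)⁻¹ * x * h := by
    have := congrArg Subtype.val hk
    simpa [MulAut.smul_def, Subgroup.coe_zpow] using this
  have hx' : x = (h : G) * r ^ k * (h : G)⁻¹ := by rw [hk']; group
  refine ⟨h, h.2.1, h.2.2, ?_⟩
  have hmod : r ^ k = r ^ (k % 3) := by
    conv_lhs => rw [← Int.emod_add_mul_ediv k 3, zpow_add, zpow_mul, show r ^ (3 : ℤ) = 1 from mod_cast r3,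
      one_zpow, mul_one]
  rcases (show k % 3 = 0 ∨ k % 3 = 1 ∨ k % 3 = 2 by omega) with e | e | e <;> rw [hmod, e] at hx'
  · exact absurd (by rw [hx', zpow_zero]; group) x1
  · exact Or.inl (by rw [hx', zpow_one])
  · refine Or.inr ?_
    rw [hx', zpow_two, eq_inv_of_mul_eq_one_left (show r * r * r = 1 by
      rw [← r3]; simp only [pow_succ, pow_zero, one_mul])]

/-- an element of `X` of order three commuting with an involution is conjugate to `r` or to its inverse -/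
theorem three_invol [Finite G] {x c : G} (hx : x ∈ X) (x3 : x ^ 3 = 1) (x1 : x ≠ 1) (hc : c ∈ X)
    (c2 : c * c = 1) (c1 : c ≠ 1) (hxc : x * c = c * x) :
    ∃ g ∈ X, x = g * r * g⁻¹ ∨ x = g * r⁻¹ * g⁻¹ := by
  obtain ⟨y, hy, hyc⟩ := S.X_invol D hc c2 c1
  have hC : y⁻¹ * x * y ∈ Cz z := by
    rw [mem_Cz]
    calc y⁻¹ * x * y * z = y⁻¹ * (x * (y * z * y⁻¹)) * y := by group
      _ = y⁻¹ * (y * z * y⁻¹ * x) * y := by rw [hyc, hxc]
      _ = z * (y⁻¹ * x * y) := by group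
  obtain ⟨h, hh, -, e⟩ := S.XH_three D hr r3 r1 (X.mul_mem (X.mul_mem (X.inv_mem hy) hx) hy) hC
    (by rw [show y⁻¹ * x * y = y⁻¹ * x * y⁻¹⁻¹ by rw [inv_inv], conj_pow, x3]; group)
    (fun e => x1 (by rwa [← inv_inv y, inv_inv y⁻¹, conj_eq_one_iff] at e))
  refine ⟨y * h, X.mul_mem hy hh, ?_⟩
  rcases e with e | e
  · exact Or.inl (by rw [show x = y * (y⁻¹ * x * y) * y⁻¹ by group, e]; group)
  · exact Or.inr (by rw [show x = y * (y⁻¹ * x * y) * y⁻¹ by group, e]; group)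

/-- the elements of order three of the normaliser of the four group -/
theorem exists_nine [Finite G] : ∃ σ ∈ X ⊓ Subgroup.normalizer (S.fourV : Set G),
    σ ^ 3 = 1 ∧ σ * r = r * σ ∧ σ ∉ Cz z := by
  classical
  haveI : Fact (Nat.Prime 3) := ⟨Nat.prime_three⟩
  set N := X ⊓ Subgroup.normalizer (S.fourV : Set G)
  have hrX : r ∈ X := D.three r hr r3
  have hrN : r ∈ N := S.XH_le_norm D ⟨hrX, hr⟩
  have hcard : Nat.card N = 576 := S.card_NXV D
  obtain ⟨P, hP⟩ := (IsPGroup.of_card (p := 3) (n := 1) (G := Subgroup.zpowers (⟨r, hrN⟩ : N))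
    (by rw [Nat.card_zpowers, orderOf_eq_prime (Subtype.ext r3) (fun e => r1 (congrArg Subtype.val e)),
      pow_one])).exists_le_sylow
  obtain ⟨k, hk⟩ := P.2.exists_card_eq
  have hidx := P.card_mul_index
  have hnd := P.not_dvd_index
  rw [hk, hcard] at hidx
  have hk2 : k = 2 := by
    have hle : k ≤ 2 := by
      by_contra h
      have h27 : 3 ^ 3 ∣ 576 := hidx ▸ (Nat.pow_dvd_pow 3 (by omega)).mul_right _
      norm_num at h27
    interval_cases k
    · rw [show (P : Subgroup N).index = 576 by simpa using hidx] at hnd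
      exact absurd (by norm_num) hnd
    · rw [show (P : Subgroup N).index = 192 by norm_num at hidx; omega] at hnd
      exact absurd (by norm_num) hnd
    · rfl
  have hP9 : Nat.card (P : Subgroup N) = 3 ^ 2 := by rw [hk, hk2]
  have hcomm := IsPGroup.commutative_of_card_eq_prime_sq hP9
  obtain ⟨y, hyP, hy⟩ : ∃ y ∈ (P : Subgroup N), y ∉ Subgroup.zpowers (⟨r, hrN⟩ : N) := by
    by_contra h
    push Not at h
    have := Subgroup.card_le_of_le (show (P : Subgroup N) ≤ Subgroup.zpowers ⟨r, hrN⟩ from h)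
    rw [hP9, Nat.card_zpowers, orderOf_eq_prime (Subtype.ext r3) (fun e => r1 (congrArg Subtype.val e))] at this
    norm_num at this
  have hyr : (y : G) * r = r * y := by
    have e := congrArg (fun t : (P : Subgroup N) => ((t : N) : G))
      (hcomm ⟨y, hyP⟩ ⟨⟨r, hrN⟩, hP (Subgroup.mem_zpowers _)⟩)
    simpa using e
  have hy9 : (y : G) ^ 9 = 1 := by
    have h : (⟨y, hyP⟩ : (P : Subgroup N)) ^ 9 = 1 := by
      have := pow_card_eq_one' (G := (P : Subgroup N)) (x := ⟨y, hyP⟩)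
      rwa [hP9] at this
    have := congrArg (fun t : (P : Subgroup N) => ((t : N) : G)) h
    simpa using this
  -- an element of the centraliser of `z` of this group is a power of `r`
  have hin : ∀ w : N, (w : G) ^ 3 = 1 → (w : G) * r = r * w → (w : G) ∈ Cz z →
      w ∈ Subgroup.zpowers (⟨r, hrN⟩ : N) := by
    intro w w3 hwr hwC
    obtain ⟨n, hn⟩ := S.cent_three D.toKill hr r3 r1 w.2.1 hwC hwr
    set x := (w : G) * (r ^ n)⁻¹
    have hx3 : x ^ 3 = 1 := by
      rw [((show Commute (w : G) r from hwr).pow_right n).inv_right.mul_pow, w3, inv_pow, ← pow_mul, mul_comm n,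
        pow_mul, r3, one_pow, inv_one, one_mul]
    have : x = 1 := by
      rwa [pow_succ, pow_two, S.inV_sq hn, one_mul] at hx3
    refine Subgroup.mem_zpowers_iff.2 ⟨n, Subtype.ext ?_⟩
    rw [zpow_natCast, SubmonoidClass.coe_pow]
    exact (mul_inv_eq_one.1 this).symm
  by_cases hy3 : (y : G) ^ 3 = 1
  · exact ⟨y, y.2, hy3, hyr, fun h => hy (hin y hy3 hyr h)⟩
  exfalso
  -- a free action of a cyclic group of order nine on sixty points
  have h3C := S.cube_fix D y.2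
  obtain ⟨j, hj⟩ := Subgroup.mem_zpowers_iff.1 (hin (y ^ 3)
    (by rw [SubmonoidClass.coe_pow, ← pow_mul]; exact hy9)
    (by rw [SubmonoidClass.coe_pow]; exact ((show Commute (y : G) r from hyr).pow_left 3).eq) h3C)
  have hj' : r ^ j = (y : G) ^ 3 := by simpa using congrArg Subtype.val hj
  have hr3y : ∀ u : G, (y : G) ^ 3 * u = u * (y : G) ^ 3 → u * r = r * u := by
    intro u hu
    have hjn : ¬ (3 : ℤ) ∣ j := by
      rintro ⟨m, rfl⟩
      rw [zpow_mul, show r ^ (3 : ℤ) = 1 from mod_cast r3, one_zpow] at hj'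
      exact hy3 hj'.symm
    have hc : Commute u (r ^ j) := hj'.symm ▸ hu.symm
    have h2 : r ^ (j * j) = r := by
      have hm : (j * j) % 3 = 1 := by
        rcases (show j % 3 = 1 ∨ j % 3 = 2 by omega) with e | e <;> simp [Int.mul_emod, e]
      rw [← Int.emod_add_mul_ediv (j * j) 3, hm, zpow_add, zpow_mul, show r ^ (3 : ℤ) = 1 from mod_cast r3,
        one_zpow, mul_one, zpow_one]
    have := hc.zpow_right j
    rw [← zpow_mul, h2] at this
    exact this.eq
  let T := {u : S.U // ¬ S.inV (u : G)}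
  have hmem : ∀ g : Subgroup.zpowers y, ∀ u : T,
      ((g : N) : G) * (u.1 : G) * ((g : N) : G)⁻¹ ∈ S.U ∧ ¬ S.inV (((g : N) : G) * (u.1 : G) * ((g : N) : G)⁻¹) := by
    intro g u
    refine ⟨S.norm_U D (g : N).2 u.1.2, fun h => u.2 ?_⟩
    have := S.norm_inV D (N.inv_mem (g : N).2) h
    rwa [show ((g : N) : G)⁻¹ * (((g : N) : G) * (u.1 : G) * ((g : N) : G)⁻¹) * ((g : N) : G)⁻¹⁻¹ = (u.1 : G) by
      group] at this
  letI : MulAction (Subgroup.zpowers y) T :=
    { smul := fun g u => ⟨⟨_, (hmem g u).1⟩, (hmem g u).2⟩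
      one_smul := fun u => Subtype.ext (Subtype.ext (by show (1 : G) * _ * (1 : G)⁻¹ = _; group))
      mul_smul := fun g h u => Subtype.ext (Subtype.ext (by
        show ((g : N) : G) * ((h : N) : G) * _ * (((g : N) : G) * ((h : N) : G))⁻¹ = _ * (_ * _ * _) * _
        group)) }
  have hord : orderOf y = 9 := by
    have := orderOf_eq_prime_pow (p := 3) (n := 1) (x := y)
      (fun e => hy3 (by simpa using congrArg Subtype.val e)) (Subtype.ext (by simpa using hy9))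
    simpa using this
  have hstab : ∀ u : T, MulAction.stabilizer (Subgroup.zpowers y) u = ⊥ := by
    intro u
    rw [eq_bot_iff]
    intro g hg
    by_contra hg1
    obtain ⟨m, hm⟩ := mem_powers_iff_mem_zpowers.2 g.2
    have hm' : y ^ m = (g : N) := hm
    have e : ((g : N) : G) * (u.1 : G) * ((g : N) : G)⁻¹ = u.1 :=
      congrArg (fun t : T => ((t.1 : S.U) : G)) (MulAction.mem_stabilizer_iff.1 hg)
    have hc : Commute ((y : G) ^ m) (u.1 : G) := by
      rw [← SubmonoidClass.coe_pow, hm']; exact mul_inv_eq_iff_eq_mul.1 e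
    have hm9 : m % 9 ≠ 0 := fun h0 => hg1 (Subgroup.mem_bot.2 (Subtype.ext (by
      rw [← hm', ← pow_mod_orderOf, hord, h0, pow_zero]; rfl)))
    obtain ⟨l, hl⟩ : ∃ l, m * l % 9 = 3 := by
      have : ∀ i : Fin 9, (i : ℕ) ≠ 0 → ∃ l : Fin 9, (i : ℕ) * l % 9 = 3 := by decide
      obtain ⟨l, hl⟩ := this ⟨m % 9, Nat.mod_lt _ (by norm_num)⟩ hm9
      exact ⟨l, by rw [Nat.mul_mod]; simpa [Nat.mul_mod] using hl⟩
    have h3 := hc.pow_left l
    rw [← pow_mul, ← Nat.mod_add_div (m * l) 9, pow_add, pow_mul, hy9, one_pow, mul_one, hl] at h3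
    exact u.2 (S.U_cent_r D hr r3 r1 u.1.2 (hr3y _ h3.eq))
  haveI : Fintype T := Fintype.ofFinite T
  have hT : Nat.card T = 60 := by
    haveI : Fintype S.U := Fintype.ofFinite S.U
    have h4 : Nat.card {u : S.U // S.inV (u : G)} = 4 := by
      rw [← S.card_V]
      exact Nat.card_congr
        ⟨fun u => ⟨u.1, u.2⟩, fun u => ⟨⟨u, S.inV_U u.2⟩, u.2⟩, fun u => rfl, fun u => rfl⟩
    have h64 := S.card_U
    simp only [Nat.card_eq_fintype_card] at h4 h64 ⊢
    rw [Fintype.card_subtype_compl, h4, h64]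
  have h9 := Nat.card_congr (MulAction.selfEquivOrbitsQuotientProd (fun u : T => hstab u))
  rw [hT, Nat.card_prod, Nat.card_zpowers, hord] at h9
  omega

end Setting

end CfsgLib.MinusFourSymFour
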