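import Cfsg.Agent.Lib.MinusFourSymFour.ThreeFour
import Cfsg.Agent.Lib.MinusFourSymFour.Alt5

/-!
The centraliser of `r` in `X` and the group of order nine centralised by a singular element outside `X`.
-/

set_option autoImplicit false
set_option linter.unusedSectionVars false
set_option linter.style.haveILetI false
set_option synthInstance.maxSize 2000
set_option synthInstance.maxHeartbeats 100000

namespace CfsgLib.MinusFourSymFour

namespace Setting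

variable {G : Type*} [Group G] {z : G} {E : Subgroup G} {v : G → B4} {π : G → S5} {a : G}
  (S : Setting z E v π a) {X : Subgroup G} (D : Even S X)
include S D

/-- the data in the centraliser of `r` -/
theorem three_data [Finite G] {r : G} (hr : r ∈ Cz z) (r3 : r ^ 3 = 1) (r1 : r ≠ 1) :
    Nat.card (X ⊓ Cz r : Subgroup G) = 180 ∧ ∃ σ b : G, σ ∈ X ∧ Nine σ r ∧ z * σ * z⁻¹ = σ⁻¹ ∧
      b ∈ E ∧ (∃ i : Fin 5, i ≠ 0 ∧ v b = sv i) ∧ b * r = r * b ∧ b * σ = σ * b := by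
  classical
  obtain ⟨τ, hτN, τ3, hτr, hτz⟩ := S.exists_nine D hr r3 r1
  have hτout : τ ∉ Subgroup.zpowers r := fun h => hτz (Subgroup.zpowers_le.2 hr h)
  have T : Nine τ r := ⟨τ3, r3, r1, hτr, hτout⟩
  have hrX : r ∈ X := D.three r hr r3
  have hRD : T.grp ≤ X ⊓ Cz r := T.grp_le ⟨hτN.1, mem_Cz.2 hτr⟩ ⟨hrX, mem_Cz.2 rfl⟩
  have h9 : 9 ∣ Nat.card (X ⊓ Cz r : Subgroup G) := T.card_grp ▸ Subgroup.card_dvd_of_le hRD
  obtain ⟨hVD, hcase⟩ := S.cent_r_cases D hr r3 r1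
  rcases hcase with h | ⟨h36, hinv⟩ | ⟨h180, hn, ⟨e⟩⟩
  · rw [h] at h9; norm_num at h9
  · exact (S.not_small D hr r3 r1 hτN T hτz hinv h36).elim
  refine ⟨h180, ?_⟩
  haveI := hn
  obtain ⟨p3, p1'⟩ := S.three_image hr r3 r1
  obtain ⟨i, hi, hpi⟩ := three_point _ (S.p_zero r hr) p3 p1'
  obtain ⟨b, hb, hvb⟩ := S.v_surj (sv i)
  have hbr : r * b = b * r := S.three_commute hr r3 hb hvb hpi
  have b2 : b * b = 1 := by rw [S.v_sq b hb, hvb, (sv_facts.1 i).1]; rfl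
  have hbi : b⁻¹ = b := inv_eq_of_mul_eq_one_right b2
  have hba : b * a * b = a * z := by
    have := S.anti hb S.aE (by rw [hvb, S.va, b4_sv i hi])
    rwa [hbi] at this
  have hbz : b * z = z * b := mem_Cz.1 (S.ecz b hb)
  -- the quotient of the centraliser of `r` by `r`
  haveI hnr : ((Subgroup.zpowers r).subgroupOf (Cz r)).Normal := ⟨fun n hn d => by
    rw [Subgroup.mem_subgroupOf] at hn ⊢
    obtain ⟨k, hk⟩ := Subgroup.mem_zpowers_iff.1 hn
    show (d : G) * n * (d : G)⁻¹ ∈ _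
    rw [← hk, ((show Commute (d : G) r from mem_Cz.1 d.2).zpow_right k).eq, mul_inv_cancel_right]
    exact Subgroup.zpow_mem _ (Subgroup.mem_zpowers r) k⟩
  let q := QuotientGroup.mk' ((Subgroup.zpowers r).subgroupOf (Cz r))
  let f : ↥(X ⊓ Cz r) →* ↥(Cz r) ⧸ (Subgroup.zpowers r).subgroupOf (Cz r) :=
    q.comp (Subgroup.inclusion inf_le_right)
  have hker : (Subgroup.zpowers r).subgroupOf (X ⊓ Cz r) = f.ker := by
    ext x
    simp [f, q, MonoidHom.mem_ker, QuotientGroup.eq_one_iff, Subgroup.mem_subgroupOf]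
  let eB : f.range ≃* alternatingGroup (Fin 5) :=
    ((QuotientGroup.quotientKerEquivRange f).symm.trans (QuotientGroup.quotientMulEquivOfEq hker).symm).trans e
  have qeq : ∀ {x y : Cz r}, q x = q y ↔ (x : G)⁻¹ * y ∈ Subgroup.zpowers r := fun {x y} => by
    simp [q, QuotientGroup.eq, Subgroup.mem_subgroupOf]
  have q1 : ∀ {x : Cz r}, q x = 1 ↔ (x : G) ∈ Subgroup.zpowers r := fun {x} => by
    simp [q, QuotientGroup.eq_one_iff, Subgroup.mem_subgroupOf]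
  have hzD := hVD (show z ∈ S.fourV from Or.inr (Or.inl rfl))
  have haD := hVD (show a ∈ S.fourV from Or.inr (Or.inr (Or.inl rfl)))
  set s := q ⟨b, mem_Cz.2 hbr.symm⟩
  set vz := q ⟨z, hzD.2⟩
  set w := q ⟨a, haD.2⟩
  have hnorm : ∀ x ∈ f.range, s * x * s ∈ f.range := by
    rintro _ ⟨y, rfl⟩
    have hy : b * (y : G) * b ∈ X ⊓ Cz r := by
      refine ⟨?_, (Cz r).mul_mem ((Cz r).mul_mem (mem_Cz.2 hbr.symm) y.2.2) (mem_Cz.2 hbr.symm)⟩
      have := D.normal.conj_mem _ y.2.1 b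
      rwa [hbi] at this
    refine ⟨⟨_, hy⟩, ?_⟩
    show q _ = s * q _ * s
    rw [← map_mul, ← map_mul]
    rfl
  obtain ⟨u, ⟨u', hu'⟩, u2, u1, u3, une, hsu⟩ := fixed_three eB (s := s) (v := vz) (w := w)
    (by rw [← map_mul, show (⟨b, mem_Cz.2 hbr.symm⟩ : Cz r) * ⟨b, mem_Cz.2 hbr.symm⟩ = 1 from Subtype.ext b2,
      map_one])
    hnorm ⟨⟨z, hzD⟩, rfl⟩
    (by rw [← map_mul, show (⟨z, hzD.2⟩ : Cz r) * ⟨z, hzD.2⟩ = 1 from Subtype.ext S.z2, map_one])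
    (fun h => S.z1 (S.three_ne_V r3 (Or.inr (Or.inl rfl)) (q1.1 h)))
    ⟨⟨a, haD⟩, rfl⟩
    (by rw [← map_mul, show (⟨a, haD.2⟩ : Cz r) * ⟨a, haD.2⟩ = 1 from Subtype.ext S.a2, map_one])
    (fun h => S.a1 (S.three_ne_V r3 (Or.inr (Or.inr (Or.inl rfl))) (q1.1 h)))
    (fun h => by
      have h' := S.three_ne_V r3 (S.inV_mul (S.inV_inv (Or.inr (Or.inr (Or.inl rfl)))) (Or.inr (Or.inl rfl)))
        (qeq.1 h)
      exact S.az_ne (inv_mul_eq_one.1 h'))
    (by rw [← map_mul, ← map_mul]; exact congrArg q (Subtype.ext S.za))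
    (by
      rw [← map_mul, ← map_mul]
      exact congrArg q (Subtype.ext (show b * z * b = z by rw [hbz, mul_assoc, b2, mul_one])))
    (by
      rw [← map_mul, ← map_mul, ← map_mul]
      exact congrArg q (Subtype.ext (show b * a * b = z * a by rw [hba, S.za])))
  -- lifts
  have hcube : ∀ x : G, x * r = r * x → x * x ∈ Subgroup.zpowers r → x ^ 3 * x ^ 3 = 1 := by
    intro x hx h
    obtain ⟨k, hk⟩ := Subgroup.mem_zpowers_iff.1 h
    calc x ^ 3 * x ^ 3 = (x * x) ^ 3 := by rw [← pow_two x, ← pow_mul, ← pow_add]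
      _ = 1 := by rw [← hk, ← zpow_natCast, ← zpow_mul, mul_comm, zpow_mul, zpow_natCast, r3, one_zpow]
  set d := (u' : G) ^ 3 with hd
  have hdD : d ∈ X ⊓ Cz r := (X ⊓ Cz r).pow_mem u'.2 3
  have hqd : q ⟨d, hdD.2⟩ = u := by
    rw [show (⟨d, hdD.2⟩ : Cz r) = ⟨(u' : G), u'.2.2⟩ ^ 3 from Subtype.ext rfl, map_pow]
    rw [show q ⟨(u' : G), u'.2.2⟩ = u from hu', pow_succ, pow_two, u2, one_mul]
  have d2 : d * d = 1 := by
    refine hcube _ (mem_Cz.1 u'.2.2) ?_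
    have h : q (⟨(u' : G), u'.2.2⟩ * ⟨(u' : G), u'.2.2⟩) = 1 := by
      rw [map_mul, show q ⟨(u' : G), u'.2.2⟩ = u from hu', u2]
    exact q1.1 h
  have hdr : d * r = r * d := mem_Cz.1 hdD.2
  have hbdb : b * d * b = d := by
    have hC : b * d * b ∈ Cz r := (Cz r).mul_mem ((Cz r).mul_mem (mem_Cz.2 hbr.symm) hdD.2) (mem_Cz.2 hbr.symm)
    have h : q ⟨d, hdD.2⟩ = q ⟨b * d * b, hC⟩ := by
      rw [show (⟨b * d * b, hC⟩ : Cz r) = ⟨b, mem_Cz.2 hbr.symm⟩ * ⟨d, hdD.2⟩ * ⟨b, mem_Cz.2 hbr.symm⟩ from rfl,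
        map_mul, map_mul, hqd]
      exact hsu.symm
    obtain ⟨k, hk⟩ := Subgroup.mem_zpowers_iff.1 (qeq.1 h)
    have e' : b * d * b = d * r ^ k := by rw [hk]; group
    have h2 : b * d * b * (b * d * b) = 1 := by
      rw [show b * d * b * (b * d * b) = b * d * (b * b) * d * b by group, b2, mul_one, mul_assoc b d d, d2,
        mul_one, b2]
    have hc : Commute d (r ^ k) := (show Commute d r from hdr).zpow_right k
    rw [e', hc.symm.mul_mul_mul_comm, d2, one_mul] at h2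
    have h3 : (r ^ k) ^ 3 = 1 := by
      rw [← zpow_natCast, ← zpow_mul, mul_comm, zpow_mul, zpow_natCast, r3, one_zpow]
    rw [pow_succ, pow_two, h2, one_mul] at h3
    rw [e', h3, mul_one]
  set σ := z * d with hσ
  have hσD : σ ∈ X ⊓ Cz r := (X ⊓ Cz r).mul_mem hzD hdD
  have hqσ : q ⟨σ, hσD.2⟩ = vz * u := by
    rw [show (⟨σ, hσD.2⟩ : Cz r) = ⟨z, hzD.2⟩ * ⟨d, hdD.2⟩ from rfl, map_mul, hqd]
  have di : d⁻¹ = d := inv_eq_of_mul_eq_one_right d2
  have hinvσ : z * σ * z⁻¹ = σ⁻¹ := by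
    rw [hσ, mul_inv_rev, di, S.zinv, ← mul_assoc, S.z2, one_mul]
  have hσr : σ * r = r * σ := mem_Cz.1 hσD.2
  have hσ3 : σ ^ 3 = 1 := by
    have h : q (⟨σ, hσD.2⟩ ^ 3) = 1 := by rw [map_pow, hqσ, u3]
    obtain ⟨k, hk⟩ := Subgroup.mem_zpowers_iff.1 (q1.1 h)
    have hk' : r ^ k = σ ^ 3 := hk
    have hfix : z * σ ^ 3 * z⁻¹ = σ ^ 3 := by
      rw [← hk', ((show Commute z r from (mem_Cz.1 hr).symm).zpow_right k).eq, mul_inv_cancel_right]
    rw [← conj_pow, hinvσ, inv_pow] at hfix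
    have h2 : σ ^ 3 * σ ^ 3 = 1 := by
      nth_rw 1 [← hfix]; exact inv_mul_cancel _
    have h3 : (σ ^ 3) ^ 3 = 1 := by
      rw [← hk', ← zpow_natCast, ← zpow_mul, mul_comm, zpow_mul, zpow_natCast, r3, one_zpow]
    rwa [pow_succ (σ ^ 3), pow_two, h2, one_mul] at h3
  refine ⟨σ, b, hσD.1, ⟨hσ3, r3, r1, hσr, fun h => ?_⟩, hinvσ, hb, ⟨i, hi, hvb⟩, hbr.symm, ?_⟩
  · exact une (hqσ.symm.trans (q1.2 h))
  · have hdb : b * d = d * b := by
      calc b * d = b * d * (b * b) := by rw [b2, mul_one]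
        _ = b * d * b * b := by group
        _ = d * b := by rw [hbdb]
    rw [hσ]
    exact ((show Commute b z from hbz).mul_right hdb).eq

end Setting

end CfsgLib.MinusFourSymFour
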