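import Cfsg.Agent.Lib.MinusFourSymFour.ThreeBase

/-!
The centraliser of `r` in `X` is not an extension of its cyclic group by the alternating group of degree four.
-/

set_option autoImplicit false
set_option linter.unusedSectionVars false
set_option linter.style.haveILetI false
set_option synthInstance.maxSize 2000
set_option synthInstance.maxHeartbeats 100000

open scoped Classical

namespace CfsgLib.MinusFourSymFour

/-- the exponents of a group of order nine -/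
abbrev I9 : Type := Fin 3 × Fin 3

theorem nine_sum : ∀ Q : Finset I9, (∀ p : I9, p ≠ 0 → p ∈ Q ∨ -p ∈ Q) → (∀ p ∈ Q, -p ∉ Q) →
    Q.sum id ≠ 0 := by decide +kernel

theorem nine_lines : ∀ (k m : Fin 3), k ≠ m → ∀ p : I9, (p = (1, k) ∨ p = -(1, k)) →
    ((1, m) : I9) ≠ p ∧ ((1, m) : I9) ≠ p + p := by decide +kernel

theorem nine_cases : ∀ p : I9, p ≠ 0 → p = (0, 1) ∨ p = -(0, 1) ∨ ∃ l : Fin 3, p = (1, l) ∨ p = -(1, l) := by
  decide +kernel

theorem fin3_cover : ∀ k m l : Fin 3, k ≠ m → l ≠ k → l ≠ m → ∀ j, j = k ∨ j = m ∨ j = l := by decide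

theorem nine_three : ∀ p : I9, p + p + p = 0 := by decide

variable {G : Type*} [Group G]

/-- the element with given exponents -/
def fe (σ r : G) (p : I9) : G := σ ^ (p.1 : ℕ) * r ^ (p.2 : ℕ)

/-- two commuting elements of order three generating a group of order nine -/
structure Nine (σ r : G) : Prop where
  s3 : σ ^ 3 = 1
  r3 : r ^ 3 = 1
  r1 : r ≠ 1
  comm : σ * r = r * σ
  out : σ ∉ Subgroup.zpowers r

namespace Nine

variable {σ r : G} (T : Nine σ r)
include T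

theorem fe_add (p q : I9) : fe σ r (p + q) = fe σ r p * fe σ r q := by
  have pm : ∀ (x : G), x ^ 3 = 1 → ∀ m : ℕ, x ^ (m % 3) = x ^ m := fun x hx m => by
    conv_rhs => rw [← Nat.mod_add_div m 3, pow_add, pow_mul, hx, one_pow, mul_one]
  have hc : Commute (r ^ (p.2 : ℕ)) (σ ^ (q.1 : ℕ)) := (show Commute r σ from T.comm.symm).pow_pow _ _
  rw [fe, fe, fe, Prod.fst_add, Prod.snd_add, Fin.val_add, Fin.val_add, pm σ T.s3, pm r T.r3, pow_add, pow_add,
    hc.mul_mul_mul_comm]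

theorem fe_zero : fe σ r 0 = 1 := by simp [fe]

theorem fe_neg (p : I9) : fe σ r (-p) = (fe σ r p)⁻¹ :=
  eq_inv_of_mul_eq_one_left (by rw [← T.fe_add, neg_add_cancel, T.fe_zero])

theorem fe_r : fe σ r (0, 1) = r := by simp [fe]

theorem fe_s : fe σ r (1, 0) = σ := by simp [fe]

theorem fe_ker {p : I9} (h : fe σ r p = 1) : p = 0 := by
  obtain ⟨i, j⟩ := p
  have hi : σ ^ (i : ℕ) ∈ Subgroup.zpowers r := by
    have : σ ^ (i : ℕ) = (r ^ (j : ℕ))⁻¹ := eq_inv_of_mul_eq_one_left h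
    rw [this]
    exact Subgroup.inv_mem _ (Subgroup.pow_mem _ (Subgroup.mem_zpowers r) _)
  have hi0 : i = 0 := by
    fin_cases i
    · rfl
    · simp only [pow_one] at hi; exact absurd hi T.out
    · refine absurd ?_ T.out
      have := Subgroup.pow_mem _ hi 2
      rw [← pow_mul] at this
      simpa [pow_succ, show σ * σ * σ = 1 by simpa [pow_succ] using T.s3] using this
  subst hi0
  simp only [fe, Fin.val_zero, pow_zero, one_mul] at h
  have hj := orderOf_dvd_of_pow_eq_one h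
  rw [orderOf_eq_prime (p := 3) T.r3 T.r1] at hj
  have : (j : ℕ) = 0 := Nat.eq_zero_of_dvd_of_lt hj j.2
  exact Prod.ext rfl (Fin.ext this)

theorem fe_inj : Function.Injective (fe σ r) := fun p q h => by
  have : fe σ r (p + -q) = 1 := by rw [T.fe_add, T.fe_neg, h, mul_inv_cancel]
  have := T.fe_ker this
  rwa [← sub_eq_add_neg, sub_eq_zero] at this

/-- the group of order nine -/
def grp (T : Nine σ r) : Subgroup G where
  carrier := Set.range (fe σ r)
  one_mem' := ⟨0, T.fe_zero⟩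
  mul_mem' := by rintro _ _ ⟨p, rfl⟩ ⟨q, rfl⟩; exact ⟨p + q, T.fe_add p q⟩
  inv_mem' := by rintro _ ⟨p, rfl⟩; exact ⟨-p, T.fe_neg p⟩

theorem card_grp : Nat.card T.grp = 9 := by
  show Nat.card (Set.range (fe σ r)) = 9
  rw [Nat.card_range_of_injective T.fe_inj]
  simp

theorem fe_comm (p q : I9) : fe σ r p * fe σ r q = fe σ r q * fe σ r p := by
  rw [← T.fe_add, ← T.fe_add, add_comm]

theorem grp_le {H : Subgroup G} (hs : σ ∈ H) (hr : r ∈ H) : T.grp ≤ H := by
  rintro _ ⟨p, rfl⟩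
  exact H.mul_mem (H.pow_mem hs _) (H.pow_mem hr _)

end Nine

namespace Setting

variable {z : G} {E : Subgroup G} {v : G → B4} {π : G → S5} {a : G}
  (S : Setting z E v π a) {X : Subgroup G} (D : Even S X)
include S

theorem norm_of_map [Finite G] {n : G} (h : ∀ y, S.inV y → S.inV (n * y * n⁻¹)) :
    n ∈ Subgroup.normalizer (S.fourV : Set G) := by
  refine Subgroup.mem_normalizer_iff.2 fun y => ⟨h y, fun hy => ?_⟩
  have hsub : S.fourV.map (MulAut.conj n).toMonoidHom ≤ S.fourV := by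
    rintro _ ⟨w, hw, rfl⟩; exact h w hw
  have heq := Subgroup.eq_of_le_of_card_ge hsub (by
    rw [Subgroup.card_map_of_injective (MulAut.conj n).injective])
  have hy : n * y * n⁻¹ ∈ S.fourV.map (MulAut.conj n).toMonoidHom := heq.symm ▸ hy
  obtain ⟨w, hw, hwe⟩ := hy
  exact (mul_left_cancel (mul_right_cancel (hwe : n * w * n⁻¹ = n * y * n⁻¹))) ▸ hw

theorem four_span [Finite G] {x y w : G} (hx : S.inV x) (hy : S.inV y) (hw : S.inV w) (x1 : x ≠ 1) (y1 : y ≠ 1)
    (hxy : x ≠ y) : w = 1 ∨ w = x ∨ w = y ∨ w = x * y := by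
  have n1 : x * y ≠ 1 := fun e => hxy
    (by rw [eq_inv_of_mul_eq_one_left e, inv_eq_of_mul_eq_one_right (S.inV_sq hy)])
  have n2 : x * y ≠ x := fun e => y1 (mul_eq_left.1 e)
  have n3 : x * y ≠ y := fun e => x1 (mul_eq_right.1 e)
  let k : Fin 4 → G := ![1, x, y, x * y]
  have hk : ∀ i, S.inV (k i) := by
    intro i; fin_cases i
    exacts [Or.inl rfl, hx, hy, S.inV_mul hx hy]
  let f : Fin 4 → S.fourV := fun i => ⟨k i, hk i⟩
  have hki : Function.Injective k := by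
    intro i j h
    fin_cases i <;> fin_cases j <;>
      simp [k, x1, x1.symm, y1, y1.symm, hxy, hxy.symm, n1, n1.symm, n2, n2.symm, n3, n3.symm] at h ⊢
  have hf : Function.Injective f := fun i j h => hki (congrArg Subtype.val h)
  have hsurj := (Function.Injective.bijective_of_nat_card_le hf (by rw [S.card_V, Nat.card_fin])).2
  obtain ⟨i, hi⟩ := hsurj ⟨w, hw⟩
  have hi' : (f i : G) = w := congrArg Subtype.val hi
  fin_cases i
  exacts [Or.inl hi'.symm, Or.inr (Or.inl hi'.symm), Or.inr (Or.inr (Or.inl hi'.symm)),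
    Or.inr (Or.inr (Or.inr hi'.symm))]

variable {r : G} (hr : r ∈ Cz z) (r3 : r ^ 3 = 1) (r1 : r ≠ 1)
include D hr r3 r1

/-- the possibilities for the centraliser of `r` in `X` -/
theorem cent_r_cases [Finite G] :
    S.fourV ≤ X ⊓ Cz r ∧ (Nat.card (X ⊓ Cz r : Subgroup G) = 12 ∨
      (Nat.card (X ⊓ Cz r : Subgroup G) = 36 ∧ ∀ u ∈ X ⊓ Cz r, u * u = 1 → S.inV u) ∨
      (Nat.card (X ⊓ Cz r : Subgroup G) = 180 ∧ ∃ _hn : ((Subgroup.zpowers r).subgroupOf (X ⊓ Cz r)).Normal,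
        Nonempty ((↥(X ⊓ Cz r) ⧸ (Subgroup.zpowers r).subgroupOf (X ⊓ Cz r)) ≃* alternatingGroup (Fin 5)))) := by
  haveI : Fact (Nat.Prime 3) := ⟨Nat.prime_three⟩
  obtain ⟨hVD, hn, W, hWdef, hW4, hW2, hWC⟩ := S.three_quot D.hza D.toKill hr r3 r1
  haveI := hn
  refine ⟨hVD, ?_⟩
  have hrD : Subgroup.zpowers r ≤ X ⊓ Cz r := Subgroup.zpowers_le.2 ⟨D.three r hr r3, mem_Cz.2 rfl⟩
  have hR : Nat.card ((Subgroup.zpowers r).subgroupOf (X ⊓ Cz r)) = 3 := by
    rw [Nat.card_congr (Subgroup.subgroupOfEquivOfLe hrD).toEquiv, Nat.card_zpowers, orderOf_eq_prime r3 r1]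
  rw [Subgroup.card_eq_card_quotient_mul_card_subgroup ((Subgroup.zpowers r).subgroupOf (X ⊓ Cz r)), hR]
  by_cases htop : W = ⊤
  · left; rw [← Subgroup.card_top, ← htop, hW4]
  right
  rcases four_cases hW4 hW2 hWC htop with ⟨hWn, h⟩ | ⟨⟨e⟩⟩
  · refine Or.inl ⟨by rw [h], fun u hu u2 => ?_⟩
    have hq := four_normal_invol hW4 hWC hWn
      (u := QuotientGroup.mk' ((Subgroup.zpowers r).subgroupOf (X ⊓ Cz r)) ⟨u, hu⟩)
      (by rw [← map_mul, show (⟨u, hu⟩ : ↥(X ⊓ Cz r)) * ⟨u, hu⟩ = 1 from Subtype.ext u2, map_one])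
    rw [hWdef] at hq
    obtain ⟨x, hx, hxe⟩ := hq
    obtain ⟨k, hk⟩ := Subgroup.mem_zpowers_iff.1 (Subgroup.mem_subgroupOf.1 (QuotientGroup.eq.1 hxe))
    have hxV : S.inV (x : G) := hx
    have hu' : u = (x : G) * r ^ k := by rw [hk]; simp
    have hc : Commute (x : G) (r ^ k) := (show Commute (x : G) r from mem_Cz.1 x.2.2).zpow_right k
    have h2 : r ^ k * r ^ k = 1 := by
      rw [hu', hc.symm.mul_mul_mul_comm, S.inV_sq hxV, one_mul] at u2
      exact u2
    have h3 : (r ^ k) ^ 3 = 1 := by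
      rw [← zpow_natCast, ← zpow_mul, mul_comm, zpow_mul, zpow_natCast, r3, one_zpow]
    rw [pow_succ, pow_two, h2, one_mul] at h3
    rw [hu', h3, mul_one]
    exact hxV
  · exact Or.inr ⟨by rw [Nat.card_congr e.toEquiv, CfsgLib.J2Type.card_alt5], hn, ⟨e⟩⟩

/-- `r` is not conjugate to its inverse in `X` -/
theorem no_inv [Finite G] {g : G} (hg : g ∈ X) : g * r * g⁻¹ ≠ r⁻¹ := by
  intro e
  haveI : Fact (Nat.Prime 2) := ⟨Nat.prime_two⟩
  obtain ⟨hVD, hcase⟩ := S.cent_r_cases D hr r3 r1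
  set DD := X ⊓ Cz r with hDD
  have hgD : S.fourV.map (MulAut.conj g).toMonoidHom ≤ DD := by
    rintro _ ⟨y, hy, rfl⟩
    show g * y * g⁻¹ ∈ DD
    have hyD := hVD hy
    refine ⟨X.mul_mem (X.mul_mem hg hyD.1) (X.inv_mem hg), mem_Cz.2 ?_⟩
    have hc : Commute y r⁻¹ := (show Commute y r from mem_Cz.1 hyD.2).inv_right
    have h1 : Commute (g * y * g⁻¹) (g * r⁻¹ * g⁻¹) := by
      show g * y * g⁻¹ * (g * r⁻¹ * g⁻¹) = g * r⁻¹ * g⁻¹ * (g * y * g⁻¹)
      rw [← S.conj_mul, ← S.conj_mul, hc.eq]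
    rw [show g * r⁻¹ * g⁻¹ = (g * r * g⁻¹)⁻¹ by group, e, inv_inv] at h1
    exact h1.eq
  have hsyl : ∀ W : Subgroup G, W ≤ DD → Nat.card W = 4 →
      ∃ P : Sylow 2 DD, (P : Subgroup DD) = W.subgroupOf DD := by
    intro W hW hW4
    have hc : Nat.card (W.subgroupOf DD) = 4 := by
      rw [Nat.card_congr (Subgroup.subgroupOfEquivOfLe hW).toEquiv, hW4]
    obtain ⟨P, hP⟩ := (IsPGroup.of_card (p := 2) (n := 2) (by rw [hc]; norm_num)).exists_le_sylow
    refine ⟨P, (Subgroup.eq_of_le_of_card_ge hP ?_).symm⟩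
    rw [hc, Sylow.card_eq_multiplicity]
    have : (Nat.card DD).factorization 2 ≤ 2 := by
      by_contra h
      have h8 : 2 ^ 3 ∣ Nat.card DD := (Nat.prime_two.pow_dvd_iff_le_factorization Nat.card_pos.ne').2 (by omega)
      rcases hcase with h' | ⟨h', -⟩ | ⟨h', -⟩ <;> rw [h'] at h8 <;> norm_num at h8
    calc 2 ^ (Nat.card DD).factorization 2 ≤ 2 ^ 2 := Nat.pow_le_pow_right (by norm_num) this
      _ = 4 := by norm_num
  obtain ⟨P, hP⟩ := hsyl S.fourV hVD S.card_V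
  obtain ⟨Q, hQ⟩ := hsyl _ hgD (by rw [Subgroup.card_map_of_injective (MulAut.conj g).injective, S.card_V])
  obtain ⟨d, hd⟩ := MulAction.exists_smul_eq DD Q P
  set n := (d : G) * g with hn
  have hmap : ∀ y, S.inV y → S.inV (n * y * n⁻¹) := by
    intro y hy
    have hyQ : (⟨g * y * g⁻¹, hgD ⟨y, hy, rfl⟩⟩ : DD) ∈ (Q : Subgroup DD) := by
      rw [hQ]; exact Subgroup.mem_subgroupOf.2 ⟨y, hy, rfl⟩
    have hyP : MulAut.conj d • (⟨g * y * g⁻¹, hgD ⟨y, hy, rfl⟩⟩ : DD) ∈ (P : Subgroup DD) := by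
      rw [← hd, Sylow.coe_subgroup_smul]
      exact Subgroup.smul_mem_pointwise_smul _ _ _ hyQ
    rw [hP] at hyP
    have h := Subgroup.mem_subgroupOf.1 hyP
    show n * y * n⁻¹ ∈ S.fourV
    simpa [hn, MulAut.smul_def, mul_assoc] using h
  refine S.no_inv_local D (n := n) ⟨X.mul_mem d.2.1 hg, S.norm_of_map hmap⟩ hr r3 r1 ?_
  have hdr : Commute (d : G) r⁻¹ := (show Commute (d : G) r from mem_Cz.1 d.2.2).inv_right
  rw [hn, show (d : G) * g * r * ((d : G) * g)⁻¹ = (d : G) * (g * r * g⁻¹) * (d : G)⁻¹ by group, e, hdr.eq,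
    mul_inv_cancel_right]

variable {σ : G} (hσN : σ ∈ X ⊓ Subgroup.normalizer (S.fourV : Set G)) (T : Nine σ r) (hσz : σ ∉ Cz z)
include hσN T hσz

theorem fe_N (p : I9) : fe σ r p ∈ X ⊓ Subgroup.normalizer (S.fourV : Set G) :=
  T.grp_le hσN (S.XH_le_norm D ⟨D.three r hr r3, hr⟩) ⟨p, rfl⟩

theorem fe_moves (k : Fin 3) : fe σ r (1, k) ∉ Cz z := fun h => hσz (by
  have : σ = fe σ r (1, k) * (r ^ (k : ℕ))⁻¹ := by simp [fe]
  rw [this]
  exact (Cz z).mul_mem h ((Cz z).inv_mem ((Cz z).pow_mem hr _)))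

theorem cent_tau {k : Fin 3} {u : G} (hu : u ∈ S.U) (h : u * fe σ r (1, k) = fe σ r (1, k) * u) : u * u = 1 := by
  by_contra h1
  refine S.fe_moves D hr r3 r1 hσN T hσz k (mem_Cz.2 ?_)
  exact S.fix_all D (S.fe_N D hr r3 r1 hσN T hσz _).1 (S.U_sq D hu) h1
    (((show Commute u (fe σ r (1, k)) from h).mul_left h).symm).eq

set_option maxHeartbeats 800000 in
/-- decomposition along the three other lines -/
theorem U_decomp [Finite G] {u : G} (hu : u ∈ S.U) : ∃ c : Fin 3 → G,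
    (∀ k, c k ∈ S.U ∧ c k * fe σ r (1, k) = fe σ r (1, k) * c k) ∧ S.inV ((c 0 * c 1 * c 2)⁻¹ * u) := by
  have hN := fun p => S.fe_N D hr r3 r1 hσN T hσz p
  haveI hVn : (S.fourV.subgroupOf S.U).Normal := ⟨fun n hn d => by
    rw [Subgroup.mem_subgroupOf] at hn ⊢
    show (d : G) * n * (d : G)⁻¹ ∈ S.fourV
    rwa [S.inV_fix d.2 hn, mul_inv_cancel_right]⟩
  let q := QuotientGroup.mk' (S.fourV.subgroupOf S.U)
  have hq : ∀ {x y : S.U}, q x = q y ↔ S.inV ((x : G)⁻¹ * y) := fun {x y} => by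
    simp only [q, QuotientGroup.mk'_apply, QuotientGroup.eq, Subgroup.mem_subgroupOf]
    rfl
  letI : CommGroup (S.U ⧸ S.fourV.subgroupOf S.U) :=
    { (inferInstance : Group (S.U ⧸ S.fourV.subgroupOf S.U)) with
      mul_comm := by
        have h2 : ∀ x : S.U ⧸ S.fourV.subgroupOf S.U, x * x = 1 := by
          intro x
          obtain ⟨w, rfl⟩ := QuotientGroup.mk'_surjective (S.fourV.subgroupOf S.U) x
          rw [← map_mul, QuotientGroup.mk'_apply, QuotientGroup.eq_one_iff, Subgroup.mem_subgroupOf]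
          exact S.U_sq D w.2
        intro x y
        exact four_abelian (W := ⊤) (fun w _ => h2 w) trivial trivial }
  let φ : I9 → S.U → S.U := fun p w => ⟨fe σ r p * w * (fe σ r p)⁻¹, S.norm_U D (hN p) w.2⟩
  have φq : ∀ p (x y : S.U), q x = q y → q (φ p x) = q (φ p y) := by
    intro p x y h
    rw [hq] at h ⊢
    have := S.norm_inV D (hN p) h
    show S.inV ((fe σ r p * x * (fe σ r p)⁻¹)⁻¹ * (fe σ r p * y * (fe σ r p)⁻¹))
    rwa [show (fe σ r p * x * (fe σ r p)⁻¹)⁻¹ * (fe σ r p * y * (fe σ r p)⁻¹) =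
      fe σ r p * ((x : G)⁻¹ * y) * (fe σ r p)⁻¹ by group]
  have φmul : ∀ p (x y : S.U), φ p (x * y) = φ p x * φ p y := fun p x y => Subtype.ext (by
    show fe σ r p * ((x : G) * y) * (fe σ r p)⁻¹ = _ * _ * _ * (_ * _ * _); group)
  have φcomp : ∀ p p' (x : S.U), φ p (φ p' x) = φ (p + p') x := fun p p' x => Subtype.ext (by
    show fe σ r p * (fe σ r p' * x * (fe σ r p')⁻¹) * (fe σ r p)⁻¹ = fe σ r (p + p') * x * (fe σ r (p + p'))⁻¹
    rw [T.fe_add]; group)
  have φzero : ∀ x : S.U, φ 0 x = x := fun x => Subtype.ext (by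
    show fe σ r 0 * x * (fe σ r 0)⁻¹ = x
    rw [T.fe_zero]; group)
  have fixed : ∀ p (x : S.U), q (φ p x) = q x → ∃ c : S.U, (c : G) * fe σ r p = fe σ r p * c ∧ q c = q x := by
    intro p x hx
    set t := fe σ r p
    have h1 := hq.1 hx.symm
    change S.inV ((x : G)⁻¹ * (t * x * t⁻¹)) at h1
    let f : S.fourV → S.fourV := fun y => ⟨(x : G)⁻¹ * (t * ((x : G) * y) * t⁻¹), by
      show S.inV _
      rw [show (x : G)⁻¹ * (t * ((x : G) * y) * t⁻¹) = (x : G)⁻¹ * (t * x * t⁻¹) * (t * y * t⁻¹) by group]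
      exact S.inV_mul h1 (S.norm_inV D (hN p) y.2)⟩
    have f3 : ∀ y, f (f (f y)) = y := fun y => Subtype.ext (by
      show (x : G)⁻¹ * (t * ((x : G) * ((x : G)⁻¹ * (t * ((x : G) * ((x : G)⁻¹ * (t * ((x : G) * y) * t⁻¹))) * t⁻¹))) * t⁻¹) = y
      have t3 : t * t * t = 1 := by
        simp only [t]
        rw [← T.fe_add, ← T.fe_add, nine_three, T.fe_zero]
      calc _ = (x : G)⁻¹ * (t * t * t * ((x : G) * y) * (t * t * t)⁻¹) := by group
        _ = y := by rw [t3]; group)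
    let e : Equiv.Perm S.fourV := ⟨f, f ∘ f, f3, f3⟩
    haveI : Fintype S.fourV := Fintype.ofFinite _
    haveI : Fact (Nat.Prime 3) := ⟨Nat.prime_three⟩
    obtain ⟨y, hy⟩ := Equiv.Perm.exists_fixed_point_of_prime (p := 3) (n := 1) (σ := e)
      (by rw [← Nat.card_eq_fintype_card, S.card_V]; norm_num)
      (by ext y; exact congrArg Subtype.val (f3 y))
    have hy' : (x : G)⁻¹ * (t * ((x : G) * y) * t⁻¹) = y := congrArg Subtype.val hy
    refine ⟨x * ⟨y, S.inV_U y.2⟩, ?_, ?_⟩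
    · show (x : G) * y * t = t * ((x : G) * y)
      rw [inv_mul_eq_iff_eq_mul] at hy'
      exact (mul_inv_eq_iff_eq_mul.1 hy').symm
    · rw [hq]
      show S.inV (((x : G) * y)⁻¹ * x)
      rw [show ((x : G) * y)⁻¹ * x = (y : G)⁻¹ by group]
      exact S.inV_inv y.2
  have three : ∀ p : I9, p + p + p = 0 := nine_three
  set w : S.U := ⟨u, hu⟩
  let Nm : I9 → S.U := fun p => w * φ p w * φ (p + p) w
  have Nfix : ∀ p, q (φ p (Nm p)) = q (Nm p) := by
    intro p
    have h3 : p + (p + p) = 0 := by rw [← add_assoc, three]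
    simp only [Nm, φmul, φcomp, h3, φzero, map_mul]
    rw [mul_comm (q (φ p w) * q (φ (p + p) w)), ← mul_assoc]
  obtain ⟨x, hxc, hxe⟩ := fixed _ _ (Nfix (0, 1))
  have hxV : S.inV (x : G) := S.U_cent_r D hr r3 r1 x.2 (by rwa [T.fe_r] at hxc)
  have hr1q : q (Nm (0, 1)) = 1 := by
    rw [← hxe, ← map_one q, hq]
    simpa using S.inV_inv hxV
  have hcol : ∀ i : Fin 3, q (φ (i, 0) w) * q (φ (i, 1) w) * q (φ (i, 2) w) = 1 := by
    intro i
    rw [← map_mul, ← map_mul]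
    have e1 : φ (i, 0) w * φ (i, 1) w * φ (i, 2) w = φ (i, 0) (Nm (0, 1)) := by
      simp only [Nm, φmul, φcomp]
      simp
    have e2 : φ (i, 0) 1 = 1 := Subtype.ext (by show fe σ r (i, 0) * (1 : G) * _ = 1; group)
    rw [e1, φq (i, 0) _ 1 (by rw [hr1q, map_one]), e2, map_one]
  have hc : ∀ k : Fin 3, ∃ c : S.U, (c : G) * fe σ r (1, k) = fe σ r (1, k) * c ∧ q c = q (Nm (1, k)) :=
    fun k => fixed _ _ (Nfix _)
  choose c hc hce using hc
  refine ⟨fun k => c k, fun k => ⟨(c k).2, hc k⟩, ?_⟩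
  have key : q (c 0 * c 1 * c 2) = q w := by
    simp only [map_mul, hce, Nm]
    have e1 := hcol 1
    have e2 := hcol 2
    have hw3 : q w * q w * q w = q w := by
      rw [← map_mul q w w, show q (w * w) = 1 by
        rw [← map_one q, hq]
        show S.inV ((u * u)⁻¹ * 1)
        rw [mul_one]
        exact S.inV_inv (S.U_sq D hu), one_mul]
    calc _ = q w * q w * q w * (q (φ (1, 0) w) * q (φ (1, 1) w) * q (φ (1, 2) w)) *
          (q (φ (2, 0) w) * q (φ (2, 1) w) * q (φ (2, 2) w)) := by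
          rw [show ((1, 0) : I9) + (1, 0) = (2, 0) by decide, show ((1, 1) : I9) + (1, 1) = (2, 2) by decide,
            show ((1, 2) : I9) + (1, 2) = (2, 1) by decide]
          ac_rfl
      _ = q w := by rw [e1, e2, mul_one, mul_one, hw3]
  exact hq.1 key

/-- two non-commuting elements on different lines -/
theorem exists_pair [Finite G] : ∃ k m : Fin 3, k ≠ m ∧ ∃ c ∈ S.U, ∃ d ∈ S.U,
    c * fe σ r (1, k) = fe σ r (1, k) * c ∧ d * fe σ r (1, m) = fe σ r (1, m) * d ∧ c * d ≠ d * c := by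
  by_contra hcon
  push Not at hcon
  have all : ∀ k m c d, c ∈ S.U → d ∈ S.U → c * fe σ r (1, k) = fe σ r (1, k) * c →
      d * fe σ r (1, m) = fe σ r (1, m) * d → Commute c d := by
    intro k m c d hc hd h1 h2
    by_cases hkm : k = m
    · subst hkm
      have hcd : Commute (c * d) (fe σ r (1, k)) := Commute.mul_left h1 h2
      have a1 := S.cent_tau D hr r3 r1 hσN T hσz (S.U.mul_mem hc hd) hcd.eq
      have ci := inv_eq_of_mul_eq_one_right (S.cent_tau D hr r3 r1 hσN T hσz hc h1)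
      have di := inv_eq_of_mul_eq_one_right (S.cent_tau D hr r3 r1 hσN T hσz hd h2)
      show c * d = d * c
      rw [← inv_eq_of_mul_eq_one_right a1, mul_inv_rev, ci, di]
    · exact hcon k m hkm c hc d hd h1 h2
  obtain ⟨u, hu, w, hw, hne⟩ := S.U_noncomm' D
  apply hne
  obtain ⟨c, hc, hx⟩ := S.U_decomp D hr r3 r1 hσN T hσz hu
  obtain ⟨d, hd, hy⟩ := S.U_decomp D hr r3 r1 hσN T hσz hw
  set x := (c 0 * c 1 * c 2)⁻¹ * u
  set y := (d 0 * d 1 * d 2)⁻¹ * w
  have cu : ∀ k, Commute (c k) y := fun k => S.inV_fix (hc k).1 hy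
  have cw : ∀ k, Commute x (d k) := fun k => (S.inV_fix (hd k).1 hx).symm
  have cxy : Commute x y := S.inV_fix (S.inV_U hx) hy
  have h : ∀ k, Commute (c k) (d 0 * d 1 * d 2 * y) := fun k =>
    ((((all k 0 _ _ (hc k).1 (hd 0).1 (hc k).2 (hd 0).2)).mul_right
      (all k 1 _ _ (hc k).1 (hd 1).1 (hc k).2 (hd 1).2)).mul_right
      (all k 2 _ _ (hc k).1 (hd 2).1 (hc k).2 (hd 2).2)).mul_right (cu k)
  have hxall : Commute x (d 0 * d 1 * d 2 * y) := (((cw 0).mul_right (cw 1)).mul_right (cw 2)).mul_right cxy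
  have := (((h 0).mul_left (h 1)).mul_left (h 2)).mul_left hxall
  simp only [x, y, mul_inv_cancel_left] at this
  exact this.eq

set_option maxHeartbeats 1600000 in
/-- the centraliser of `r` is not of order thirty-six -/
theorem not_small [Finite G] (hinv : ∀ u ∈ X ⊓ Cz r, u * u = 1 → S.inV u)
    (h36 : Nat.card (X ⊓ Cz r : Subgroup G) = 36) : False := by
  haveI : Fact (Nat.Prime 3) := ⟨Nat.prime_three⟩
  have hN := fun p => S.fe_N D hr r3 r1 hσN T hσz p
  have hrX : r ∈ X := D.three r hr r3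
  have hRD : T.grp ≤ X ⊓ Cz r := T.grp_le ⟨hσN.1, mem_Cz.2 T.comm⟩ ⟨hrX, mem_Cz.2 rfl⟩
  let Mem : I9 → Prop := fun p => ∃ g ∈ X, g * r * g⁻¹ = fe σ r p
  have member : ∀ (p : I9), p ≠ 0 → ∀ c ∈ X, c * c = 1 → c ≠ 1 → c * fe σ r p = fe σ r p * c →
      Mem p ∨ Mem (-p) := by
    intro p hp c hc c2 c1 hpc
    obtain ⟨g, hg, e | e⟩ := S.three_invol D hr r3 r1 (hN p).1
      (by rw [show fe σ r p ^ 3 = fe σ r (p + p + p) by rw [T.fe_add, T.fe_add]; simp only [pow_succ, pow_zero, one_mul],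
        nine_three, T.fe_zero])
      (fun e => hp (T.fe_ker e)) hc c2 c1 hpc.symm
    · exact Or.inl ⟨g, hg, e.symm⟩
    · exact Or.inr ⟨g, hg, by rw [T.fe_neg, e]; group⟩
  -- conjugating `r` inside the normaliser of the group of order nine
  have conjN : ∀ p, Mem p → ∃ n ∈ X, n * r * n⁻¹ = fe σ r p ∧ ∀ q, ∃ q', n * fe σ r q * n⁻¹ = fe σ r q' := by
    rintro p ⟨y, hy, hye⟩
    set DD := X ⊓ Cz r
    have hyR : T.grp.map (MulAut.conj y⁻¹).toMonoidHom ≤ DD := by
      rintro _ ⟨x, ⟨q, rfl⟩, rfl⟩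
      show y⁻¹ * fe σ r q * y⁻¹⁻¹ ∈ DD
      refine ⟨X.mul_mem (X.mul_mem (X.inv_mem hy) (hN q).1) (X.inv_mem (X.inv_mem hy)), mem_Cz.2 ?_⟩
      calc y⁻¹ * fe σ r q * y⁻¹⁻¹ * r = y⁻¹ * (fe σ r q * (y * r * y⁻¹)) * y := by group
        _ = y⁻¹ * (y * r * y⁻¹ * fe σ r q) * y := by rw [hye, T.fe_comm]
        _ = r * (y⁻¹ * fe σ r q * y⁻¹⁻¹) := by group
    have hsyl : ∀ W : Subgroup G, W ≤ DD → Nat.card W = 9 →
        ∃ P : Sylow 3 DD, (P : Subgroup DD) = W.subgroupOf DD := by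
      intro W hW hW9
      have hc : Nat.card (W.subgroupOf DD) = 9 := by
        rw [Nat.card_congr (Subgroup.subgroupOfEquivOfLe hW).toEquiv, hW9]
      obtain ⟨P, hP⟩ := (IsPGroup.of_card (p := 3) (n := 2) (by rw [hc]; norm_num)).exists_le_sylow
      refine ⟨P, (Subgroup.eq_of_le_of_card_ge hP ?_).symm⟩
      rw [hc, Sylow.card_eq_multiplicity, h36]
      have : (36 : ℕ).factorization 3 ≤ 2 := by
        by_contra h
        have h27 : 3 ^ 3 ∣ 36 := (Nat.prime_three.pow_dvd_iff_le_factorization (by norm_num)).2 (by omega)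
        norm_num at h27
      calc 3 ^ (36 : ℕ).factorization 3 ≤ 3 ^ 2 := Nat.pow_le_pow_right (by norm_num) this
        _ = 9 := by norm_num
    obtain ⟨P, hP⟩ := hsyl _ hRD T.card_grp
    obtain ⟨Q, hQ⟩ := hsyl _ hyR (by rw [Subgroup.card_map_of_injective (MulAut.conj y⁻¹).injective, T.card_grp])
    obtain ⟨e, he⟩ := MulAction.exists_smul_eq DD P Q
    refine ⟨y * e, X.mul_mem hy e.2.1, ?_, fun q => ?_⟩
    · have hc : (e : G) * r = r * e := mem_Cz.1 e.2.2
      rw [show y * (e : G) * r * (y * (e : G))⁻¹ = y * ((e : G) * r * (e : G)⁻¹) * y⁻¹ by group, hc,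
        mul_inv_cancel_right, hye]
    · have hqP : (⟨fe σ r q, hRD ⟨q, rfl⟩⟩ : DD) ∈ (P : Subgroup DD) := by
        rw [hP]; exact Subgroup.mem_subgroupOf.2 ⟨q, rfl⟩
      have hqQ : MulAut.conj e • (⟨fe σ r q, hRD ⟨q, rfl⟩⟩ : DD) ∈ (Q : Subgroup DD) := by
        rw [← he, Sylow.coe_subgroup_smul]
        exact Subgroup.smul_mem_pointwise_smul _ _ _ hqP
      rw [hQ] at hqQ
      obtain ⟨_, ⟨q', rfl⟩, hq'⟩ := Subgroup.mem_subgroupOf.1 hqQ
      refine ⟨q', ?_⟩
      have hq'' : y⁻¹ * fe σ r q' * y⁻¹⁻¹ = (e : G) * fe σ r q * (e : G)⁻¹ := by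
        simpa [MulAut.smul_def] using hq'
      rw [show y * (e : G) * fe σ r q * (y * (e : G))⁻¹ = y * ((e : G) * fe σ r q * (e : G)⁻¹) * y⁻¹ by group,
        ← hq'']
      group
  obtain ⟨k, m, hkm, c, hc, d, hd, hck, hdm, hcd⟩ := S.exists_pair D hr r3 r1 hσN T hσz
  have line : ∀ (l : Fin 3), ((1, l) : I9) ≠ 0 := by decide
  have c1 : c ≠ 1 := fun e => hcd (by rw [e]; group)
  have d1 : d ≠ 1 := fun e => hcd (by rw [e]; group)
  -- every involution commuting with a line meeting `U` lies in `U`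
  have inU : ∀ (l : Fin 3) (x : G), x ∈ S.U → x ≠ 1 → x * fe σ r (1, l) = fe σ r (1, l) * x →
      ∀ w ∈ X, w * w = 1 → w * fe σ r (1, l) = fe σ r (1, l) * w → w ∈ S.U := by
    intro l x hx x1 hxl w hw w2 hwl
    have x2 := S.cent_tau D hr r3 r1 hσN T hσz hx hxl
    set y := r * x * r⁻¹
    have hy : y ∈ S.U := S.U_normal hr hx
    have hrl : Commute r (fe σ r (1, l)) := by
      have := T.fe_comm (0, 1) (1, l); rwa [T.fe_r] at this
    have hyl : y * fe σ r (1, l) = fe σ r (1, l) * y :=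
      ((hrl.mul_left (show Commute x (fe σ r (1, l)) from hxl)).mul_left hrl.inv_left).eq
    have hxy : x ≠ y := fun e => by
      have hV : S.inV x := S.U_cent_r D hr r3 r1 hx (mul_inv_eq_iff_eq_mul.1 e.symm).symm
      exact S.fe_moves D hr r3 r1 hσN T hσz l (mem_Cz.2 (S.fix_all D (hN _).1 hV x1 hxl.symm))
    have y1 : y ≠ 1 := fun e => x1 (conj_eq_one_iff.1 e)
    have y2 : y * y = 1 := S.cent_tau D hr r3 r1 hσN T hσz hy hyl
    obtain ⟨p, hp, hpl⟩ : ∃ p, Mem p ∧ (p = (1, l) ∨ p = -(1, l)) := by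
      rcases member _ (line l) x (D.U_le hx) x2 x1 hxl with h | h
      exacts [⟨_, h, Or.inl rfl⟩, ⟨_, h, Or.inr rfl⟩]
    obtain ⟨n, hn, hnr, -⟩ := conjN p hp
    have pull : ∀ t ∈ X, t * t = 1 → t * fe σ r (1, l) = fe σ r (1, l) * t → S.inV (n⁻¹ * t * n) := by
      intro t ht t2 htl
      have htp : t * fe σ r p = fe σ r p * t := by
        rcases hpl with e | e <;> rw [e]
        · exact htl
        · rw [T.fe_neg]; exact (show Commute t (fe σ r (1, l)) from htl).inv_right.eq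
      refine hinv _ ⟨X.mul_mem (X.mul_mem (X.inv_mem hn) ht) hn, mem_Cz.2 ?_⟩ ?_
      · calc n⁻¹ * t * n * r = n⁻¹ * (t * (n * r * n⁻¹)) * n := by group
          _ = n⁻¹ * (n * r * n⁻¹ * t) * n := by rw [hnr, htp]
          _ = r * (n⁻¹ * t * n) := by group
      · rw [show n⁻¹ * t * n * (n⁻¹ * t * n) = n⁻¹ * (t * t) * n by group, t2]; group
    have cancel : ∀ {s t : G}, n⁻¹ * s * n = n⁻¹ * t * n → s = t := fun h =>
      mul_left_cancel (mul_right_cancel h)
    rcases S.four_span (pull x (D.U_le hx) x2 hxl) (pull y (D.U_le hy) y2 hyl) (pull w hw w2 hwl)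
      (fun e => x1 (cancel (e.trans (by group)))) (fun e => y1 (cancel (e.trans (by group))))
      (fun e => hxy (cancel e)) with e | e | e | e
    · rw [cancel (e.trans (by group) : n⁻¹ * w * n = n⁻¹ * 1 * n)]; exact S.U.one_mem
    · rw [cancel e]; exact hx
    · rw [cancel e]; exact hy
    · rw [cancel (e.trans (by group) : n⁻¹ * w * n = n⁻¹ * (x * y) * n)]; exact S.U.mul_mem hx hy
  -- all four lines have members
  have all : ∀ p : I9, p ≠ 0 → Mem p ∨ Mem (-p) := by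
    have hk' : ∀ l, l = k ∨ l = m → Mem (1, l) ∨ Mem (-(1, l)) := by
      rintro l (rfl | rfl)
      · exact member _ (line _) c (D.U_le hc) (S.cent_tau D hr r3 r1 hσN T hσz hc hck) c1 hck
      · exact member _ (line _) d (D.U_le hd) (S.cent_tau D hr r3 r1 hσN T hσz hd hdm) d1 hdm
    obtain ⟨p, hp, hpk⟩ : ∃ p, Mem p ∧ (p = (1, k) ∨ p = -(1, k)) := by
      rcases hk' k (Or.inl rfl) with h | h
      exacts [⟨_, h, Or.inl rfl⟩, ⟨_, h, Or.inr rfl⟩]
    obtain ⟨n, hn, hnr, hnR⟩ := conjN p hp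
    let ψ : ∀ q : I9, I9 := fun q => (hnR q).choose
    have hψ : ∀ q, n * fe σ r q * n⁻¹ = fe σ r (ψ q) := fun q => (hnR q).choose_spec
    have hψinj : Function.Injective ψ := fun x y h => T.fe_inj (mul_left_cancel (mul_right_cancel
      (show n * fe σ r x * n⁻¹ = n * fe σ r y * n⁻¹ by rw [hψ, hψ, h])))
    obtain ⟨q, hq⟩ := Finite.injective_iff_surjective.1 hψinj (1, m)
    set c' := n⁻¹ * c * n
    set d' := n⁻¹ * d * n
    have hd'X : d' ∈ X := X.mul_mem (X.mul_mem (X.inv_mem hn) (D.U_le hd)) hn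
    have d'2 : d' * d' = 1 := by
      rw [show d' * d' = n⁻¹ * (d * d) * n by simp only [d']; group, S.cent_tau D hr r3 r1 hσN T hσz hd hdm]
      group
    have hd'q : d' * fe σ r q = fe σ r q * d' := by
      have e := hψ q
      rw [hq] at e
      calc d' * fe σ r q = n⁻¹ * (d * (n * fe σ r q * n⁻¹)) * n := by simp only [d']; group
        _ = n⁻¹ * (n * fe σ r q * n⁻¹ * d) * n := by rw [e, hdm]
        _ = fe σ r q * d' := by simp only [d']; group
    have hcp : c * fe σ r p = fe σ r p * c := by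
      rcases hpk with e | e <;> rw [e]
      · exact hck
      · rw [T.fe_neg]; exact (show Commute c (fe σ r (1, k)) from hck).inv_right.eq
    have hc'V : S.inV c' := by
      refine hinv _ ⟨X.mul_mem (X.mul_mem (X.inv_mem hn) (D.U_le hc)) hn, mem_Cz.2 ?_⟩ ?_
      · calc c' * r = n⁻¹ * (c * (n * r * n⁻¹)) * n := by simp only [c']; group
          _ = n⁻¹ * (n * r * n⁻¹ * c) * n := by rw [hnr, hcp]
          _ = r * c' := by simp only [c']; group
      · rw [show c' * c' = n⁻¹ * (c * c) * n by simp only [c']; group, S.cent_tau D hr r3 r1 hσN T hσz hc hck]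
        group
    have hd'U : d' ∉ S.U := fun h => hcd (by
      have e := S.inV_fix h hc'V
      calc c * d = n * (c' * d') * n⁻¹ := by simp only [c', d']; group
        _ = n * (d' * c') * n⁻¹ := by rw [e]
        _ = d * c := by simp only [c', d']; group)
    have hq0 : q ≠ 0 := fun e => by
      have := hψ q
      rw [e, T.fe_zero, show ψ 0 = (1, m) from e ▸ hq] at this
      exact line m (T.fe_ker (this.symm.trans (by group)))
    obtain ⟨l, hl⟩ : ∃ l : Fin 3, q = (1, l) ∨ q = -(1, l) := by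
      have hψr : ψ (0, 1) = p := T.fe_inj (by rw [← hψ, T.fe_r, hnr])
      have hψadd : ∀ x y, ψ (x + y) = ψ x + ψ y := fun x y => T.fe_inj (by
        rw [← hψ, T.fe_add, T.fe_add, ← hψ, ← hψ]; group)
      obtain ⟨n1, n2⟩ := nine_lines k m hkm p hpk
      rcases nine_cases q hq0 with e | e | e
      · exact absurd (by rw [← hq, e, hψr]) n1
      · refine absurd ?_ n2
        rw [← hq, e, show (-(0, 1) : I9) = (0, 1) + (0, 1) by decide, hψadd, hψr]
      · exact e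
    have hd'l : d' * fe σ r (1, l) = fe σ r (1, l) * d' := by
      rcases hl with e | e
      · rwa [e] at hd'q
      · have := (show Commute d' (fe σ r q) from hd'q).inv_right
        rwa [← T.fe_neg, e, neg_neg] at this
    have hd'1 : d' ≠ 1 := fun e => hd'U (e ▸ S.U.one_mem)
    have hlk : l ≠ k := fun e => hd'U (inU k c hc c1 hck d' hd'X d'2 (e ▸ hd'l))
    have hlm : l ≠ m := fun e => hd'U (inU m d hd d1 hdm d' hd'X d'2 (e ▸ hd'l))
    have every : ∀ j : Fin 3, Mem (1, j) ∨ Mem (-(1, j)) := by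
      intro j
      rcases fin3_cover k m l hkm hlk hlm j with e | e | e
      · exact hk' j (Or.inl e)
      · exact hk' j (Or.inr e)
      · exact e ▸ member _ (line l) d' hd'X d'2 hd'1 hd'l
    intro x hx
    have hr0 : Mem (0, 1) := ⟨1, X.one_mem, by rw [T.fe_r]; group⟩
    rcases nine_cases x hx with e | e | ⟨j, e | e⟩ <;> rw [e]
    · exact Or.inl hr0
    · exact Or.inr (by rw [neg_neg]; exact hr0)
    · exact every j
    · rw [neg_neg]; exact (every j).symm
  -- at most one member on a line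
  have atmost : ∀ p, Mem p → ¬ Mem (-p) := by
    rintro p ⟨g, hg, hge⟩ ⟨g', hg', hge'⟩
    refine S.no_inv D hr r3 r1 (g := g⁻¹ * g') (X.mul_mem (X.inv_mem hg) hg') ?_
    rw [show g⁻¹ * g' * r * (g⁻¹ * g')⁻¹ = g⁻¹ * (g' * r * g'⁻¹) * g by group, hge', T.fe_neg, ← hge]
    group
  set Q : Finset I9 := Finset.univ.filter Mem with hQdef
  have hQ : ∀ p, p ∈ Q ↔ Mem p := fun p => by simp [hQdef]
  have hs := nine_sum Q (fun p hp => by rw [hQ, hQ]; exact all p hp) (fun p hp => by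
    rw [hQ] at hp ⊢; exact atmost p hp)
  obtain ⟨p0, hp0, hps⟩ : ∃ p0, Mem p0 ∧ (p0 = Q.sum id ∨ p0 = -Q.sum id) := by
    rcases all _ hs with h | h
    exacts [⟨_, h, Or.inl rfl⟩, ⟨_, h, Or.inr rfl⟩]
  -- every element of the normaliser fixes that member
  have key : ∀ p, Mem p → ∃ ψ : I9 → I9, Function.Injective ψ ∧ ψ (0, 1) = p ∧ ψ p0 = p0 := by
    intro p hp
    obtain ⟨n, hn, hnr, hnR⟩ := conjN p hp
    choose ψ hψ using hnR
    have hinj : Function.Injective ψ := fun x y h => T.fe_inj (mul_left_cancel (mul_right_cancel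
      (show n * fe σ r x * n⁻¹ = n * fe σ r y * n⁻¹ by rw [hψ, hψ, h])))
    let Ψ : I9 →+ I9 := AddMonoidHom.mk' ψ fun x y => T.fe_inj (by
      rw [← hψ, T.fe_add, T.fe_add, ← hψ, ← hψ]; group)
    have himg : Q.image ψ = Q := by
      refine Finset.eq_of_subset_of_card_le ?_ (by rw [Finset.card_image_of_injective _ hinj])
      intro x hx
      obtain ⟨y, hy, rfl⟩ := Finset.mem_image.1 hx
      obtain ⟨g, hg, hge⟩ := (hQ y).1 hy
      exact (hQ _).2 ⟨n * g, X.mul_mem hn hg, by rw [← hψ, ← hge]; group⟩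
    have hsum : ψ (Q.sum id) = Q.sum id := by
      show Ψ (Q.sum id) = _
      rw [map_sum]
      conv_rhs => rw [← himg, Finset.sum_image fun x _ y _ h => hinj h]
      rfl
    refine ⟨ψ, hinj, T.fe_inj (by rw [← hψ, T.fe_r, hnr]), ?_⟩
    rcases hps with e | e <;> rw [e]
    · exact hsum
    · show Ψ _ = _
      rw [map_neg]; exact congrArg Neg.neg hsum
  obtain ⟨ψ, hinj, h1, h2⟩ := key p0 hp0
  have hp0r : p0 = (0, 1) := hinj (h2.trans h1.symm)
  obtain ⟨p1, hp1, hne⟩ : ∃ p1, Mem p1 ∧ p1 ≠ (0, 1) := by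
    rcases all (1, 0) (line 0) with h | h
    exacts [⟨_, h, by decide⟩, ⟨_, h, by decide⟩]
  obtain ⟨ψ', -, h3, h4⟩ := key p1 hp1
  rw [hp0r] at h4
  exact hne (h3.symm.trans h4)

end Setting

end CfsgLib.MinusFourSymFour
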