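import Cfsg.Agent.Lib.MinusFourSymFour.Retract
import Cfsg.Agent.Lib.Transfer.Thompson

/-!
Transfer to a group of order three: the subgroup of index three in `X`.
-/

set_option autoImplicit false
set_option linter.unusedSectionVars false
set_option linter.style.haveILetI false
set_option synthInstance.maxSize 2000
set_option synthInstance.maxHeartbeats 100000

namespace CfsgLib.MinusFourSymFour

theorem three_conj {K : Type*} [Group K] [Finite K] (h9 : ¬ 9 ∣ Nat.card K) {x y : K} (x3 : x ^ 3 = 1)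
    (x1 : x ≠ 1) (y3 : y ^ 3 = 1) (y1 : y ≠ 1) : ∃ h : K, y = h * x * h⁻¹ ∨ y = h * x⁻¹ * h⁻¹ := by
  haveI : Fact (Nat.Prime 3) := ⟨Nat.prime_three⟩
  have key : ∀ w : K, w ≠ 1 → w ^ 3 = 1 → ∃ P : Sylow 3 K, (P : Subgroup K) = Subgroup.zpowers w := by
    intro w w1 w3
    have hc : Nat.card (Subgroup.zpowers w) = 3 := by rw [Nat.card_zpowers, orderOf_eq_prime w3 w1]
    obtain ⟨P, hP⟩ := (IsPGroup.of_card (p := 3) (n := 1) (by rw [hc, pow_one])).exists_le_sylow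
    refine ⟨P, (Subgroup.eq_of_le_of_card_ge hP ?_).symm⟩
    rw [hc, Sylow.card_eq_multiplicity]
    have : (Nat.card K).factorization 3 ≤ 1 := by
      by_contra h
      exact h9 ((show 9 = 3 ^ 2 by norm_num) ▸
        (Nat.prime_three.pow_dvd_iff_le_factorization Nat.card_pos.ne').2 (by omega))
    calc 3 ^ (Nat.card K).factorization 3 ≤ 3 ^ 1 := Nat.pow_le_pow_right (by norm_num) this
      _ = 3 := pow_one 3
  obtain ⟨P, hP⟩ := key x x1 x3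
  obtain ⟨Q, hQ⟩ := key y y1 y3
  obtain ⟨h, hh⟩ := MulAction.exists_smul_eq K P Q
  have hy : y ∈ ((h • P : Sylow 3 K) : Subgroup K) := by
    rw [hh, hQ]; exact Subgroup.mem_zpowers _
  rw [Sylow.coe_subgroup_smul, Subgroup.mem_pointwise_smul_iff_inv_smul_mem, hP] at hy
  obtain ⟨k, hk⟩ := Subgroup.mem_zpowers_iff.1 hy
  simp [MulAut.smul_def] at hk
  have hy' : y = h * x ^ k * h⁻¹ := by rw [hk]; group
  refine ⟨h, ?_⟩
  have hmod : x ^ k = x ^ (k % 3) := by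
    conv_lhs => rw [← Int.emod_add_mul_ediv k 3, zpow_add, zpow_mul, show x ^ (3 : ℤ) = 1 from mod_cast x3,
      one_zpow, mul_one]
  rcases (show k % 3 = 0 ∨ k % 3 = 1 ∨ k % 3 = 2 by omega) with e | e | e <;> rw [hmod, e] at hy'
  · exact absurd (by rw [hy', zpow_zero]; group) y1
  · exact Or.inl (by rw [hy', zpow_one])
  · refine Or.inr ?_
    rw [hy', zpow_two, eq_inv_of_mul_eq_one_left (show x * x * x = 1 by
      rw [← x3]; simp only [pow_succ, pow_zero, one_mul])]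

namespace Setting

variable {G : Type*} [Group G] {z : G} {E : Subgroup G} {v : G → B4} {π : G → S5} {a : G}
  (S : Setting z E v π a) {X : Subgroup G} (D : Even S X)
include S D

variable {r b : G} {i : Fin 5}

/-- the hypotheses on `r` and the singular element `b` outside `X` -/
structure Side (_S : Setting z E v π a) (X : Subgroup G) (r b : G) (i : Fin 5) : Prop where
  hr : r ∈ Cz z
  r3 : r ^ 3 = 1
  r1 : r ≠ 1
  hb : b ∈ E
  hi : i ≠ 0
  hvb : v b = sv i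
  hbr : b * r = r * b

/-- the retraction onto the centraliser of `z` -/
structure Proj (_S : Setting z E v π a) (X : Subgroup G) (r b : G) (O : Subgroup G)
    (η : ↥(X ⊓ Cz b) →* G) : Prop where
  OK : O ≤ X ⊓ Cz b
  odd : Odd (Nat.card O)
  norm : ∀ g ∈ Cz b, ∀ o ∈ O, g * o * g⁻¹ ∈ O
  inv : ∀ o ∈ O, z * o * z⁻¹ = o⁻¹
  dec : ∀ g ∈ Cz b, ∃ o ∈ O, o⁻¹ * g ∈ Cz z
  mem : ∀ g : ↥(X ⊓ Cz b), η g ∈ X ⊓ Cz b ∧ η g ∈ Cz z
  memO : ∀ g : ↥(X ⊓ Cz b), (g : G) * (η g)⁻¹ ∈ O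
  uniq : ∀ g : ↥(X ⊓ Cz b), ∀ h ∈ Cz z, (g : G) * h⁻¹ ∈ O → η g = h
  fixed : ∀ g : ↥(X ⊓ Cz b), (g : G) ∈ Cz z → η g = g
  img : ∀ g, π (η g) = 1 ∨ π (η g) = π r ∨ π (η g) = π r * π r

variable (Q : Side S X r b i)
include Q

theorem rK : r ∈ X ⊓ Cz b := ⟨D.three r Q.hr Q.r3, mem_Cz.2 Q.hbr.symm⟩

theorem nine_K [Finite G] : ¬ 9 ∣ Nat.card (X ⊓ Cz b ⊓ Cz z : Subgroup G) := fun h => by
  have := (h.trans (Subgroup.card_dvd_of_le (le_inf (inf_le_left.trans inf_le_left) inf_le_right :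
    X ⊓ Cz b ⊓ Cz z ≤ X ⊓ Cz z)))
  rw [S.card_XH D] at this
  norm_num at this

/-- the retraction exists -/
theorem exists_proj [Finite G] : ∃ (O : Subgroup G) (η : ↥(X ⊓ Cz b) →* G), Proj S X r b O η := by
  classical
  obtain ⟨hr, r3, r1, hb, hi, hvb, hbr⟩ := Q
  obtain ⟨O, hOb, hOX, hOodd, hOn, hO1, hOinv, hOdec⟩ := S.exists_core D hb hi hvb
  obtain ⟨p3, p1'⟩ := S.three_image hr r3 r1
  have hpi : π r i = i := by
    have e := S.p_act r hr b hb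
    rw [show r * b * r⁻¹ = b by rw [← hbr]; group, hvb, act5_sv] at e
    exact (sv_facts.2.1 _ _ e).symm
  set K := X ⊓ Cz b with hK
  have hOK : O ≤ K := le_inf hOX hOb
  -- the component centralising `z`
  have dec : ∀ g : K, ∃ h : G, h ∈ K ∧ h ∈ Cz z ∧ (g : G) * h⁻¹ ∈ O := by
    intro g
    obtain ⟨o, ho, hh⟩ := hOdec g g.2.2
    exact ⟨o⁻¹ * g, K.mul_mem (K.inv_mem (hOK ho)) g.2, hh, by
      rw [mul_inv_rev, inv_inv, mul_inv_cancel_left]; exact ho⟩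
  choose η hηK hηC hηO using dec
  have huniq : ∀ (g : K) (h : G), h ∈ Cz z → (g : G) * h⁻¹ ∈ O → η g = h := by
    intro g h hh ho
    refine eq_of_mul_inv_eq_one (hO1 _ ?_ ((Cz z).mul_mem (hηC g) ((Cz z).inv_mem hh)))
    rw [show η g * h⁻¹ = ((g : G) * (η g)⁻¹)⁻¹ * ((g : G) * h⁻¹) by group]
    exact O.mul_mem (O.inv_mem (hηO g)) ho
  have hηmul : ∀ g g' : K, η (g * g') = η g * η g' := fun g g' => by
    refine huniq _ _ ((Cz z).mul_mem (hηC g) (hηC g')) ?_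
    rw [Subgroup.coe_mul, show (g : G) * g' * (η g * η g')⁻¹ =
      (g : G) * (η g)⁻¹ * (η g * ((g' : G) * (η g')⁻¹) * (η g)⁻¹) by group]
    exact O.mul_mem (hηO g) (hOn _ (hηK g).2 _ (hηO g'))
  have hηfix : ∀ g : K, (g : G) ∈ Cz z → η g = g := fun g hg => huniq g g hg (by
    rw [mul_inv_cancel]; exact O.one_mem)
  have himg : ∀ g : K, π (η g) = 1 ∨ π (η g) = π r ∨ π (η g) = π r * π r := by
    intro g
    refine stab_three _ (S.p_zero r hr) p3 p1' i hi hpi _ (S.p_zero _ (hηC g))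
      ((D.memH _ (hηC g)).1 (hηK g).1).2 ?_
    have e := S.p_act _ (hηC g) b hb
    rw [show η g * b * (η g)⁻¹ = b by rw [mem_Cz.1 (hηK g).2, mul_inv_cancel_right], hvb, act5_sv] at e
    exact (sv_facts.2.1 _ _ e).symm
  exact ⟨O, { toFun := η, map_one' := hηfix 1 (Cz z).one_mem, map_mul' := hηmul },
    hOK, hOodd, hOn, hOinv, hOdec, fun g => ⟨hηK g, hηC g⟩, hηO, huniq, hηfix, himg⟩

variable {O : Subgroup G} {η : ↥(X ⊓ Cz b) →* G} (P : Proj S X r b O η)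
include P

set_option maxHeartbeats 800000 in
/-- the fusion of `r` in the centraliser of `b` -/
theorem fusion [Finite G] (y : ↥(X ⊓ Cz b)) (hy : ∃ g ∈ X, g * r * g⁻¹ = y) :
    π (η y) = π r ∧ ∃ o ∈ O, o * η y * o⁻¹ = y := by
  classical
  haveI : Fact (Nat.Prime 2) := ⟨Nat.prime_two⟩
  have h9K := S.nine_K D Q
  have hrK := S.rK D Q
  have hzK : z ∈ X ⊓ Cz b := ⟨D.U_le S.z_U, S.z_Cb D Q.hb Q.hi Q.hvb⟩
  obtain ⟨hr, r3, r1, hb, hi, hvb, hbr⟩ := Q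
  obtain ⟨hOK, -, hOn, -, hOdec, -, -, huniq, hηfix, himg⟩ := P
  have hOX : O ≤ X := hOK.trans inf_le_left
  obtain ⟨p3, p1'⟩ := S.three_image hr r3 r1
  obtain ⟨g, hg, hgy⟩ := hy
  have hKz : ∀ y : G, y ∈ (X ⊓ Cz b) → y ∈ Cz z → y ^ 3 = 1 → y ≠ 1 → ∀ g ∈ X, g * r * g⁻¹ = y →
      ∃ h ∈ (X ⊓ Cz b), h ∈ Cz z ∧ h * r * h⁻¹ = y := by
    intro y hyK hyC y3 y1 g hg hgy
    obtain ⟨h, e | e⟩ := three_conj h9K (x := (⟨r, hrK, hr⟩ : ((X ⊓ Cz b) ⊓ Cz z : Subgroup G))) (y := ⟨y, hyK, hyC⟩)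
      (Subtype.ext r3) (fun e => r1 (congrArg Subtype.val e)) (Subtype.ext y3)
      (fun e => y1 (congrArg Subtype.val e))
    · exact ⟨h, h.2.1, h.2.2, (congrArg Subtype.val e).symm⟩
    · exfalso
      have e' : y = (h : G) * r⁻¹ * (h : G)⁻¹ := congrArg Subtype.val e
      refine S.no_inv D hr r3 r1 (g := (h : G)⁻¹ * g) (X.mul_mem (X.inv_mem h.2.1.1) hg) ?_
      rw [show (h : G)⁻¹ * g * r * ((h : G)⁻¹ * g)⁻¹ = (h : G)⁻¹ * (g * r * g⁻¹) * h by group, hgy, e']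
      group
  set Dy := X ⊓ Cz (y : G) with hDy
  haveI : Fintype Dy := Fintype.ofFinite Dy
  have h2 : 2 ∣ Nat.card Dy := by
    have hw : g * z * g⁻¹ ∈ Dy := by
      refine ⟨D.normal.conj_mem _ hzK.1 g, mem_Cz.2 ?_⟩
      rw [← hgy, ← S.conj_mul, ← S.conj_mul, mem_Cz.1 hr]
    have := Subgroup.orderOf_dvd_natCard Dy hw
    rwa [show orderOf (g * z * g⁻¹) = 2 by
      rw [CfsgLib.Transfer.orderOf_conj, orderOf_eq_prime (by rw [pow_two, S.z2]) S.z1]] at this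
  have hbDy : ∀ x ∈ Dy, b * x * b⁻¹ ∈ Dy := fun x hx => by
    refine ⟨D.normal.conj_mem _ hx.1 b, mem_Cz.2 ?_⟩
    have hby : b * (y : G) * b⁻¹ = y := by rw [← mem_Cz.1 y.2.2]; group
    conv_lhs => rw [← hby]
    conv_rhs => rw [← hby]
    rw [← S.conj_mul, ← S.conj_mul, mem_Cz.1 hx.2]
  have b2 : b * b = 1 := by rw [S.v_sq b hb, hvb, (sv_facts.1 i).1]; rfl
  let fb : {x : Dy // x * x = 1} → {x : Dy // x * x = 1} := fun x =>
    ⟨⟨_, hbDy x.1 x.1.2⟩, Subtype.ext (by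
      show b * (x.1 : G) * b⁻¹ * (b * (x.1 : G) * b⁻¹) = 1
      rw [← S.conj_mul, show (x.1 : G) * x.1 = 1 from congrArg Subtype.val x.2]; group)⟩
  have fb2 : ∀ x, fb (fb x) = x := fun x => Subtype.ext (Subtype.ext (by
    show b * (b * (x.1 : G) * b⁻¹) * b⁻¹ = x.1
    rw [inv_eq_of_mul_eq_one_right b2, show b * (b * (x.1 : G) * b) * b = b * b * x.1 * (b * b) by group, b2]
    group))
  let eb : Equiv.Perm {x : Dy // x * x = 1} := ⟨fb, fb, fb2, fb2⟩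
  obtain ⟨u, hu, hu1⟩ := Equiv.Perm.exists_fixed_point_of_prime' (p := 2) (n := 1) (σ := eb)
    (by rw [← Nat.card_eq_fintype_card]; exact even_card_sol h2)
    (by ext x; exact congrArg (fun t => ((t : {x : Dy // x * x = 1}).1 : G)) (fb2 x))
    (a := ⟨1, one_mul 1⟩) (Subtype.ext (Subtype.ext (by show b * 1 * b⁻¹ = 1; group)))
  set w : G := (u.1 : G) with hwdef
  have hwb : w * b = b * w := by
    have : b * w * b⁻¹ = w := congrArg (fun t => ((t : {x : Dy // x * x = 1}).1 : G)) hu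
    exact (mul_inv_eq_iff_eq_mul.1 this).symm
  have w2 : w * w = 1 := congrArg Subtype.val u.2
  have w1 : w ≠ 1 := fun e => hu1 (Subtype.ext (Subtype.ext e))
  obtain ⟨x0, -, hx0⟩ := S.X_invol D u.1.2.1 w2 w1
  have hzw : IsConj z w := isConj_iff.2 ⟨x0, hx0⟩
  have hbz : Commute b z := mem_Cz.1 (S.ecz b hb)
  rcases OmegaEightCent.two_invols S.z2 w2 with ⟨c, hcz, hcb⟩ | ⟨e, -, e1, hez, -, hor, he⟩
  · obtain ⟨o, ho, hoc⟩ := hOdec c (mem_Cz.2 (hcb b hbz hwb.symm).symm.eq)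
    have hwo : w = o * z * o⁻¹ := by
      rw [← hcz]
      calc c * z * c⁻¹ = o * (o⁻¹ * c * z * (o⁻¹ * c)⁻¹) * o⁻¹ := by group
        _ = o * z * o⁻¹ := by rw [S.conj_z hoc]
    set y' := o⁻¹ * (y : G) * o with hy'
    have hy'K : y' ∈ (X ⊓ Cz b) := (X ⊓ Cz b).mul_mem ((X ⊓ Cz b).mul_mem ((X ⊓ Cz b).inv_mem (hOK ho)) y.2) (hOK ho)
    have hy'C : y' ∈ Cz z := by
      rw [mem_Cz]
      have hyw : w * (y : G) = y * w := mem_Cz.1 u.1.2.2
      calc y' * z = o⁻¹ * ((y : G) * w) * o := by rw [hy', hwo]; group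
        _ = o⁻¹ * (w * y) * o := by rw [hyw]
        _ = z * y' := by rw [hy', hwo]; group
    have y3 : (y : G) ^ 3 = 1 := by rw [← hgy, conj_pow, r3]; group
    obtain ⟨h, hhK, hhC, hhr⟩ := hKz y' hy'K hy'C
      (by rw [hy', show o⁻¹ * (y : G) * o = o⁻¹ * y * o⁻¹⁻¹ by rw [inv_inv], conj_pow, y3]; group)
      (fun e => r1 (by
        have : (y : G) = 1 := by
          calc (y : G) = o * y' * o⁻¹ := by rw [hy']; group
            _ = 1 := by rw [e]; group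
        rw [← hgy] at this
        exact conj_eq_one_iff.1 this))
      (o⁻¹ * g) (X.mul_mem (X.inv_mem (hOX ho)) hg) (by rw [hy', ← hgy]; group)
    have hηy : η y = y' := huniq y y' hy'C (by
      rw [hy', show (y : G) * (o⁻¹ * y * o)⁻¹ = (y * o⁻¹ * (y : G)⁻¹) * o by group]
      exact O.mul_mem (hOn _ y.2.2 _ (O.inv_mem ho)) ho)
    refine ⟨?_, o, ho, by rw [hηy, hy']; group⟩
    show π (η y) = π r
    rw [hηy, ← hhr, S.p_conj hhC hr]
    have hh' := himg ⟨h, hhK⟩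
    rw [hηfix ⟨h, hhK⟩ hhC] at hh'
    rcases hh' with e | e | e <;> rw [show π h = _ from e] <;> group
  · exfalso
    have hzw' : IsConj z (z * e) := by
      rcases hor with ⟨h, -⟩ | ⟨h, -⟩
      · exact h
      · exact hzw.trans h
    have := S.b_isolated hb hi hvb hzw' ((Cz z).mul_mem S.zH (mem_Cz.2 hez.eq))
      ((hbz.symm.mul_left (he b hbz hwb.symm).symm)).eq
    exact e1 (mul_eq_left.1 this)

/-- the index of `X ∩ C(b)` in `X` is prime to three -/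
theorem index_three [Finite G] {σ : G} (hσX : σ ∈ X) (T : Nine σ r) (hbσ : b * σ = σ * b)
    (hD180 : Nat.card (X ⊓ Cz r : Subgroup G) = 180) : Nat.Coprime 3 ((X ⊓ Cz b).subgroupOf X).index := by
  classical
  haveI : Fact (Nat.Prime 3) := ⟨Nat.prime_three⟩
  have h9K := S.nine_K D Q
  have hrK := S.rK D Q
  have hrX : r ∈ X := hrK.1
  have fusion := S.fusion D Q P
  obtain ⟨hr, r3, r1, hb, hi, hvb, hbr⟩ := Q
  obtain ⟨hOK, hOodd, hOn, hOinv, -, hmem, hηO, -, hηfix, -⟩ := P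
  have hOX : O ≤ X := hOK.trans inf_le_left
  have hσK : σ ∈ (X ⊓ Cz b) := ⟨hσX, mem_Cz.2 hbσ.symm⟩
  have hηC : ∀ g, η g ∈ Cz z := fun g => (hmem g).2
  rw [Nat.prime_three.coprime_iff_not_dvd]
  intro hdvd
  set R := T.grp
  have hRK : R ≤ (X ⊓ Cz b) := T.grp_le hσK hrK
  obtain ⟨P0, hP0⟩ := (IsPGroup.of_card (p := 3) (n := 2) (G := R.subgroupOf (X ⊓ Cz b)) (by
    rw [Nat.card_congr (Subgroup.subgroupOfEquivOfLe hRK).toEquiv, T.card_grp]; norm_num)).exists_le_sylow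
  set S0 := (P0 : Subgroup ↥(X ⊓ Cz b)).map (X ⊓ Cz b).subtype with hS0
  have hS0K : S0 ≤ (X ⊓ Cz b) := Subgroup.map_subtype_le _
  have hS0X : S0 ≤ X := hS0K.trans inf_le_left
  have hRS0 : R ≤ S0 := fun x hx => ⟨⟨x, hRK hx⟩, hP0 (Subgroup.mem_subgroupOf.2 hx), rfl⟩
  have hS0p : IsPGroup 3 (S0.subgroupOf X) := by
    refine IsPGroup.of_equiv ?_ (Subgroup.subgroupOfEquivOfLe hS0X).symm
    exact P0.2.map _
  obtain ⟨P, hP⟩ := hS0p.exists_le_sylow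
  set PG := (P : Subgroup X).map X.subtype with hPG
  have hS0PG : S0 ≤ PG := fun x hx => ⟨⟨x, hS0X hx⟩, hP (Subgroup.mem_subgroupOf.2 hx), rfl⟩
  have hPGp : IsPGroup 3 PG := P.2.map _
  have heq : PG = S0 := by
    refine le_antisymm ?_ hS0PG
    by_contra hne
    have hlt : S0.subgroupOf PG < ⊤ := lt_of_le_of_ne le_top fun e => hne (Subgroup.subgroupOf_eq_top.1 e)
    haveI := hPGp.isNilpotent
    obtain ⟨s, hs, hs'⟩ := SetLike.exists_of_lt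
      ((Group.normalizerCondition_of_isNilpotent (G := PG)) _ hlt)
    apply hs'
    set h : G := (s : G) with hhdef
    have hhX : h ∈ X := (Subgroup.map_subtype_le _) s.2
    have hconj : ∀ x ∈ S0, h * x * h⁻¹ ∈ S0 := fun x hx =>
      (Subgroup.mem_normalizer_iff.1 hs ⟨x, hS0PG hx⟩).1 hx
    have hrS0 : r ∈ S0 := hRS0 ⟨(0, 1), T.fe_r⟩
    set y := h * r * h⁻¹ with hydef
    have hyS0 : y ∈ S0 := hconj r hrS0
    have hyK : y ∈ (X ⊓ Cz b) := hS0K hyS0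
    -- the component of `y` is `r`
    have hr' : η ⟨y, hyK⟩ = r := by
      let Im : Subgroup G := (P0 : Subgroup ↥(X ⊓ Cz b)).map
        η
      have hIm : Im ≤ (X ⊓ Cz b) ⊓ Cz z := by rintro _ ⟨x, -, rfl⟩; exact hmem x
      have hImp : IsPGroup 3 Im := P0.2.map _
      obtain ⟨n, hn⟩ := IsPGroup.iff_card.1 hImp
      have hn1 : n ≤ 1 := by
        by_contra h2
        exact h9K ((show 9 = 3 ^ 2 by norm_num) ▸
          ((Nat.pow_dvd_pow 3 (by omega)).trans (hn ▸ Subgroup.card_dvd_of_le hIm)))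
      have hrIm : Subgroup.zpowers r ≤ Im := Subgroup.zpowers_le.2
        ⟨⟨r, hrK⟩, hP0 (Subgroup.mem_subgroupOf.2 ⟨(0, 1), T.fe_r⟩), hηfix _ hr⟩
      have hImeq : Im = Subgroup.zpowers r := (Subgroup.eq_of_le_of_card_ge hrIm (by
        rw [hn, Nat.card_zpowers, orderOf_eq_prime r3 r1]
        calc 3 ^ n ≤ 3 ^ 1 := Nat.pow_le_pow_right (by norm_num) hn1
          _ = 3 := pow_one 3)).symm
      obtain ⟨p, hp, hpe⟩ := hyS0
      have hy0 : η ⟨y, hyK⟩ ∈ Subgroup.zpowers r := by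
        rw [← hImeq]; exact ⟨p, hp, by
          show η p = η ⟨y, hyK⟩
          rw [show p = ⟨y, hyK⟩ from Subtype.ext hpe]⟩
      obtain ⟨j, hj⟩ := Subgroup.mem_zpowers_iff.1 hy0
      have hπ : π (η ⟨y, hyK⟩) = π r := (fusion ⟨y, hyK⟩ ⟨h, hhX, rfl⟩).1
      have hd : (η ⟨y, hyK⟩)⁻¹ * r ∈ Subgroup.zpowers r :=
        Subgroup.mul_mem _ (Subgroup.inv_mem _ hy0) (Subgroup.mem_zpowers r)
      have hdE : π ((η ⟨y, hyK⟩)⁻¹ * r) = 1 := by
        rw [S.p_mul _ ((Cz z).inv_mem (hηC _)) r hr, S.p_inv (hηC _), hπ, inv_mul_cancel]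
      by_contra hne'
      have h1 : (η ⟨y, hyK⟩)⁻¹ * r ≠ 1 := fun e => hne' (inv_mul_eq_one.1 e)
      obtain ⟨k, hk⟩ := Subgroup.mem_zpowers_iff.1 hd
      exact (S.three_image ((Cz z).mul_mem ((Cz z).inv_mem (hηC _)) hr) (by
        rw [← hk, ← zpow_natCast, ← zpow_mul, mul_comm, zpow_mul, zpow_natCast, r3, one_zpow]) h1).2 hdE
    obtain ⟨-, o, ho, hoy⟩ := fusion ⟨y, hyK⟩ ⟨h, hhX, rfl⟩
    rw [hr'] at hoy
    change o * r * o⁻¹ = y at hoy
    -- `O` is commutative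
    have hOc : ∀ x ∈ O, ∀ w ∈ O, x * w = w * x := fun x hx w hw => by
      have e := hOinv _ (O.mul_mem hx hw)
      rw [S.conj_mul, hOinv x hx, hOinv w hw, ← mul_inv_rev] at e
      exact (inv_injective e).symm
    have hδ : ∀ n : ℕ, o ^ n * r * (o ^ n)⁻¹ * r⁻¹ = (y * r⁻¹) ^ n := by
      intro n
      have hc : Commute o (r * o⁻¹ * r⁻¹) := hOc o ho _ (hOn r hrK.2 _ (O.inv_mem ho))
      rw [show y * r⁻¹ = o * (r * o⁻¹ * r⁻¹) by rw [← hoy]; group, hc.mul_pow, conj_pow, inv_pow]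
      group
    obtain ⟨e, he⟩ : ∃ e : ℕ, (y * r⁻¹) ^ 3 ^ e = 1 := by
      obtain ⟨e, he⟩ := (P0.2.map (X ⊓ Cz b).subtype) ⟨y * r⁻¹, S0.mul_mem hyS0 (S0.inv_mem hrS0)⟩
      exact ⟨e, by simpa using congrArg Subtype.val he⟩
    obtain ⟨s', m, hm, hn⟩ := Nat.exists_eq_pow_mul_and_not_dvd (orderOf_pos o).ne' 3 (by norm_num)
    obtain ⟨t, ht⟩ := exists_pow_eq_self_of_coprime (x := y * r⁻¹) (n := m)
      (Nat.Coprime.coprime_dvd_right (orderOf_dvd_of_pow_eq_one he)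
        (Nat.Coprime.pow_right e (Nat.coprime_comm.1 (Nat.prime_three.coprime_iff_not_dvd.2 hm))))
    set o3 := o ^ (m * t) with ho3
    have ho3O : o3 ∈ O := O.pow_mem ho _
    have ho3y : o3 * r * o3⁻¹ = y := by
      have e1 := hδ (m * t)
      rw [pow_mul (y * r⁻¹), ht] at e1
      calc o3 * r * o3⁻¹ = o3 * r * o3⁻¹ * r⁻¹ * r := by group
        _ = y := by rw [ho3, e1]; group
    have ho3p : o3 ^ 3 ^ s' = 1 := by
      rw [ho3, ← pow_mul, show m * t * 3 ^ s' = 3 ^ s' * m * t by ring, ← hn, pow_mul, pow_orderOf_eq_one,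
        one_pow]
    have ho3S0 : o3 ∈ S0 := by
      let O3 : Subgroup ↥(X ⊓ Cz b) :=
        { carrier := {x | (x : G) ∈ O ∧ ∃ k : ℕ, (x : G) ^ 3 ^ k = 1}
          one_mem' := ⟨O.one_mem, 0, by simp⟩
          mul_mem' := by
            rintro x w ⟨hx, j, hj⟩ ⟨hw, k, hk⟩
            refine ⟨O.mul_mem hx hw, j + k, ?_⟩
            rw [Subgroup.coe_mul, (show Commute (x : G) w from hOc _ hx _ hw).mul_pow]
            have e1 : (x : G) ^ 3 ^ (j + k) = 1 := by rw [pow_add, pow_mul, hj, one_pow]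
            have e2 : (w : G) ^ 3 ^ (j + k) = 1 := by rw [add_comm, pow_add, pow_mul, hk, one_pow]
            rw [e1, e2, mul_one]
          inv_mem' := by
            rintro x ⟨hx, j, hj⟩
            exact ⟨O.inv_mem hx, j, by rw [Subgroup.coe_inv, inv_pow, hj, inv_one]⟩ }
      have hO3p : IsPGroup 3 O3 := fun x => by
        obtain ⟨k, hk⟩ := x.2.2
        exact ⟨k, Subtype.ext (Subtype.ext (by simpa using hk))⟩
      haveI : O3.Normal := ⟨fun x hx g => by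
        obtain ⟨hxO, k, hk⟩ := hx
        refine ⟨hOn _ g.2.2 _ hxO, k, ?_⟩
        show ((g : G) * x * (g : G)⁻¹) ^ 3 ^ k = 1
        rw [conj_pow, hk]; group⟩
      have hsup : (P0 : Subgroup ↥(X ⊓ Cz b)) ⊔ O3 = P0 := P0.3 (P0.2.to_sup_of_normal_right hO3p) le_sup_left
      exact ⟨⟨o3, hOK ho3O⟩, hsup ▸ Subgroup.mem_sup_right ⟨ho3O, s', ho3p⟩, rfl⟩
    have hkD : o3⁻¹ * h ∈ (X ⊓ Cz r) ⊓ PG := by
      refine ⟨⟨X.mul_mem (X.inv_mem (hOX ho3O)) hhX, mem_Cz.2 (mul_inv_eq_iff_eq_mul.1 ?_)⟩,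
        PG.mul_mem (PG.inv_mem (hS0PG ho3S0)) s.2⟩
      calc o3⁻¹ * h * r * (o3⁻¹ * h)⁻¹ = o3⁻¹ * (h * r * h⁻¹) * o3 := by group
        _ = r := by rw [← hydef, ← ho3y]; group
    have hR : T.grp = (X ⊓ Cz r) ⊓ PG := by
      refine Subgroup.eq_of_le_of_card_ge
        (le_inf (T.grp_le ⟨hσX, mem_Cz.2 T.comm⟩ ⟨hrX, mem_Cz.2 rfl⟩) (hRS0.trans hS0PG)) ?_
      obtain ⟨n, hn'⟩ := IsPGroup.iff_card.1 (hPGp.to_le (inf_le_right : (X ⊓ Cz r) ⊓ PG ≤ PG))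
      have hn2 : n ≤ 2 := by
        by_contra h3
        have h27 : 3 ^ 3 ∣ 180 := (Nat.pow_dvd_pow 3 (by omega : 3 ≤ n)).trans
          (hn' ▸ hD180 ▸ Subgroup.card_dvd_of_le inf_le_left)
        norm_num at h27
      rw [T.card_grp, hn']
      calc 3 ^ n ≤ 3 ^ 2 := Nat.pow_le_pow_right (by norm_num) hn2
        _ = 9 := by norm_num
    have : h ∈ S0 := by
      rw [show h = o3 * (o3⁻¹ * h) by group]
      exact S0.mul_mem ho3S0 (hRS0 (show o3⁻¹ * h ∈ T.grp by rw [hR]; exact hkD))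
    exact Subgroup.mem_subgroupOf.2 this
  have hcP : Nat.card (P : Subgroup X) = Nat.card (P0 : Subgroup ↥(X ⊓ Cz b)) := by
    have e1 : Nat.card ((P : Subgroup X).map X.subtype) = Nat.card (P : Subgroup X) :=
      Subgroup.card_map_of_injective X.subtype_injective
    rw [← e1, ← hPG, heq, hS0,
      Subgroup.card_map_of_injective (X ⊓ Cz b).subtype_injective]
  have h1 := P.card_mul_index
  have h2 := P0.card_mul_index
  have h3 := ((X ⊓ Cz b).subgroupOf X).card_mul_index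
  rw [Nat.card_congr (Subgroup.subgroupOfEquivOfLe (show (X ⊓ Cz b) ≤ X from inf_le_left)).toEquiv] at h3
  rw [← h3, ← h2, hcP, mul_assoc] at h1
  have := Nat.eq_of_mul_eq_mul_left Nat.card_pos h1
  exact P.not_dvd_index (this.symm ▸ hdvd.mul_left _)

end Setting

/-- the kernel of a map to a group of order three -/
theorem kernel_three {G : Type*} [Group G] {X : Subgroup G} {A : Type*} [CommGroup A] (hA3 : Nat.card A = 3)
    (τ : ↥X →* A) {r : G} (hrX : r ∈ X) (hτr : τ ⟨r, hrX⟩ ≠ 1) :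
    ∃ L : Subgroup G, L ≤ X ∧ (∀ x ∈ X, ∀ l ∈ L, x * l * x⁻¹ ∈ L) ∧
    (∀ g ∈ X, ∃ k : ℕ, g * r ^ k ∈ L) ∧ (∀ u ∈ X, u ^ 8 = 1 → u ∈ L) ∧
    (∀ k : ℕ, r ^ k ∈ L → 3 ∣ k) := by
  haveI : Fact (Nat.Prime 3) := ⟨Nat.prime_three⟩
  haveI : Finite A := Nat.finite_of_card_ne_zero (by rw [hA3]; norm_num)
  have hA1 : ∀ x : A, x ^ 3 = 1 := fun x => hA3 ▸ pow_card_eq_one'
  refine ⟨τ.ker.map X.subtype, Subgroup.map_subtype_le _, ?_, ?_, ?_, ?_⟩
  · rintro x hx _ ⟨l, hl, rfl⟩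
    exact ⟨⟨x, hx⟩ * l * ⟨x, hx⟩⁻¹, (inferInstance : τ.ker.Normal).conj_mem l hl _, rfl⟩
  · intro g hg
    have htop : Subgroup.zpowers (τ ⟨r, hrX⟩) = ⊤ := by
      haveI : Finite A := Nat.finite_of_card_ne_zero (by rw [hA3]; norm_num)
      refine Subgroup.eq_top_of_card_eq _ ?_
      rw [Nat.card_zpowers, orderOf_eq_prime (hA1 _) hτr, hA3]
    haveI : Finite A := Nat.finite_of_card_ne_zero (by rw [hA3]; norm_num)
    obtain ⟨k, hk⟩ := mem_powers_iff_mem_zpowers.2 (htop.ge (Subgroup.mem_top (τ ⟨g, hg⟩)⁻¹))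
    refine ⟨k, ⟨g * r ^ k, X.mul_mem hg (X.pow_mem hrX k)⟩, ?_, rfl⟩
    rw [SetLike.mem_coe, MonoidHom.mem_ker,
      show (⟨g * r ^ k, _⟩ : X) = ⟨g, hg⟩ * ⟨r, hrX⟩ ^ k from Subtype.ext (by simp), map_mul, map_pow]
    rw [show τ ⟨r, hrX⟩ ^ k = (τ ⟨g, hg⟩)⁻¹ from hk, mul_inv_cancel]
  · intro u hu u8
    refine ⟨⟨u, hu⟩, ?_, rfl⟩
    rw [SetLike.mem_coe, MonoidHom.mem_ker]
    have e8 : τ ⟨u, hu⟩ ^ 8 = 1 := by
      rw [← map_pow, show (⟨u, hu⟩ : X) ^ 8 = 1 from Subtype.ext (by simpa using u8), map_one]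
    calc τ ⟨u, hu⟩ = (τ ⟨u, hu⟩ ^ 3) ^ 3 * (τ ⟨u, hu⟩ ^ 8)⁻¹ := by group
      _ = 1 := by rw [hA1, e8]; group
  · rintro k ⟨x, hx, hxe⟩
    rw [show x = ⟨r, hrX⟩ ^ k from Subtype.ext (by simpa using hxe), SetLike.mem_coe, MonoidHom.mem_ker,
      map_pow] at hx
    have := orderOf_dvd_of_pow_eq_one hx
    rwa [orderOf_eq_prime (hA1 _) hτr] at this

namespace Setting

variable {G : Type*} [Group G] {z : G} {E : Subgroup G} {v : G → B4} {π : G → S5} {a : G}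
  (S : Setting z E v π a) {X : Subgroup G} (D : Even S X)
include S D

set_option maxHeartbeats 800000 in
/-- the subgroup of index three in `X` -/
theorem exists_L [Finite G] : ∃ (r : G) (L : Subgroup G), r ∈ Cz z ∧ r ^ 3 = 1 ∧ r ≠ 1 ∧ L ≤ X ∧
    (∀ x ∈ X, ∀ l ∈ L, x * l * x⁻¹ ∈ L) ∧ (∀ g ∈ X, ∃ k : ℕ, g * r ^ k ∈ L) ∧
    (∀ u ∈ X, u ^ 8 = 1 → u ∈ L) ∧ L ⊓ Cz z = S.U := by
  classical
  haveI : Fact (Nat.Prime 3) := ⟨Nat.prime_three⟩
  obtain ⟨r, hr, r3, r1, hra⟩ := S.exists_three_a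
  obtain ⟨hD180, σ, b, hσX, T, -, hb, ⟨i, hi, hvb⟩, hbr, hbσ⟩ := S.three_data D hr r3 r1
  have Q : Side S X r b i := ⟨hr, r3, r1, hb, hi, hvb, hbr⟩
  obtain ⟨O, η, P⟩ := S.exists_proj D Q
  have hidx := S.index_three D Q P hσX T hbσ hD180
  have fusion := S.fusion D Q P
  have hrX : r ∈ X := D.three r hr r3
  obtain ⟨p3, p1'⟩ := S.three_image hr r3 r1
  have hrK : r ∈ (X ⊓ Cz b) := S.rK D Q
  set A := Subgroup.zpowers (π r)
  have hA3 : Nat.card A = 3 := by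
    rw [Nat.card_zpowers, orderOf_eq_prime (p := 3) (by simpa [pow_succ] using p3) p1']
  letI : CommGroup A :=
    { (inferInstance : Group A) with
      mul_comm := fun x y => by
        obtain ⟨j, hj⟩ := Subgroup.mem_zpowers_iff.1 x.2
        obtain ⟨k, hk⟩ := Subgroup.mem_zpowers_iff.1 y.2
        exact Subtype.ext (by rw [Subgroup.coe_mul, Subgroup.coe_mul, ← hj, ← hk, ← zpow_add, ← zpow_add, add_comm]) }
  have hφmem : ∀ g : ↥(X ⊓ Cz b), π (η g) ∈ A := by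
    intro g
    rcases P.img g with e | e | e <;> rw [e]
    exacts [A.one_mem, Subgroup.mem_zpowers _, A.mul_mem (Subgroup.mem_zpowers _) (Subgroup.mem_zpowers _)]
  let φ : ↥(X ⊓ Cz b) →* A :=
    { toFun := fun g => ⟨π (η g), hφmem g⟩
      map_one' := Subtype.ext (by show π (η 1) = 1; rw [map_one]; exact S.p1)
      map_mul' := fun g g' => Subtype.ext (by
        show π (η (g * g')) = π (η g) * π (η g')
        rw [map_mul, S.p_mul _ (P.mem g).2 _ (P.mem g').2]) }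
  have hφr : (φ ⟨r, hrK⟩ : S5) = π r := by
    show π (η ⟨r, hrK⟩) = π r
    rw [P.fixed ⟨r, hrK⟩ hr]
  let φX : (X ⊓ Cz b).subgroupOf X →* A := φ.comp (Subgroup.subgroupOfEquivOfLe (inf_le_left : (X ⊓ Cz b) ≤ X)).toMonoidHom
  have hA1 : ∀ x : A, x ^ 3 = 1 := fun x => hA3 ▸ pow_card_eq_one'
  have hτr : MonoidHom.transfer φX ⟨r, hrX⟩ ≠ 1 := by
    rw [CfsgLib.Transfer.transfer_eq_pow_of_controlled φX (g := (⟨r, hrX⟩ : X))
      (Subgroup.mem_subgroupOf.2 hrK)]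
    · refine CfsgLib.Transfer.pow_ne_one_of_coprime_prime (p := 3) ⟨1, by rw [pow_one]; exact hA1 _⟩ ?_ hidx
      intro e
      exact p1' (hφr.symm.trans (congrArg Subtype.val e))
    · intro k x hx
      have hx' := Subgroup.mem_subgroupOf.1 hx
      have hmod : ∀ n : ℕ, r ^ n = r ^ (n % 3) := fun n => by
        conv_lhs => rw [← Nat.mod_add_div n 3, pow_add, pow_mul, r3, one_pow, mul_one]
      have hval : ((x⁻¹ * (⟨r, hrX⟩ : X) ^ k * x : X) : G) = (x : G)⁻¹ * r ^ k * x := by simp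
      rw [hval] at hx'
      show φ ⟨((x⁻¹ * (⟨r, hrX⟩ : X) ^ k * x : X) : G), _⟩ = φ ⟨r, hrK⟩ ^ k
      have hA' : φ ⟨r, hrK⟩ ^ k = φ ⟨r, hrK⟩ ^ (k % 3) := by
        conv_lhs => rw [← Nat.mod_add_div k 3, pow_add, pow_mul, hA1, one_pow, mul_one]
      simp only [hval]
      rw [hA']
      rcases (show k % 3 = 0 ∨ k % 3 = 1 ∨ k % 3 = 2 by omega) with e | e | e
      · have h0 : (⟨(x : G)⁻¹ * r ^ k * x, hx'⟩ : ↥(X ⊓ Cz b)) = 1 := Subtype.ext (by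
          show (x : G)⁻¹ * r ^ k * x = 1
          rw [hmod k, e, pow_zero]; group)
        rw [h0, map_one, e, pow_zero]
      · have hxr : (x : G)⁻¹ * r * (x : G)⁻¹⁻¹ = (x : G)⁻¹ * r ^ k * x := by rw [hmod k, e, pow_one, inv_inv]
        have := (fusion ⟨_, hx'⟩ ⟨(x : G)⁻¹, X.inv_mem x.2, hxr⟩).1
        rw [e, pow_one]
        exact Subtype.ext (this.trans hφr.symm)
      · have hrk : r ^ k = r⁻¹ := by
          rw [hmod k, e]
          exact eq_inv_of_mul_eq_one_left (by rw [← pow_succ]; exact r3)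
        have hxr : (x : G)⁻¹ * r * (x : G)⁻¹⁻¹ = (((⟨_, hx'⟩ : ↥(X ⊓ Cz b))⁻¹ : ↥(X ⊓ Cz b)) : G) := by
          show _ = ((x : G)⁻¹ * r ^ k * x)⁻¹
          rw [hrk]; group
        have := (fusion (⟨_, hx'⟩ : ↥(X ⊓ Cz b))⁻¹ ⟨(x : G)⁻¹, X.inv_mem x.2, hxr⟩).1
        have h' : φ (⟨_, hx'⟩ : ↥(X ⊓ Cz b))⁻¹ = φ ⟨r, hrK⟩ := Subtype.ext (this.trans hφr.symm)
        rw [e, ← inv_inv (φ _), ← map_inv, h']
        exact inv_eq_of_mul_eq_one_right (by rw [← pow_succ']; exact hA1 _)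
  obtain ⟨L, hLX, hLn, hLr, hL2, hLk⟩ := kernel_three hA3 (MonoidHom.transfer φX) hrX hτr
  refine ⟨r, L, hr, r3, r1, hLX, hLn, hLr, hL2, ?_⟩
  have hUL : ∀ u ∈ S.U, u ∈ L := fun u hu => hL2 u (D.U_le hu) (S.U_pow8 hu)
  refine le_antisymm ?_ fun u hu => ⟨hUL u hu, hu.1⟩
  rintro x ⟨hxL, hgC⟩
  obtain ⟨hga, hgs⟩ := (D.memH _ hgC).1 (hLX hxL)
  have key : ∀ n : ℕ, π (r ^ n * x) = 1 ∨ Dbl (π (r ^ n * x)) → x ∈ S.U := by
    intro n hn
    have hU : r ^ n * x ∈ S.U := ⟨(Cz z).mul_mem ((Cz z).pow_mem hr n) hgC,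
      (((show Commute r a from hra).pow_left n).mul_left hga).eq, hn⟩
    have := L.mul_mem (hUL _ hU) (L.inv_mem hxL)
    rw [mul_inv_cancel_right] at this
    obtain ⟨j, rfl⟩ := hLk n this
    rwa [pow_mul, r3, one_pow, one_mul] at hU
  rcases even_cases _ (S.p_zero r hr) p3 p1' _ (S.p_zero _ hgC) hgs with e | e | e
  · exact key 0 (by rw [pow_zero, one_mul]; exact e)
  · exact key 1 (by rw [pow_one, S.p_mul r hr _ hgC]; exact e)
  · exact key 2 (by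
      rw [pow_two, S.p_mul _ ((Cz z).mul_mem hr hr) _ hgC, S.p_mul r hr r hr]; exact e)

end Setting

end CfsgLib.MinusFourSymFour
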