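import Cfsg.Agent.Lib.MinusFourSymFour.UGroup
import Cfsg.Agent.Lib.Transfer.Thompson

/-!
Transfer to the prime two.
-/

set_option autoImplicit false
set_option linter.unusedSectionVars false
set_option synthInstance.maxSize 2000
set_option synthInstance.maxHeartbeats 100000
set_option linter.style.haveILetI false

namespace CfsgLib.MinusFourSymFour

theorem sv_zero : sv 0 = ad (ad (sv 1) (sv 2)) (ad (sv 3) (sv 4)) := by decide +kernel

theorem swap12 : act5 (Equiv.swap 1 2) (un 0) = un 0 ∧ act5 (Equiv.swap 1 2) (un 1) = ad (un 0) (un 1) ∧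
    act5 (Equiv.swap 1 2) (un 2) = un 2 ∧ act5 (Equiv.swap 1 2) (un 3) = un 3 ∧
    (Equiv.swap 1 2 : S5) 0 = 0 ∧ Tr (Equiv.swap 1 2) := by decide +kernel

theorem un_q4 : ∀ i, q4 (un i) = true := by decide +kernel

theorem dbl_three : ∀ δ : S5, Dbl δ → ∀ r : S5, r 0 = 0 → r * r * r = 1 → r ≠ 1 →
    r * (δ * (r * δ * r⁻¹)) * r⁻¹ = δ := fun δ hd r h0 h3 h1 => (dbl_rotate δ hd r h0 h3 h1).2.2

/-- `E ∩ X` centralises `a`, and `X` contains `U` -/
structure Kill {G : Type*} [Group G] {z : G} {E : Subgroup G} {v : G → B4} {π : G → S5} {a : G}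
    (S : Setting z E v π a) (X : Subgroup G) : Prop where
  normal : X.Normal
  mem_E : ∀ x ∈ E, x ∈ X → x * a = a * x
  U_le : S.U ≤ X
  three : ∀ r ∈ Cz z, r ^ 3 = 1 → r ∈ X

namespace Setting

variable {G : Type*} [Group G] {z : G} {E : Subgroup G} {v : G → B4} {π : G → S5} {a : G}
  (S : Setting z E v π a)
include S

/-- the centraliser of the involution has odd index -/
theorem odd_index [Finite G] : Odd (Cz z).index := by
  haveI : Fact (Nat.Prime 2) := ⟨Nat.prime_two⟩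
  let T : Sylow 2 (Cz z) := default
  set T' := (T : Subgroup (Cz z)).map (Cz z).subtype with hT'
  haveI hEn : (E.subgroupOf (Cz z)).Normal := ⟨fun n hn g => S.enorm g g.2 n hn⟩
  have hEp : IsPGroup 2 (E.subgroupOf (Cz z)) := IsPGroup.of_card (n := 5) (by
    rw [Nat.card_congr (Subgroup.subgroupOfEquivOfLe fun x hx => S.ecz x hx).toEquiv, S.card]; norm_num)
  have hET : E.subgroupOf (Cz z) ≤ (T : Subgroup (Cz z)) := by
    obtain ⟨P, hP⟩ := hEp.exists_le_sylow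
    obtain ⟨t, ht⟩ := MulAction.exists_smul_eq (Cz z) P T
    intro q hq
    rw [← ht, Sylow.coe_subgroup_smul]
    exact ⟨t⁻¹ * q * t, hP (by simpa using hEn.conj_mem q hq t⁻¹),
      show t * (t⁻¹ * q * t) * t⁻¹ = q by group⟩
  have hET' : E ≤ T' := fun x hx => ⟨⟨x, S.ecz x hx⟩, hET hx, rfl⟩
  obtain ⟨P, hP⟩ := (T.2.map (Cz z).subtype).exists_le_sylow
  have hPH : (P : Subgroup G) ≤ Cz z := by
    by_contra hne
    have hlt : T'.subgroupOf P < ⊤ := lt_of_le_of_ne le_top fun e =>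
      hne ((Subgroup.subgroupOf_eq_top.1 e).trans (Subgroup.map_subtype_le _))
    haveI := P.2.isNilpotent
    obtain ⟨s, hs, hs'⟩ := SetLike.exists_of_lt
      ((Group.normalizerCondition_of_isNilpotent (G := (P : Subgroup G))) _ hlt)
    have hzT : z ∈ T' := hET' S.zE
    have hsz : (s : G) * z * (s : G)⁻¹ = z := by
      obtain ⟨c, hc, hce⟩ : (s : G) * z * (s : G)⁻¹ ∈ T' :=
        (Subgroup.mem_normalizer_iff.1 hs ⟨z, hP hzT⟩).1 hzT
      change (c : G) = (s : G) * z * (s : G)⁻¹ at hce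
      have hall : ∀ x ∈ T', (c : G) * x = x * c := by
        rintro x hx
        have hs2 := Subgroup.inv_mem _ hs
        obtain ⟨d, hd, hde⟩ : (s : G)⁻¹ * x * s ∈ T' := by
          have := (Subgroup.mem_normalizer_iff.1 hs2 ⟨x, hP hx⟩).1 hx
          simpa [Subgroup.mem_subgroupOf] using this
        change (d : G) = (s : G)⁻¹ * x * s at hde
        have h1 : (d : G) * z = z * d := mem_Cz.1 d.2
        calc (c : G) * x = s * (z * d) * (s : G)⁻¹ := by rw [hce, hde]; group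
          _ = s * (d * z) * (s : G)⁻¹ := by rw [h1]
          _ = x * c := by rw [hce, hde]; group
      have hcE : (c : G) ∈ E := S.cE c c.2 fun x hx => hall x (hET' hx)
      rcases S.cen c hcE (fun y hy => hall y (hET' hy)) with h | h
      · exact absurd (conj_eq_one_iff.1 (hce.symm.trans h)) S.z1
      · rw [← hce, h]
    have hsC : (s : G) ∈ Cz z := mem_Cz.2 (mul_inv_eq_iff_eq_mul.1 hsz)
    have hRp : IsPGroup 2 ((P : Subgroup G).subgroupOf (Cz z)) :=
      P.2.comap_of_injective (Cz z).subtype (Cz z).subtype_injective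
    have hRT := T.3 hRp fun x hx => hP ⟨x, hx, rfl⟩
    exact hs' ⟨⟨s, hsC⟩, hRT ▸ (show (⟨(s : G), hsC⟩ : Cz z) ∈ (P : Subgroup G).subgroupOf (Cz z) from s.2), rfl⟩
  rw [← Nat.not_even_iff_odd, even_iff_two_dvd]
  exact fun h => P.not_dvd_index (h.trans (Subgroup.index_dvd_of_le hPH))

theorem transfer_invol [Finite G] (φ : ↥(Cz z) →* ℤˣ) {u : G} (hu : u ∈ Cz z) (u2 : u * u = 1)
    (key : ∀ w, ∀ hw : w ∈ Cz z, IsConj u w → φ ⟨w, hw⟩ = φ ⟨u, hu⟩) :
    MonoidHom.transfer φ u = φ ⟨u, hu⟩ := by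
  rw [CfsgLib.Transfer.transfer_eq_pow_of_controlled φ hu]
  · obtain ⟨k, hk⟩ := S.odd_index
    rw [hk, pow_succ, pow_mul, pow_two, Int.units_mul_self, one_pow, one_mul]
  · intro k x hx
    rcases Nat.even_or_odd' k with ⟨j, rfl | rfl⟩
    · have e : x⁻¹ * u ^ (2 * j) * x = 1 := by rw [pow_mul, pow_two, u2, one_pow]; group
      rw [show (⟨x⁻¹ * u ^ (2 * j) * x, hx⟩ : Cz z) = 1 from Subtype.ext e, map_one, pow_mul, pow_two,
        Int.units_mul_self, one_pow]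
    · have e : x⁻¹ * u ^ (2 * j + 1) * x = x⁻¹ * u * x := by
        rw [pow_succ, pow_mul, pow_two, u2, one_pow, one_mul]
      conv_rhs => rw [pow_succ, pow_mul, pow_two, Int.units_mul_self, one_pow, one_mul]
      exact key _ hx (isConj_iff.2 ⟨x⁻¹, by rw [inv_inv, e]⟩)

theorem sv_gen {D : Subgroup G} (h : ∀ i : Fin 5, i ≠ 0 → ∀ x ∈ E, v x = sv i → x ∈ D) : E ≤ D := by
  have hs : ∀ i : Fin 5, ∃ x ∈ D, x ∈ E ∧ v x = sv i := by
    intro i
    by_cases hi : i = 0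
    · subst hi
      obtain ⟨x1, h1, v1⟩ := S.v_surj (sv 1)
      obtain ⟨x2, h2, v2⟩ := S.v_surj (sv 2)
      obtain ⟨x3, h3, v3⟩ := S.v_surj (sv 3)
      obtain ⟨x4, h4, v4⟩ := S.v_surj (sv 4)
      refine ⟨x1 * x2 * (x3 * x4), D.mul_mem (D.mul_mem (h 1 (by decide) x1 h1 v1) (h 2 (by decide) x2 h2 v2))
        (D.mul_mem (h 3 (by decide) x3 h3 v3) (h 4 (by decide) x4 h4 v4)),
        E.mul_mem (E.mul_mem h1 h2) (E.mul_mem h3 h4), ?_⟩
      rw [S.v_mul _ (E.mul_mem h1 h2) _ (E.mul_mem h3 h4), S.v_mul _ h1 _ h2, S.v_mul _ h3 _ h4, v1, v2, v3, v4,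
        ← sv_zero]
    · obtain ⟨x, hx, hvx⟩ := S.v_surj (sv i)
      exact ⟨x, h i hi x hx hvx, hx, hvx⟩
  have hz : z ∈ D := by
    obtain ⟨x, hx, hvx⟩ := S.v_surj (sv 1)
    obtain ⟨y, hy, hyx⟩ := S.flip hx (by rw [hvx]; exact (sv_facts.1 1).2)
    have h1 := h 1 (by decide) x hx hvx
    have h2 := h 1 (by decide) (x * z) (E.mul_mem hx S.zE) ((S.v_mul_z hx).trans hvx)
    have := D.mul_mem (D.inv_mem h1) h2
    rwa [inv_mul_cancel_left] at this
  choose f hfD hfE hfv using hs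
  let w : Fin 4 → G := fun i => f (![1, 2, 3, 4] i) * f (![2, 3, 4, 0] i)
  have hw : ∀ i, w i ∈ D ∧ w i ∈ E ∧ v (w i) = un i := fun i =>
    ⟨D.mul_mem (hfD _) (hfD _), E.mul_mem (hfE _) (hfE _), by
      rw [S.v_mul _ (hfE _) _ (hfE _), hfv, hfv, ← un_sv]⟩
  intro x hx
  have hbit : ∀ (b : Bool) i, (bif b then w i else 1) ∈ D ∧ (bif b then w i else 1) ∈ E ∧
      v (bif b then w i else 1) = bif b then un i else z4 := by
    intro b i
    cases b
    · exact ⟨D.one_mem, E.one_mem, S.v_one⟩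
    · exact hw i
  obtain ⟨a0, b0', c0⟩ := hbit (v x 0) 0
  obtain ⟨a1, b1', c1⟩ := hbit (v x 1) 1
  obtain ⟨a2, b2', c2⟩ := hbit (v x 2) 2
  obtain ⟨a3, b3', c3⟩ := hbit (v x 3) 3
  have hu : v (uc w (v x)) = v x := by
    rw [uc, S.v_mul _ (E.mul_mem (E.mul_mem b0' b1') b2') _ b3', S.v_mul _ (E.mul_mem b0' b1') _ b2',
      S.v_mul _ b0' _ b1', c0, c1, c2, c3, ← un_span]
  have huD : uc w (v x) ∈ D := D.mul_mem (D.mul_mem (D.mul_mem a0 a1) a2) a3
  have huE : uc w (v x) ∈ E := E.mul_mem (E.mul_mem (E.mul_mem b0' b1') b2') b3'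
  rcases S.mem_of_v hx huE hu.symm with e | e <;> rw [e]
  exacts [huD, D.mul_mem huD hz]

/-- The transfer that removes the involutions moving `a`. -/
theorem exists_kill [Finite G] : ∃ f : G →* ℤˣ, Kill S f.ker := by
  classical
  have hmov : ∀ h : Cz z, ¬ ((h : G) * a = a * h) → (h : G) * a * (h : G)⁻¹ = a * z := fun h e =>
    (S.conj_a h.2).resolve_left fun e' => e (mul_inv_eq_iff_eq_mul.1 e')
  let φ : Cz z →* ℤˣ :=
    { toFun := fun h => if (h : G) * a = a * h then 1 else -1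
      map_one' := by simp
      map_mul' := by
        intro g h
        have key : ∀ k : Cz z, ∀ w : G, (k : G) * a * (k : G)⁻¹ = w → ((k : G) * a = a * k ↔ w = a) :=
          fun k w e => by rw [← e, mul_inv_eq_iff_eq_mul]
        have hgh : ((g * h : Cz z) : G) * a * ((g * h : Cz z) : G)⁻¹ =
            (g : G) * ((h : G) * a * (h : G)⁻¹) * (g : G)⁻¹ := by
          rw [Subgroup.coe_mul]; group
        have haz : a * z ≠ a := fun e => S.z1 (mul_eq_left.1 e)
        rcases S.conj_a g.2 with eg | eg <;> rcases S.conj_a h.2 with eh | eh <;>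
          rw [eh] at hgh <;> (try rw [S.conj_mul, S.conj_z g.2] at hgh) <;> rw [eg] at hgh <;>
          (try rw [mul_assoc a z z, S.z2, mul_one] at hgh) <;>
          (have k3 := key (g * h) _ hgh) <;> rw [Subgroup.coe_mul] at k3 <;>
          simp [key g _ eg, key h _ eh, k3, haz] }
  have hφ : ∀ {h : G} (hh : h ∈ Cz z), φ ⟨h, hh⟩ = 1 ↔ h * a = a * h := fun {h} hh => by
    show (if h * a = a * h then (1 : ℤˣ) else -1) = 1 ↔ _
    by_cases e : h * a = a * h <;> simp [e]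
  set V := MonoidHom.transfer φ with hV
  have hb : ∀ i : Fin 5, i ≠ 0 → ∀ x ∈ E, v x = sv i → ∀ hx : x ∈ Cz z, V x = φ ⟨x, hx⟩ ∧ φ ⟨x, hx⟩ = -1 := by
    intro i hi x hx hvx hxC
    have hm : φ ⟨x, hxC⟩ = -1 := by
      refine (Int.units_eq_one_or _).resolve_left fun e => ?_
      have := S.bit_comm hx S.aE ((hφ hxC).1 e)
      rw [hvx, S.va, b4_sv i hi] at this
      exact Bool.noConfusion this
    refine ⟨S.transfer_invol φ hxC (by rw [S.v_sq x hx, hvx, (sv_facts.1 i).1]; rfl) fun w hw hc => ?_, hm⟩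
    obtain ⟨h, hh, rfl⟩ := S.b_rigid hx hi hvx hw hc
    rw [show (⟨h * x * h⁻¹, hw⟩ : Cz z) = ⟨h, hh⟩ * ⟨x, hxC⟩ * ⟨h, hh⟩⁻¹ from rfl, map_mul, map_mul, map_inv,
      mul_inv_cancel_comm]
  -- agreement on `E`
  have hEe : ∀ x, ∀ hx : x ∈ E, V x = φ ⟨x, S.ecz x hx⟩ := by
    let D : Subgroup G :=
      { carrier := {x | ∃ hx : x ∈ Cz z, V x = φ ⟨x, hx⟩}
        one_mem' := ⟨(Cz z).one_mem, by rw [map_one]; exact (map_one φ).symm⟩
        mul_mem' := by
          rintro x y ⟨hx, ex⟩ ⟨hy, ey⟩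
          exact ⟨(Cz z).mul_mem hx hy, by rw [map_mul, ex, ey, ← map_mul]; rfl⟩
        inv_mem' := by
          rintro x ⟨hx, ex⟩
          exact ⟨(Cz z).inv_mem hx, by rw [map_inv, ex, ← map_inv]; rfl⟩ }
    intro x hx
    obtain ⟨hx', e⟩ := S.sv_gen (D := D) (fun i hi y hy hvy => ⟨S.ecz y hy, (hb i hi y hy hvy _).1⟩) hx
    exact e
  have three : ∀ r : G, r ^ 3 = 1 → V r = 1 := fun r r3 => by
    have : V r ^ 3 = 1 := by rw [← map_pow, r3, map_one]
    rwa [pow_succ, pow_two, Int.units_mul_self, one_mul] at this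
  refine ⟨V, inferInstance, fun x hx hxX => (hφ _).1 ((hEe x hx).symm.trans hxX), ?_,
    fun r _ r3 => three r r3⟩
  intro u hu
  have hE' : ∀ x, x ∈ E → x * a = a * x → V x = 1 := fun x hx hxa => (hEe x hx).trans ((hφ _).2 hxa)
  rcases hu.2.2 with e | e
  · exact hE' u ((S.p_one u hu.1).1 e) hu.2.1
  · obtain ⟨r, hr, r3, r1, -⟩ := S.exists_three_a
    obtain ⟨p3, p1'⟩ := S.three_image hr r3 r1
    set u1 := r * u * r⁻¹
    set c := r * (u * u1) * r⁻¹ with hc
    have hu1 : u1 ∈ S.U := S.U_normal hr hu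
    have hcU : c ∈ S.U := S.U_normal hr (S.U.mul_mem hu hu1)
    have hpc : π c = π u := by
      rw [hc, S.p_conj hr (S.U.mul_mem hu hu1).1, S.p_mul u hu.1 u1 hu1.1]
      simp only [u1]
      rw [S.p_conj hr hu.1]
      exact dbl_three _ e _ (S.p_zero r hr) p3 p1'
    have hd : c⁻¹ * u ∈ S.U := S.U.mul_mem (S.U.inv_mem hcU) hu
    have hdE : c⁻¹ * u ∈ E := (S.p_one _ hd.1).1 (by
      rw [S.p_mul _ ((Cz z).inv_mem hcU.1) u hu.1, S.p_inv hcU.1, hpc, inv_mul_cancel])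
    show V u = 1
    rw [show u = c * (c⁻¹ * u) by group, map_mul, hE' _ hdE hd.2.1, mul_one, hc, map_mul, map_mul, map_inv,
      mul_inv_cancel_comm, map_mul]
    simp only [u1]
    rw [map_mul, map_mul, map_inv, mul_inv_cancel_comm, Int.units_mul_self]

/-- an involution inducing a transposition -/
theorem exists_tr : ∃ t ∈ Cz z, t * t = 1 ∧ Tr (π t) := by
  obtain ⟨h0, hh0, hp⟩ := S.p_surj (Equiv.swap 1 2) swap12.2.2.2.2.1
  choose w hwE hwv using fun i : Fin 4 => S.v_surj (un i)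
  let T : Fin 4 → G := ![w 0 * z, w 0 * w 1, w 2, w 3]
  have hT : ∀ i, T i ∈ E ∧ v (T i) = act5 (Equiv.swap 1 2) (un i) := by
    intro i
    fin_cases i
    · exact ⟨E.mul_mem (hwE 0) S.zE, (S.v_mul_z (hwE 0)).trans ((hwv 0).trans swap12.1.symm)⟩
    · exact ⟨E.mul_mem (hwE 0) (hwE 1),
        (S.v_mul _ (hwE 0) _ (hwE 1)).trans (by rw [hwv, hwv]; exact swap12.2.1.symm)⟩
    · exact ⟨hwE 2, (hwv 2).trans swap12.2.2.1.symm⟩
    · exact ⟨hwE 3, (hwv 3).trans swap12.2.2.2.1.symm⟩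
  have hk : ∀ i, ∃ b : Bool, h0 * w i * h0⁻¹ = T i * zb z b := by
    intro i
    rcases S.mem_of_v (S.enorm h0 hh0 _ (hwE i)) (hT i).1
      (by rw [S.p_act h0 hh0 _ (hwE i), hp, hwv, (hT i).2]) with e | e
    · exact ⟨false, by rw [e]; exact (mul_one _).symm⟩
    · exact ⟨true, e⟩
  choose b hbk using hk
  obtain ⟨d, hd⟩ := b4_form.surj ![b 0, xor (b 1) (b 0), b 2, b 3]
  obtain ⟨u, hu, hvu⟩ := S.v_surj d
  have hub : ∀ i, b4 (v u) (v (T i)) = b i := by
    have hbb : ∀ x s t : B4, b4 x (ad s t) = xor (b4 x s) (b4 x t) := fun x s t => by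
      rw [b4_form.symm, b4_form.add, b4_form.symm s, b4_form.symm t]
    intro i
    rw [(hT i).2, hvu]
    fin_cases i
    · exact (congrArg (b4 d) swap12.1).trans (hd 0)
    · refine (congrArg (b4 d) swap12.2.1).trans ?_
      rw [hbb, hd 0, hd 1]
      show xor (b 0) (xor (b 1) (b 0)) = b 1
      cases b 0 <;> cases b 1 <;> rfl
    · exact (congrArg (b4 d) swap12.2.2.1).trans (hd 2)
    · exact (congrArg (b4 d) swap12.2.2.2.1).trans (hd 3)
  set h := u * h0 with hh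
  have hhC : h ∈ Cz z := (Cz z).mul_mem (S.ecz u hu) hh0
  have hconj : ∀ i, h * w i * h⁻¹ = T i := by
    intro i
    calc h * w i * h⁻¹ = u * (h0 * w i * h0⁻¹) * u⁻¹ := by rw [hh]; group
      _ = u * T i * u⁻¹ * (u * zb z (b i) * u⁻¹) := by rw [hbk, S.conj_mul]
      _ = T i * zb z (b i) * zb z (b i) := by
          rw [S.conj_zb (S.ecz u hu), S.v_comm u hu _ (hT i).1, hub]
          rw [mul_assoc (T i * u) (zb z (b i)), ← S.zb_comm ((Cz z).inv_mem (S.ecz u hu))]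
          group
      _ = T i := by rw [mul_assoc, S.zb_sq, mul_one]
  have hph : π h = Equiv.swap 1 2 := by
    rw [hh, S.p_mul u (S.ecz u hu) h0 hh0, S.p_E hu, one_mul, hp]
  have hq : ∀ i, w i * w i = z := fun i => by rw [S.v_sq _ (hwE i), hwv, un_q4]; rfl
  have h2 : ∀ i, Commute (h * h) (w i) := by
    intro i
    have e : h * h * w i * (h * h)⁻¹ = h * T i * h⁻¹ := by rw [← hconj i]; group
    refine mul_inv_eq_iff_eq_mul.1 (e.trans ?_)
    fin_cases i
    · show h * (w 0 * z) * h⁻¹ = w 0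
      rw [S.conj_mul, hconj 0, S.conj_z hhC]
      show w 0 * z * z = w 0
      rw [mul_assoc, S.z2, mul_one]
    · show h * (w 0 * w 1) * h⁻¹ = w 1
      rw [S.conj_mul, hconj 0, hconj 1]
      show w 0 * z * (w 0 * w 1) = w 1
      rw [mem_Cz.1 (S.ecz _ (hwE 0)), show z * w 0 * (w 0 * w 1) = z * (w 0 * w 0) * w 1 by group, hq, S.z2,
        one_mul]
    · show h * w 2 * h⁻¹ = w 2
      exact hconj 2
    · show h * w 3 * h⁻¹ = w 3
      exact hconj 3
  have hh2C : h * h ∈ Cz z := (Cz z).mul_mem hhC hhC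
  have hhE : h * h ∈ E := by
    refine (S.p_one _ hh2C).1 ?_
    rw [S.p_mul h hhC h hhC, hph, Equiv.swap_mul_self]
  have hcen : ∀ x ∈ E, h * h * x = x * (h * h) := by
    intro x hx
    refine S.commE hhE hx ?_
    rw [b4_form.nondeg (v (h * h)) fun i => by rw [← hwv i]; exact S.bit_comm hhE (hwE i) (h2 i)]
    exact (show ∀ c, b4 z4 c = false by decide +kernel) _
  rcases S.cen _ hhE hcen with e | e
  · exact ⟨h, hhC, e, hph ▸ swap12.2.2.2.2.2⟩
  · refine ⟨h * w 2, (Cz z).mul_mem hhC (S.ecz _ (hwE 2)), ?_, by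
      rw [S.p_mulE hhC (hwE 2), hph]; exact swap12.2.2.2.2.2⟩
    have hc2 : Commute h (w 2) := mul_inv_eq_iff_eq_mul.1 (hconj 2)
    calc h * w 2 * (h * w 2) = h * (w 2 * h) * w 2 := by group
      _ = h * h * (w 2 * w 2) := by rw [← hc2.eq]; group
      _ = 1 := by rw [e, hq, S.z2]

end Setting

end CfsgLib.MinusFourSymFour
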