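import Cfsg.Agent.Lib.MinusFourSymFour.Fusion
import Cfsg.Agent.Lib.OmegaEightCent.Invols

/-!
The normal 2-subgroup of index six of the centraliser of the pair, its involutions, and the rigidity of
the other singular classes.
-/

set_option autoImplicit false
set_option linter.unusedSectionVars false
set_option synthInstance.maxSize 2000
set_option synthInstance.maxHeartbeats 100000

namespace CfsgLib.MinusFourSymFour

theorem dbl_closed : ∀ σ : S5, (σ = 1 ∨ Dbl σ) → ∀ τ : S5, (τ = 1 ∨ Dbl τ) → σ * τ = 1 ∨ Dbl (σ * τ) := by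
  decide +kernel

theorem dbl_normal : ∀ σ : S5, Dbl σ → ∀ g : S5, g 0 = 0 → Dbl (g * σ * g⁻¹) := by decide +kernel

theorem dbl_moves : ∀ δ : S5, Dbl δ → ∃ c d, b4 c (sv 0) = false ∧ b4 d (sv 0) = false ∧ q4 c = true ∧
    q4 d = true ∧ q4 (ad c d) = true ∧ act5 δ c = ad c (sv 0) ∧ act5 δ d = ad d (sv 0) := by decide +kernel

theorem dbl_two_fix : ∀ δ : S5, Dbl δ → ∀ ε : S5, Dbl ε → δ ≠ ε → ∀ c, act5 δ c = c → act5 ε c = c →
    c = z4 ∨ c = sv 0 := by decide +kernel

theorem dbl_rotate : ∀ δ : S5, Dbl δ → ∀ r : S5, r 0 = 0 → r * r * r = 1 → r ≠ 1 →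
    δ ≠ r * δ * r⁻¹ ∧ r * (r * δ * r⁻¹) * r⁻¹ = δ * (r * δ * r⁻¹) ∧ r * (δ * (r * δ * r⁻¹)) * r⁻¹ = δ := by
  decide +kernel

theorem swap_fix : ∀ i j : Fin 5, i ≠ 0 → j ≠ 0 → Equiv.swap i j (0 : Fin 5) = 0 := by decide +kernel

theorem b4_sv : ∀ i : Fin 5, i ≠ 0 → b4 (sv i) (sv 0) = true := by decide +kernel

namespace Setting

variable {G : Type*} [Group G] {z : G} {E : Subgroup G} {v : G → B4} {π : G → S5} {a : G}
  (S : Setting z E v π a)
include S

theorem InU_mul {x y : G} (hx : S.InU x) (hy : S.InU y) : S.InU (x * y) := by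
  refine ⟨(Cz z).mul_mem hx.1 hy.1, ?_, ?_⟩
  · exact (Commute.mul_left (show Commute x a from hx.2.1) (show Commute y a from hy.2.1)).eq
  · rw [S.p_mul x hx.1 y hy.1]
    exact dbl_closed _ hx.2.2 _ hy.2.2

theorem InU_inv {x : G} (hx : S.InU x) : S.InU x⁻¹ := by
  refine ⟨(Cz z).inv_mem hx.1, (Commute.inv_left (show Commute x a from hx.2.1)).eq, ?_⟩
  rw [S.p_inv hx.1]
  rcases hx.2.2 with e | e
  · exact Or.inl (by rw [e, inv_one])
  · rw [inv_eq_of_mul_eq_one_right e.2.1]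
    exact Or.inr e

/-- the subgroup -/
def U (S : Setting z E v π a) : Subgroup G where
  carrier := {h | S.InU h}
  one_mem' := ⟨(Cz z).one_mem, by rw [one_mul, mul_one], Or.inl S.p1⟩
  mul_mem' := fun {_ _} hx hy => S.InU_mul hx hy
  inv_mem' := fun {_} hx => S.InU_inv hx

theorem mem_U {h : G} : h ∈ S.U ↔ S.InU h := Iff.rfl

theorem U_le : S.U ≤ Cz z := fun _ h => h.1

theorem E_U {x : G} (hx : x ∈ E) (hc : x * a = a * x) : x ∈ S.U := ⟨S.ecz x hx, hc, Or.inl (S.p_E hx)⟩

theorem z_U : z ∈ S.U := S.E_U S.zE S.za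

theorem a_U : a ∈ S.U := S.E_U S.aE rfl

theorem inV_U {x : G} (h : S.inV x) : x ∈ S.U := by
  rcases h with rfl | rfl | rfl | rfl
  exacts [S.U.one_mem, S.z_U, S.a_U, S.U.mul_mem S.a_U S.z_U]

theorem U_pow8 {x : G} (hx : x ∈ S.U) : x ^ 8 = 1 := by
  refine S.pow8 hx.1 ?_
  rcases hx.2.2 with e | e
  · rw [e, one_mul]
  · exact e.2.1

theorem U_normal {h x : G} (hh : h ∈ Cz z) (hx : x ∈ S.U) : h * x * h⁻¹ ∈ S.U := by
  refine ⟨(Cz z).mul_mem ((Cz z).mul_mem hh hx.1) ((Cz z).inv_mem hh), ?_, ?_⟩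
  · have hxa : ∀ w : G, w = a ∨ w = a * z → x * w = w * x := by
      rintro w (rfl | rfl)
      · exact hx.2.1
      · exact (Commute.mul_right (show Commute x a from hx.2.1) (show Commute x z from mem_Cz.1 hx.1)).eq
    have hw : h⁻¹ * a * h = a ∨ h⁻¹ * a * h = a * z := by
      have := S.conj_a ((Cz z).inv_mem hh)
      rwa [inv_inv] at this
    calc h * x * h⁻¹ * a = h * (x * (h⁻¹ * a * h)) * h⁻¹ := by group
      _ = h * (h⁻¹ * a * h * x) * h⁻¹ := by rw [hxa _ hw]
      _ = a * (h * x * h⁻¹) := by group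
  · rw [S.p_conj hh hx.1]
    rcases hx.2.2 with e | e
    · exact Or.inl (by rw [e, mul_one, mul_inv_cancel])
    · exact Or.inr (dbl_normal _ e _ (S.p_zero h hh))

theorem dbl_U {d : G} (hd : d ∈ Cz z) (d2 : d * d = 1) (h : Dbl (π d)) : d ∈ S.U :=
  ⟨hd, S.dbl_a hd d2 h, Or.inr h⟩

theorem exists_three_a : ∃ r ∈ Cz z, r ^ 3 = 1 ∧ r ≠ 1 ∧ r * a = a * r := by
  obtain ⟨σ, h0, -, h3, h1⟩ := three_vec 0
  obtain ⟨r, hr, r3, r1, -, hc⟩ := S.exists_three h0 h0 h3 h1 S.aE S.va
  exact ⟨r, hr, r3, r1, hc⟩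

theorem three_image {r : G} (hr : r ∈ Cz z) (r3 : r ^ 3 = 1) (r1 : r ≠ 1) :
    π r * π r * π r = 1 ∧ π r ≠ 1 := by
  refine ⟨?_, fun e => ?_⟩
  · rw [← S.p_mul r hr r hr, ← S.p_mul _ ((Cz z).mul_mem hr hr) r hr,
      show r * r * r = r ^ 3 by simp only [pow_succ, pow_zero, one_mul], r3, S.p1]
  · have := S.E_pow4 ((S.p_one r hr).1 e)
    rw [pow_succ, r3, one_mul] at this
    exact r1 this

section pairs

variable {u : G} {E' : Subgroup G} {v' : G → B4} {π' : G → S5} {a' : G} (S' : Setting u E' v' π' a')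
  (hc : IsConj z u) (hu : u = a ∨ u = a * z)
include S' hc hu

theorem U_pair {h : G} (hh : h ∈ S.U) : h ∈ S'.U := by
  have cu : ∀ g : G, g ∈ Cz z → g * a = a * g → g ∈ Cz u := by
    intro g hg hga
    rw [mem_Cz]
    rcases hu with rfl | rfl
    · exact hga
    · exact (Commute.mul_right (show Commute g a from hga) (show Commute g z from mem_Cz.1 hg)).eq
  obtain ⟨r, hr, r3, r1, hra⟩ := S.exists_three_a
  have hh' : h ∈ Cz u := cu h hh.1 hh.2.1
  have hr' : r ∈ Cz u := cu r hr hra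
  refine ⟨hh', ?_, S'.trick hh' hr' r3 r1 (S.U_pow8 hh) (S.U_pow8 ?_)⟩
  · have hz : h * z = z * h := mem_Cz.1 hh.1
    rcases S.pair_sym S' hc hu with e | e
    · rw [← e]; exact hz
    · have e' : a' = z * u := by rw [e, mul_assoc, S'.z2, mul_one]
      rw [e']
      exact (Commute.mul_right (show Commute h z from hz) (show Commute h u from mem_Cz.1 hh')).eq
  · rw [show h * r * h * r⁻¹ = h * (r * h * r⁻¹) by group]
    exact S.U.mul_mem hh (S.U_normal hr hh)

end pairs

/-- there is an involution inducing a double transposition -/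
theorem exists_dbl (hza : IsConj z a) : ∃ d ∈ Cz z, d * d = 1 ∧ Dbl (π d) := by
  obtain ⟨-, E', v', π', a', S', -, -, -⟩ := S.at_conj hza
  have hzE' : z ∈ E' := S.z_mem S' S.aE S.va
  have hzv : v' z = sv 0 := (S'.pair_E (S.pair_sym S' hza (Or.inl rfl))).2
  obtain ⟨c, hq, hb⟩ := four_vec 0
  obtain ⟨x, hx, hvx⟩ := S'.v_surj c
  have hxz : x ∈ Cz z := mem_Cz.2 (S'.commE hx hzE' (by rw [hvx, hzv]; exact hb))
  have hxa : x * a = a * x := mem_Cz.1 (S'.ecz x hx)
  obtain ⟨r, hr, r3, r1, hra⟩ := S.exists_three_a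
  have hxx : x * x = a := by rw [S'.v_sq x hx, hvx, hq]; rfl
  have hxd : Dbl (π x) := by
    have x8 : x ^ 8 = 1 := by rw [show 8 = 4 + 4 from rfl, pow_add, S'.E_pow4 hx, one_mul]
    have y8 : (x * r * x * r⁻¹) ^ 8 = 1 := by
      have hy : x * r * x * r⁻¹ ∈ E' := by
        rw [show x * r * x * r⁻¹ = x * (r * x * r⁻¹) by group]
        exact E'.mul_mem hx (S'.enorm r (mem_Cz.2 hra) x hx)
      rw [show 8 = 4 + 4 from rfl, pow_add, S'.E_pow4 hy, one_mul]
    rcases S.trick hxz hr r3 r1 x8 y8 with e | e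
    · exfalso
      rcases S.sq x ((S.p_one x hxz).1 e) with h | h
      · exact S.a1 (hxx.symm.trans h)
      · exact S.az_ne (hxx.symm.trans h)
    · exact e
  obtain ⟨c1, c2, hb1, hb2, hq1, hq2, hq12, hm1, hm2⟩ := dbl_moves _ hxd
  obtain ⟨y1, hy1, hv1⟩ := S.v_surj c1
  obtain ⟨y2, hy2, hv2⟩ := S.v_surj c2
  -- either an involution, or the element fixes the class of `x`
  have key : ∀ y ∈ E, q4 (v y) = true → b4 (v y) (sv 0) = false → act5 (π x) (v y) = ad (v y) (sv 0) →
      (∃ d ∈ Cz z, d * d = 1 ∧ Dbl (π d)) ∨ act5 (π' y) (v' x) = v' x := by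
    intro y hy hqy hby hmy
    have hya : y * a = a * y := S.commE hy S.aE (by rw [S.va]; exact hby)
    have hyy : y * y = z := by rw [S.v_sq y hy, hqy]; rfl
    rcases S.mem_of_v (S.enorm x hxz y hy) (E.mul_mem hy S.aE)
      (by rw [S.p_act x hxz y hy, hmy, S.v_mul y hy a S.aE, S.va]) with e | e
    · right
      have hyC : y ∈ Cz a := mem_Cz.2 hya
      have hconj : y * (x * a) * y⁻¹ = x := by
        have hxy : x * y = y * a * x := mul_inv_eq_iff_eq_mul.1 e
        rw [hxa, ← mul_assoc, ← hxy, mul_inv_cancel_right]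
      have h := S'.p_act y hyC (x * a) (E'.mul_mem hx S'.zE)
      rw [hconj, S'.v_mul_z hx] at h
      exact h.symm
    · left
      refine ⟨x * y, (Cz z).mul_mem hxz (S.ecz y hy), ?_, by rw [S.p_mulE hxz hy]; exact hxd⟩
      calc x * y * (x * y) = x * y * x⁻¹ * (x * x) * y := by group
        _ = y * a * z * a * y := by rw [e, hxx]
        _ = y * (a * (z * a)) * y := by group
        _ = y * (a * a * z) * y := by rw [S.za, ← mul_assoc a]
        _ = y * (z * y) := by rw [S.a2, one_mul, mul_assoc]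
        _ = y * y * z := by rw [← mem_Cz.1 (S.ecz y hy), mul_assoc]
        _ = 1 := by rw [hyy, S.z2]
  rcases key y1 hy1 (hv1 ▸ hq1) (hv1 ▸ hb1) (hv1 ▸ hm1) with h | h1
  · exact h
  rcases key y2 hy2 (hv2 ▸ hq2) (hv2 ▸ hb2) (hv2 ▸ hm2) with h | h2
  · exact h
  exfalso
  have hd : ∀ y ∈ E, y * a = a * y → q4 (v y) = true → Dbl (π' y) := by
    intro y hy hya hqy
    have hU := S.U_pair S' hza (Or.inl rfl) (S.E_U hy hya)
    refine hU.2.2.resolve_left fun e => ?_
    have hyy : y * y = z := by rw [S.v_sq y hy, hqy]; rfl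
    rcases S'.sq y ((S'.p_one y hU.1).1 e) with h | h
    · exact S.z1 (hyy.symm.trans h)
    · exact S.az_ne (hyy.symm.trans h).symm
  have ha1 : y1 * a = a * y1 := S.commE hy1 S.aE (by rw [S.va, hv1]; exact hb1)
  have ha2 : y2 * a = a * y2 := S.commE hy2 S.aE (by rw [S.va, hv2]; exact hb2)
  have hd1 := hd y1 hy1 ha1 (hv1 ▸ hq1)
  have hd2 := hd y2 hy2 ha2 (hv2 ▸ hq2)
  have ha12 : y1 * y2 * a = a * (y1 * y2) := (Commute.mul_left (show Commute y1 a from ha1) ha2).eq
  have hd12 := hd (y1 * y2) (E.mul_mem hy1 hy2) ha12 (by rw [S.v_mul y1 hy1 y2 hy2, hv1, hv2, hq12])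
  have hne : π' y1 ≠ π' y2 := by
    intro e
    rw [S'.p_mul y1 (mem_Cz.2 ha1) y2 (mem_Cz.2 ha2), e] at hd12
    exact dbl_ne_one hd12 hd2.2.1
  rcases dbl_two_fix _ hd1 _ hd2 hne _ h1 h2 with h | h <;> rw [hvx] at h <;> rw [h] at hq <;>
    revert hq <;> decide +kernel

/-- an involution inducing a double transposition commutes with its images under elements of order three -/
theorem partner {e r : G} (he : e ∈ Cz z) (e2 : e * e = 1) (hd : Dbl (π e)) (hr : r ∈ Cz z) (r3 : r ^ 3 = 1)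
    (r1 : r ≠ 1) (hra : r * a = a * r) : e * (r * e * r⁻¹) = r * e * r⁻¹ * e := by
  obtain ⟨p3, p1'⟩ := S.three_image hr r3 r1
  obtain ⟨hne, hrot1, -⟩ := dbl_rotate _ hd _ (S.p_zero r hr) p3 p1'
  set e' := r * e * r⁻¹ with he'
  set e'' := r * e' * r⁻¹ with he''
  have hcl : ∀ x ∈ Cz z, r * x * r⁻¹ ∈ Cz z := fun x hx =>
    (Cz z).mul_mem ((Cz z).mul_mem hr hx) ((Cz z).inv_mem hr)
  have heC' : e' ∈ Cz z := hcl e he
  have heC'' : e'' ∈ Cz z := hcl e' heC'
  have e2' : e' * e' = 1 := by rw [he', ← S.conj_mul, e2]; group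
  have e2'' : e'' * e'' = 1 := by rw [he'', ← S.conj_mul, e2']; group
  have hd' : Dbl (π e') := by rw [he', S.p_conj hr he]; exact dbl_normal _ hd _ (S.p_zero r hr)
  have hp' : π e' = π r * π e * (π r)⁻¹ := S.p_conj hr he
  have hr3 : r * e'' * r⁻¹ = e := by
    rw [he'', he', show r * (r * (r * e * r⁻¹) * r⁻¹) * r⁻¹ = r ^ 3 * e * (r ^ 3)⁻¹ by
      simp only [pow_succ, pow_zero, one_mul, mul_inv_rev, mul_assoc], r3, one_mul, inv_one, mul_one]
  set f := e * e' * (e * e') with hf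
  have hfC : f ∈ Cz z := (Cz z).mul_mem ((Cz z).mul_mem he heC') ((Cz z).mul_mem he heC')
  have hcm : π e * π e' = π e' * π e := by
    have : ∀ δ : S5, Dbl δ → ∀ ε : S5, Dbl ε → δ * ε = ε * δ := by decide +kernel
    exact this _ hd _ hd'
  have hfE : f ∈ E := (S.p_one f hfC).1 (by
    rw [hf, S.p_mul _ ((Cz z).mul_mem he heC') _ ((Cz z).mul_mem he heC'), S.p_mul e he e' heC']
    calc π e * π e' * (π e * π e') = π e * π e' * (π e' * π e) := by rw [hcm]
      _ = π e * (π e' * π e') * π e := by group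
      _ = 1 := by rw [hd'.2.1, mul_one, hd.2.1])
  have ei : e⁻¹ = e := inv_eq_of_mul_eq_one_right e2
  have ei' : e'⁻¹ = e' := inv_eq_of_mul_eq_one_right e2'
  have hfV : S.inV f := by
    have hinv : f⁻¹ = e' * e * (e' * e) := by rw [hf, mul_inv_rev, mul_inv_rev, ei, ei']
    have h1 : e * f * e⁻¹ = f⁻¹ := by
      rw [hinv, ei, hf, show e * (e * e' * (e * e')) * e = e * e * (e' * e * (e' * e)) by group, e2, one_mul]
    have h2 : e' * f * e'⁻¹ = f⁻¹ := by
      rw [hinv, ei', hf, show e' * (e * e' * (e * e')) * e' = e' * e * e' * e * (e' * e') by group, e2',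
        mul_one]
      group
    have f1 : act5 (π e) (v f) = v f := by rw [← S.p_act e he f hfE, h1, S.v_inv hfE]
    have f2 : act5 (π e') (v f) = v f := by rw [← S.p_act e' heC' f hfE, h2, S.v_inv hfE]
    exact S.inV_of_v hfE (dbl_two_fix _ hd _ hd' (hp' ▸ hne) _ f1 f2)
  have hrf : r * f * r⁻¹ = f := by
    rcases hfV with h | h | h | h <;> rw [h]
    · group
    · exact S.conj_z hr
    · rw [hra, mul_inv_cancel_right]
    · rw [S.conj_mul, S.conj_z hr, hra, mul_inv_cancel_right]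
  have hff : f * f = 1 := by
    rcases hfV with h | h | h | h <;> rw [h]
    · exact one_mul 1
    · exact S.z2
    · exact S.a2
    · rw [show a * z * (a * z) = a * (z * a) * z by group, S.za, ← mul_assoc, S.a2, one_mul, S.z2]
  -- the third element
  set u := (e * e')⁻¹ * e'' with hu
  have huC : u ∈ Cz z := (Cz z).mul_mem ((Cz z).inv_mem ((Cz z).mul_mem he heC')) heC''
  have huE : u ∈ E := (S.p_one u huC).1 (by
    rw [hu, S.p_mul _ ((Cz z).inv_mem ((Cz z).mul_mem he heC')) _ heC'',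
      S.p_inv ((Cz z).mul_mem he heC'), S.p_mul e he e' heC', he'', S.p_conj hr heC', hp', hrot1,
      inv_mul_cancel])
  have hua : u * a = a * u := by
    have h1 : Commute e a := S.dbl_a he e2 hd
    have h2 : Commute e' a := S.dbl_a heC' e2' hd'
    have h3 : Commute e'' a := (S.dbl_a heC'' e2'' (by
      rw [he'', S.p_conj hr heC']; exact dbl_normal _ hd' _ (S.p_zero r hr)))
    exact ((h1.mul_left h2).inv_left.mul_left h3).eq
  have he2u : e'' = e * e' * u := by rw [hu, mul_inv_cancel_left]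
  have hfu : f * u = u * f := by
    rcases hfV with h | h | h | h <;> rw [h]
    · group
    · exact (mem_Cz.1 huC).symm
    · exact hua.symm
    · exact ((Commute.mul_left (show Commute a u from hua.symm)) (show Commute z u from (mem_Cz.1 huC).symm)).eq
  -- the three relations
  have R1 : e' * e'' * (e' * e'') = f := by
    have : r * f * r⁻¹ = e' * e'' * (e' * e'') := by
      rw [hf, S.conj_mul, S.conj_mul, ← he', ← he'']
    rw [← this, hrf]
  have R2 : e'' * e * (e'' * e) = f := by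
    have : r * (e' * e'' * (e' * e'')) * r⁻¹ = e'' * e * (e'' * e) := by
      rw [S.conj_mul, S.conj_mul, ← he'', hr3]
    rw [← this, R1, hrf]
  obtain ⟨A, hA⟩ : ∃ A, A = e * u * e := ⟨_, rfl⟩
  obtain ⟨B, hB⟩ : ∃ B, B = e * e' * u * e' * e := ⟨_, rfl⟩
  have k : e' * e * e' = e * f := by
    rw [hf, show e * (e * e' * (e * e')) = e * e * (e' * e * e') by group, e2, one_mul]
  have eq1 : A * u = f := by
    have hcf : ∀ x, x * f = f * x → f * x * f = x := fun x hx => by rw [← hx, mul_assoc, hff, mul_one]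
    calc A * u = e * u * e * u := by rw [hA]
      _ = e * (f * u * f) * e * u := by rw [hcf u hfu.symm]
      _ = e * f * u * (e * f)⁻¹ * u := by
          rw [mul_inv_rev, ei, inv_eq_of_mul_eq_one_right hff]; group
      _ = e' * e * e' * u * (e' * e * e') * u := by
          rw [← k]; simp only [mul_inv_rev, ei, ei', mul_assoc]
      _ = e' * (e * e' * u) * (e' * (e * e' * u)) := by group
      _ = f := by rw [← he2u]; exact R1
  have eq2 : B * f * u = 1 := by
    calc B * f * u = e * e' * u * e' * e * (e * e' * (e * e')) * u := by rw [hB, hf]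
      _ = e * e' * u * e' * (e * e) * e' * e * e' * u := by group
      _ = e * e' * u * (e' * e') * e * e' * u := by rw [e2]; group
      _ = e * e' * u * (e * e' * u) := by rw [e2']; group
      _ = 1 := by rw [← he2u, e2'']
  have eq3 : B * A = f := by
    calc B * A = e * e' * u * e' * (e * e) * u * e := by rw [hA, hB]; group
      _ = e * e' * u * e' * u * e := by rw [e2, mul_one]
      _ = e * e' * u * (e * e) * e' * u * e := by rw [e2, mul_one]
      _ = e * e' * u * e * (e * e' * u * e) := by group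
      _ = f := by rw [← he2u]; exact R2
  have hA' : A = f * u⁻¹ := by rw [← eq1, mul_inv_cancel_right]
  have hB' : B = u⁻¹ * f⁻¹ := by
    rw [← mul_inv_rev]; exact eq_inv_of_mul_eq_one_left (by rw [← mul_assoc]; exact eq2)
  have huu : f = u⁻¹ * u⁻¹ := by
    calc f = B * A := eq3.symm
      _ = u⁻¹ * u⁻¹ := by rw [hA', hB']; group
  have hsq : u⁻¹ * u⁻¹ = u * u := by
    rw [← mul_inv_rev]
    rcases S.sq u huE with h | h <;> rw [h]
    · exact inv_one
    · exact S.zinv
  have heu : e * u = u * e := by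
    have hAu : A = u := by rw [hA', huu, hsq]; group
    calc e * u = A * e := by rw [hA, mul_assoc _ e e, e2, mul_one]
      _ = u * e := by rw [hAu]
  have huV := S.dbl_cent he e2 hd huE heu
  have hu2 : u * u = 1 := by
    rcases huV with h | h | h | h <;> rw [h]
    · exact one_mul 1
    · exact S.z2
    · exact S.a2
    · rw [show a * z * (a * z) = a * (z * a) * z by group, S.za, ← mul_assoc, S.a2, one_mul, S.z2]
  rw [hsq, hu2] at huu
  calc e * e' = e * e' * (e * e') * (e' * e) := by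
        rw [show e * e' * (e * e') * (e' * e) = e * e' * e * (e' * e') * e by group, e2', mul_one, mul_assoc,
          e2, mul_one]
    _ = e' * e := by rw [← hf, huu, one_mul]

/-- the only conjugate of `z` commuting with `z` and `b` is `z` -/
theorem b_isolated {b : G} (hb : b ∈ E) {i : Fin 5} (hi : i ≠ 0) (hvb : v b = sv i) {t : G}
    (hc : IsConj z t) (ht : t ∈ Cz z) (htb : t * b = b * t) : t = z := by
  have hab : a * b ≠ b * a := fun e => by
    have := S.bit_comm hb S.aE e.symm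
    rw [hvb, S.va, b4_sv i hi] at this
    exact Bool.noConfusion this
  rcases S.conj_C hc ht with h | h | h | h
  · exact h
  · exact absurd (h ▸ htb) hab
  · rw [h] at htb
    refine absurd ?_ hab
    have hzb : z * b = b * z := (mem_Cz.1 (S.ecz b hb)).symm
    calc a * b = a * z * b * z := by rw [mul_assoc a z b, hzb, ← mul_assoc a, mul_assoc (a * b), S.z2, mul_one]
      _ = b * (a * z) * z := by rw [htb]
      _ = b * a := by rw [mul_assoc b, mul_assoc a, S.z2, mul_one]
  · exfalso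
    refine dbl_no_fix h hi ?_
    have e := S.p_act t ht b hb
    rw [show t * b * t⁻¹ = b from mul_inv_eq_iff_eq_mul.2 htb, hvb, act5_sv] at e
    exact (sv_facts.2.1 _ _ e).symm

/-- conjugates of `b` in the centraliser of `z` are conjugate there -/
theorem b_rigid [Finite G] {b : G} (hb : b ∈ E) {i : Fin 5} (hi : i ≠ 0) (hvb : v b = sv i) {w : G}
    (hw : w ∈ Cz z) (hc : IsConj b w) : ∃ h ∈ Cz z, h * b * h⁻¹ = w := by
  obtain ⟨g, rfl⟩ := isConj_iff.1 hc
  set z' := g⁻¹ * z * g with hz'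
  have hz'2 : z' * z' = 1 := by
    rw [hz', show g⁻¹ * z * g * (g⁻¹ * z * g) = g⁻¹ * (z * z) * g by group, S.z2]; group
  have hbz : Commute b z := mem_Cz.1 (S.ecz b hb)
  have hbz' : Commute b z' := by
    show b * (g⁻¹ * z * g) = g⁻¹ * z * g * b
    calc b * (g⁻¹ * z * g) = g⁻¹ * (g * b * g⁻¹ * z) * g := by group
      _ = g⁻¹ * (z * (g * b * g⁻¹)) * g := by rw [mem_Cz.1 hw]
      _ = g⁻¹ * z * g * b := by group
  have hzz' : IsConj z z' := isConj_iff.2 ⟨g⁻¹, by rw [hz', inv_inv]⟩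
  rcases OmegaEightCent.two_invols S.z2 hz'2 with ⟨c, hcz, hcb⟩ | ⟨e, -, e1, hez, -, hor, he⟩
  · refine ⟨g * c, ?_, ?_⟩
    · rw [mem_Cz]
      have h1 : c * z = z' * c := mul_inv_eq_iff_eq_mul.1 hcz
      calc g * c * z = g * (z' * c) := by rw [mul_assoc, h1]
        _ = z * (g * c) := by rw [hz']; group
    · have := (hcb b hbz hbz').eq
      calc g * c * b * (g * c)⁻¹ = g * (c * b) * c⁻¹ * g⁻¹ := by group
        _ = g * b * g⁻¹ := by rw [← this]; group
  · exfalso
    have hze : IsConj z (z * e) := by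
      rcases hor with ⟨h, -⟩ | ⟨h, -⟩
      · exact h
      · exact hzz'.trans h
    have hC : z * e ∈ Cz z := (Cz z).mul_mem S.zH (mem_Cz.2 hez.eq)
    have := S.b_isolated hb hi hvb hze hC ((hbz.symm.mul_left (he b hbz hbz').symm)).eq
    exact e1 (mul_eq_left.1 this)

/-- the other singular elements are conjugate in the centraliser -/
theorem b_conj {x y : G} (hx : x ∈ E) {i : Fin 5} (hi : i ≠ 0) (hvx : v x = sv i) (hy : y ∈ E) {j : Fin 5}
    (hj : j ≠ 0) (hvy : v y = sv j) : ∃ h ∈ Cz z, h * x * h⁻¹ = y := by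
  obtain ⟨g, hg, hgσ⟩ := S.p_surj (Equiv.swap i j) (swap_fix i j hi hj)
  have hgx : v (g * x * g⁻¹) = v y := by rw [S.p_act g hg x hx, hgσ, hvx, act5_sv, Equiv.swap_apply_left, hvy]
  rcases S.mem_of_v (S.enorm g hg x hx) hy hgx with e | e
  · exact ⟨g, hg, e⟩
  · obtain ⟨f, hf, hfy⟩ := S.flip hy (by rw [hvy]; exact (sv_facts.1 j).2)
    refine ⟨f * g, (Cz z).mul_mem (S.ecz f hf) hg, ?_⟩
    rw [show f * g * x * (f * g)⁻¹ = f * (g * x * g⁻¹) * f⁻¹ by group, e, S.conj_mul, hfy, S.conj_z (S.ecz f hf),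
      mul_assoc, S.z2, mul_one]

end Setting

end CfsgLib.MinusFourSymFour
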